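import Groth.Agent.CalgC.DimFT
import Mathlib.Algebra.MvPolynomial.Funext

/-!
# The cone over a closed subset of codimension two lies in a hypersurface
-/

set_option autoImplicit false
universe u v

namespace K986.Cone

open MvPolynomial

/-- an algebra map from a polynomial ring to an algebra of smaller dimension is not injective -/
theorem exists_ne_zero_map_eq_zero {k : Type u} {C : Type v} [Field k] [CommRing C] [Algebra k C]
    [Algebra.FiniteType k C] (n : ℕ) (hdim : ringKrullDim C + 1 ≤ (n : WithBot ℕ∞))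
    (φ : MvPolynomial (Fin n) k →ₐ[k] C) : ∃ h : MvPolynomial (Fin n) k, h ≠ 0 ∧ φ h = 0 := by
  by_contra hcon
  push Not at hcon
  have hinj : Function.Injective φ := by
    rw [injective_iff_map_eq_zero]
    intro a ha
    by_contra h0
    exact hcon a h0 ha
  have hbot : (⊥ : Ideal (MvPolynomial (Fin n) k)) ∈ (Ideal.comap φ.toRingHom ⊥).minimalPrimes := by
    have : Ideal.comap φ.toRingHom ⊥ = ⊥ := (RingHom.injective_iff_ker_eq_bot φ.toRingHom).1 hinj
    rw [this]
    have hp : (⊥ : Ideal (MvPolynomial (Fin n) k)).IsPrime := Ideal.isPrime_bot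
    rw [Ideal.minimalPrimes_eq_subsingleton_self]
    rfl
  obtain ⟨p, hp, hp'⟩ := Ideal.exists_minimalPrimes_comap_eq φ.toRingHom ⊥ hbot
  have hpp : p.IsPrime := hp.1.1
  let ψ : MvPolynomial (Fin n) k →ₐ[k] (C ⧸ p) := (Ideal.Quotient.mkₐ k p).comp φ
  have hψ : Function.Injective ψ := by
    rw [injective_iff_map_eq_zero]
    intro a ha
    have h1 : φ a ∈ p := Ideal.Quotient.eq_zero_iff_mem.1 ha
    have h2 : a ∈ Ideal.comap φ.toRingHom p := h1
    rw [hp'] at h2
    exact h2
  obtain ⟨d, hd1, hd2, -⟩ := Groth.Agent.CalgC.DimFT.exists_dim k (C ⧸ p)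
  have h1 := lift_trdeg_le_of_injective ψ hψ
  rw [MvPolynomial.trdeg_of_isDomain, hd2] at h1
  have h2 : n ≤ d := by simpa using h1
  have h3 : ringKrullDim (C ⧸ p) ≤ ringKrullDim C := ringKrullDim_quotient_le p
  rw [hd1] at h3
  have h4 : ((d : WithBot ℕ∞)) + 1 ≤ n := (add_le_add_left h3 1).trans hdim
  have h5 : ((d + 1 : ℕ) : WithBot ℕ∞) ≤ (n : ℕ) := by
    push_cast
    exact h4
  have h6 : d + 1 ≤ n := by exact_mod_cast h5
  omega

/-- abstract form of the cone construction -/
theorem exists_cone' {k : Type u} [Field k] (n : ℕ) (A : Type u) [CommRing A] [Algebra k A]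
    [Algebra.FiniteType k A] (hA : ringKrullDim A + 2 ≤ (n : WithBot ℕ∞)) (a : Fin n → A) :
    ∃ h : MvPolynomial (Fin n) k, h ≠ 0 ∧
      ∀ (K : Type v) [Field K] [Algebra k K] (ev : A →ₐ[k] K) (c : K),
        aeval (fun i => c * ev (a i)) h = 0 := by
  have : IsNoetherianRing A := Algebra.FiniteType.isNoetherianRing k A
  have hdim : ringKrullDim (Polynomial A) + 1 ≤ (n : WithBot ℕ∞) := by
    rw [Polynomial.ringKrullDim_of_isNoetherianRing, add_assoc]
    exact hA
  have : Algebra.FiniteType k (Polynomial A) :=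
    Algebra.FiniteType.trans (S := A) inferInstance inferInstance
  let φ : MvPolynomial (Fin n) k →ₐ[k] Polynomial A :=
    aeval fun i => (Polynomial.X * Polynomial.C (a i) : Polynomial A)
  obtain ⟨h, h0, hh⟩ := exists_ne_zero_map_eq_zero n hdim φ
  refine ⟨h, h0, ?_⟩
  intro K _ _ ev c
  let E : Polynomial A →ₐ[k] K :=
    ((Polynomial.aeval c : Polynomial K →ₐ[K] K).restrictScalars k).comp (Polynomial.mapAlgHom ev)
  have key : E.comp φ = aeval fun i => c * ev (a i) := by
    apply MvPolynomial.algHom_ext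
    intro i
    rw [AlgHom.comp_apply, aeval_X, aeval_X]
    simp only [E, AlgHom.comp_apply, map_mul, Polynomial.coe_mapAlgHom, Polynomial.map_X,
      Polynomial.map_C, AlgHom.restrictScalars_apply, Polynomial.aeval_X, Polynomial.aeval_C,
      Algebra.algebraMap_self, RingHom.id_apply]
    rfl
  rw [← key, AlgHom.comp_apply, hh, map_zero]

/-- the cone over a closed subset of codimension at least two lies in a hypersurface -/
theorem exists_cone {k : Type u} [Field k] (n : ℕ) (I : Ideal (MvPolynomial (Fin n) k))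
    (hI : ringKrullDim (MvPolynomial (Fin n) k ⧸ I) + 2 ≤ (n : WithBot ℕ∞)) :
    ∃ h : MvPolynomial (Fin n) k, h ≠ 0 ∧
      ∀ (K : Type v) [Field K] [Algebra k K] (x : Fin n → K) (c : K),
        (∀ g ∈ I, aeval x g = 0) → aeval (fun i => c * x i) h = 0 := by
  obtain ⟨h, h0, hh⟩ := exists_cone'.{u, v} (k := k) n (MvPolynomial (Fin n) k ⧸ I) hI
    (fun i => Ideal.Quotient.mk I (X i))
  refine ⟨h, h0, ?_⟩
  intro K _ _ x c hx
  have h1 := hh K (Ideal.Quotient.liftₐ I (aeval x) hx) c
  convert h1 using 3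
  ext i
  congr 1
  exact (aeval_X x i).symm

end K986.Cone
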