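import Groth.Agent.NumberField.K986.PolyVal
import Groth.Agent.NumberField.K986.Cone

/-!
# Strong approximation for the complement of a closed subset of codimension two of affine space
-/

set_option autoImplicit false
universe u
open NumberField IsDedekindDomain

namespace K986.CodimTwo

open StrongApprox PolyVal

/-- a family of polynomials in one variable without common zero generates the unit ideal -/
theorem exists_bezout {k : Type u} [Field k] {m : ℕ} (g : Fin m → Polynomial k)
    (hg : ∀ (K : Type u) [Field K] [Algebra k K] (t : K), ∃ j, Polynomial.aeval t (g j) ≠ 0) :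
    ∃ u : Fin m → Polynomial k, ∑ j, u j * g j = 1 := by
  have h1 : Ideal.span (Set.range g) = ⊤ := by
    by_contra hne
    obtain ⟨M, hM, hM'⟩ := Ideal.exists_le_maximal _ hne
    let _ : Field (Polynomial k ⧸ M) := Ideal.Quotient.field M
    obtain ⟨j, hj⟩ := hg (Polynomial k ⧸ M) (Ideal.Quotient.mk M Polynomial.X)
    apply hj
    have h2 : Polynomial.aeval (Ideal.Quotient.mk M Polynomial.X) (g j) =
        Ideal.Quotient.mk M (g j) := by
      have h3 := Polynomial.aeval_algHom_apply (Ideal.Quotient.mkₐ k M) Polynomial.X (g j)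
      rw [Polynomial.aeval_X_left_apply] at h3
      exact h3
    rw [h2, Ideal.Quotient.eq_zero_iff_mem]
    exact hM' (Ideal.subset_span ⟨j, rfl⟩)
  have h2 : (1 : Polynomial k) ∈ Ideal.span (Set.range g) := by rw [h1]; trivial
  rw [Ideal.mem_span_range_iff_exists_fun] at h2
  exact h2

theorem aeval_algebraMap' {k K σ : Type*} [CommRing k] [CommRing K] [Algebra k K] (x : σ → k)
    (p : MvPolynomial σ k) :
    MvPolynomial.aeval (fun i => algebraMap k K (x i)) p = algebraMap k K (MvPolynomial.aeval x p) :=
  MvPolynomial.aeval_algebraMap_apply K x p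

/-- restriction of a polynomial to a line -/
noncomputable def line {k : Type u} [Field k] {n : ℕ} (P d : Fin n → k)
    (F : MvPolynomial (Fin n) k) : Polynomial k :=
  MvPolynomial.aeval (fun i => Polynomial.C (P i) + Polynomial.X * Polynomial.C (d i)) F

theorem aeval_line {k : Type u} [Field k] {n : ℕ} (P d : Fin n → k)
    (F : MvPolynomial (Fin n) k) (K : Type*) [CommRing K] [Algebra k K] (t : K) :
    Polynomial.aeval t (line P d F) =
      MvPolynomial.aeval (fun i => algebraMap k K (P i) + t * algebraMap k K (d i)) F := by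
  unfold line
  have key : ((Polynomial.aeval t : Polynomial k →ₐ[k] K).comp
      (MvPolynomial.aeval (fun i => Polynomial.C (P i) + Polynomial.X * Polynomial.C (d i)))) =
      MvPolynomial.aeval (fun i => algebraMap k K (P i) + t * algebraMap k K (d i)) := by
    apply MvPolynomial.algHom_ext
    intro i
    rw [AlgHom.comp_apply, MvPolynomial.aeval_X, MvPolynomial.aeval_X, map_add, map_mul,
      Polynomial.aeval_X, Polynomial.aeval_C, Polynomial.aeval_C]
  rw [← key]
  rfl

/-- a point outside a closed subset of codimension two lies on a line avoiding it, of given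
direction modulo finitely many primes -/
theorem exists_line {k : Type u} [Field k] [NumberField k] {n m : ℕ}
    (F : Fin m → MvPolynomial (Fin n) k)
    (hcodim : ringKrullDim (MvPolynomial (Fin n) k ⧸ Ideal.span (Set.range F)) + 2 ≤
      (n : WithBot ℕ∞))
    (P : Fin n → k) (hP : ∃ j, MvPolynomial.aeval P (F j) ≠ 0)
    (B : Finset (HeightOneSpectrum (𝓞 k)))
    (e : HeightOneSpectrum (𝓞 k) → Fin n → k) (he : ∀ v ∈ B, ∀ i, v.valuation k (e v i) ≤ 1) :
    ∃ d : Fin n → 𝓞 k, (∀ v ∈ B, ∀ i, v.valuation k ((d i : k) - e v i) < 1) ∧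
      ∃ u : Fin m → Polynomial k, ∑ j, u j * line P (fun i => (d i : k)) (F j) = 1 := by
  obtain ⟨h, h0, hh⟩ := Cone.exists_cone'.{u, u} (k := k) n
    (MvPolynomial (Fin n) k ⧸ Ideal.span (Set.range F)) hcodim
    (fun i => Ideal.Quotient.mk _ (MvPolynomial.X i - MvPolynomial.C (P i)))
  obtain ⟨d, hd1, hd2⟩ := exists_eval_ne_zero n h h0 B e he
  refine ⟨d, hd1, exists_bezout _ ?_⟩
  intro K _ _ t
  by_contra hcon
  push Not at hcon
  simp only [aeval_line] at hcon
  have hv : ∀ g ∈ Ideal.span (Set.range F), MvPolynomial.aeval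
      (fun i => algebraMap k K (P i) + t * algebraMap k K (d i : k)) g = 0 := by
    intro g hg
    have : Ideal.span (Set.range F) ≤ RingHom.ker (MvPolynomial.aeval
      (fun i => algebraMap k K (P i) + t * algebraMap k K (d i : k)) :
        MvPolynomial (Fin n) k →ₐ[k] K) := by
      rw [Ideal.span_le]
      rintro _ ⟨j, rfl⟩
      exact hcon j
    exact this hg
  have ht : t ≠ 0 := by
    rintro rfl
    obtain ⟨j, hj⟩ := hP
    have h1 := hcon j
    simp only [zero_mul, add_zero] at h1
    rw [aeval_algebraMap', map_eq_zero] at h1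
    exact hj h1
  let ev : (MvPolynomial (Fin n) k ⧸ Ideal.span (Set.range F)) →ₐ[k] K :=
    Ideal.Quotient.liftₐ _ (MvPolynomial.aeval
      (fun i => algebraMap k K (P i) + t * algebraMap k K (d i : k))) hv
  have h2 := hh K ev t⁻¹
  have h3 : ∀ i, t⁻¹ * ev (Ideal.Quotient.mk _ (MvPolynomial.X i - MvPolynomial.C (P i))) =
      algebraMap k K (d i : k) := by
    intro i
    have h4 : ev (Ideal.Quotient.mk _ (MvPolynomial.X i - MvPolynomial.C (P i))) =
        t * algebraMap k K (d i : k) := by
      have h5 : ev (Ideal.Quotient.mk _ (MvPolynomial.X i - MvPolynomial.C (P i))) =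
        MvPolynomial.aeval (fun i => algebraMap k K (P i) + t * algebraMap k K (d i : k))
          (MvPolynomial.X i - MvPolynomial.C (P i)) := rfl
      rw [h5, map_sub, MvPolynomial.aeval_X, MvPolynomial.algHom_C]
      ring
    rw [h4, inv_mul_cancel_left₀ ht]
  simp only [h3] at h2
  rw [aeval_algebraMap', map_eq_zero] at h2
  exact hd2 h2

end K986.CodimTwo
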