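import Groth.Agent.NumberField.K986.CodimTwo

/-!
# Strong approximation for the complement of a closed subset of codimension two: main theorem
-/

set_option autoImplicit false
universe u
open NumberField IsDedekindDomain

namespace K986.CodimTwoMain

open StrongApprox PolyVal CodimTwo

variable {k : Type u} [Field k] [NumberField k]

/-- the set of unit values is open -/
theorem isOpen_valued_eq_one (v : HeightOneSpectrum (𝓞 k)) :
    IsOpen {y : v.adicCompletion k | Valued.v y = 1} := by
  rw [isOpen_iff_forall_mem_open]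
  intro x hx
  refine ⟨{y | Valued.v (y - x) < 1}, ?_, isOpen_ball v x 1, by simp⟩
  intro y hy
  change Valued.v y = 1
  have e : y = x + (y - x) := by ring
  rw [e, Valuation.map_add_eq_of_lt_left _ (by rw [show Valued.v x = 1 from hx]; exact hy)]
  exact hx

theorem isOpen_valued_le_one (v : HeightOneSpectrum (𝓞 k)) :
    IsOpen {y : v.adicCompletion k | Valued.v y ≤ 1} := by
  have := isOpen_closedBall (K := k) v 0 (γ := 1) one_ne_zero
  simpa using this

variable {n m : ℕ} (f : Fin m → MvPolynomial (Fin n) (𝓞 k))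

/-- the polynomial over `k` -/
noncomputable abbrev Fk (j : Fin m) : MvPolynomial (Fin n) k :=
  MvPolynomial.map (algebraMap (𝓞 k) k) (f j)

/-- good points at `v` -/
def Good (v : HeightOneSpectrum (𝓞 k)) (x : Fin n → k) : Prop :=
  (∀ i, v.valuation k (x i) ≤ 1) ∧ ∃ j, v.valuation k (MvPolynomial.aeval x (Fk f j)) = 1

variable {f}

omit [NumberField k] in
theorem aeval_Fk {K : Type*} [CommRing K] [Algebra k K] [Algebra (𝓞 k) K]
    [IsScalarTower (𝓞 k) k K] (x : Fin n → K) (j : Fin m) :
    MvPolynomial.aeval x (Fk f j) = MvPolynomial.aeval x (f j) :=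
  MvPolynomial.aeval_map_algebraMap k x (f j)

theorem Good.of_near {v : HeightOneSpectrum (𝓞 k)} {x y : Fin n → k} (hy : Good f v y)
    (hx : ∀ i, v.valuation k (x i) ≤ 1) (hxy : ∀ i, v.valuation k (x i - y i) < 1) :
    Good f v x := by
  obtain ⟨h1, j, hj⟩ := hy
  refine ⟨hx, j, ?_⟩
  rw [aeval_Fk] at hj ⊢
  exact aeval_eq_one_of_near (v.valuation k) (fun a => v.valuation_le_one a) (f j) x y hx h1 hxy hj

theorem exists_good {v : HeightOneSpectrum (𝓞 k)} {R : Fin n → v.adicCompletion k}
    (hR : ∀ i, R i ∈ v.adicCompletionIntegers k)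
    (hj : ∃ j, Valued.v (MvPolynomial.aeval R (Fk f j)) = 1) :
    ∃ x : Fin n → k, Good f v x := by
  obtain ⟨j, hj⟩ := hj
  have h1 : ∀ i, ∃ x : k, Valued.v (algebraMap k (v.adicCompletion k) x - R i) < 1 := by
    intro i
    obtain ⟨x, hx⟩ := (HeightOneSpectrum.denseRange_algebraMap (K := k) v).exists_mem_open
      (isOpen_ball v (R i) 1) ⟨R i, by simp⟩
    exact ⟨x, hx⟩
  choose x hx using h1
  have hx1 : ∀ i, Valued.v (algebraMap k (v.adicCompletion k) (x i)) ≤ 1 := by
    intro i
    have e : algebraMap k (v.adicCompletion k) (x i) =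
      (algebraMap k (v.adicCompletion k) (x i) - R i) + R i := by ring
    rw [e]
    exact (Valued.v.map_add _ _).trans (max_le (hx i).le (hR i))
  refine ⟨x, fun i => ?_, j, ?_⟩
  · rw [← valued_algebraMap]
    exact hx1 i
  · rw [← valued_algebraMap, ← aeval_algebraMap', aeval_Fk]
    rw [aeval_Fk] at hj
    refine aeval_eq_one_of_near (Valued.v : Valuation (v.adicCompletion k) _) ?_ (f j) _ R hx1
      (fun i => hR i) hx hj
    intro a
    have : algebraMap (𝓞 k) (v.adicCompletion k) a = algebraMap k (v.adicCompletion k) a := rfl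
    rw [this, valued_algebraMap]
    exact v.valuation_le_one a

theorem eval_le_one {K Γ : Type*} [Field K] [LinearOrderedCommGroupWithZero Γ] (v : Valuation K Γ)
    (p : Polynomial K) (hp : ∀ i, v (p.coeff i) ≤ 1) (t : K) (ht : v t ≤ 1) :
    v (p.eval t) ≤ 1 := by
  rw [Polynomial.eval_eq_sum_range]
  refine v.map_sum_le fun i _ => ?_
  rw [map_mul, map_pow]
  exact mul_le_one' (hp i) (pow_le_one' ht i)

variable (f)

open Classical in
theorem main
    (hcodim : ringKrullDim (MvPolynomial (Fin n) k ⧸ Ideal.span (Set.range fun j => Fk f j)) + 2 ≤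
      (n : WithBot ℕ∞))
    (v₀ : HeightOneSpectrum (𝓞 k)) (Sf : Finset (HeightOneSpectrum (𝓞 k))) (hv₀ : v₀ ∈ Sf)
    (Pf : (v : HeightOneSpectrum (𝓞 k)) → (Fin n → v.adicCompletion k))
    (Nf : (v : HeightOneSpectrum (𝓞 k)) → Set (Fin n → v.adicCompletion k))
    (hNf : ∀ v ∈ Sf, v ≠ v₀ → IsOpen (Nf v) ∧ Pf v ∈ Nf v)
    (Pi : (w : InfinitePlace k) → (Fin n → w.Completion))
    (hPi : ∀ w, ∃ j, MvPolynomial.aeval (Pi w) (Fk f j) ≠ 0)
    (Ni : (w : InfinitePlace k) → Set (Fin n → w.Completion))
    (hNi : ∀ w, IsOpen (Ni w) ∧ Pi w ∈ Ni w)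
    (T : Finset (HeightOneSpectrum (𝓞 k))) (hT : Disjoint T Sf)
    (Q : (v : HeightOneSpectrum (𝓞 k)) → (Fin n → v.adicCompletion k))
    (hQ : ∀ v ∈ T, (∀ i, Q v i ∈ v.adicCompletionIntegers k) ∧
      ∃ j, Valued.v (MvPolynomial.aeval (Q v) (Fk f j)) = 1)
    (W : (v : HeightOneSpectrum (𝓞 k)) → Set (Fin n → v.adicCompletion k))
    (hW : ∀ v ∈ T, IsOpen (W v) ∧ Q v ∈ W v)
    (hne : ∀ v : HeightOneSpectrum (𝓞 k), v ∉ Sf → ∃ R : Fin n → v.adicCompletion k,
      (∀ i, R i ∈ v.adicCompletionIntegers k) ∧ ∃ j, Valued.v (MvPolynomial.aeval R (Fk f j)) = 1) :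
    ∃ P : Fin n → k,
      (∀ v : HeightOneSpectrum (𝓞 k), v ∉ Sf → Good f v P) ∧
      (∀ v ∈ Sf, v ≠ v₀ → (fun i => algebraMap k (v.adicCompletion k) (P i)) ∈ Nf v) ∧
      (∀ w : InfinitePlace k, (fun i => algebraMap k w.Completion (P i)) ∈ Ni w) ∧
      (∀ v ∈ T, (fun i => algebraMap k (v.adicCompletion k) (P i)) ∈ W v) := by
  -- step 1: a first approximation `P`
  choose jw hjw using hPi
  have hT' : ∀ v ∈ T, v ∉ Sf := fun v hv hv' => (Finset.disjoint_left.1 hT hv) hv'
  obtain ⟨P, hP1, hP2, hP3⟩ : ∃ P : Fin n → k,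
      (∀ v ∈ Sf ∪ T, v ≠ v₀ → (fun i => algebraMap k (v.adicCompletion k) (P i)) ∈
        (if v ∈ Sf then Nf v else {x | x ∈ W v ∧ (∀ i, Valued.v (x i) ≤ 1) ∧
          ∃ j, Valued.v (MvPolynomial.aeval x (Fk f j)) = 1})) ∧
      (∀ w : InfinitePlace k, (fun i => algebraMap k w.Completion (P i)) ∈
        {x | x ∈ Ni w ∧ MvPolynomial.aeval x (Fk f (jw w)) ≠ 0}) ∧
      ∀ v ∉ Sf ∪ T, v ≠ v₀ → ∀ i, v.valuation k (P i) ≤ 1 := by
    refine strong_approx_pi n v₀ (Sf ∪ T) _ ?_ _ ?_
    · intro v hv hv0
      by_cases hvS : v ∈ Sf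
      · simp only [if_pos hvS]
        exact ⟨(hNf v hvS hv0).1, _, (hNf v hvS hv0).2⟩
      · have hvT : v ∈ T := by
          rcases Finset.mem_union.1 hv with h | h
          · exact absurd h hvS
          · exact h
        simp only [if_neg hvS]
        refine ⟨?_, Q v, (hW v hvT).2, fun i => (hQ v hvT).1 i, (hQ v hvT).2⟩
        refine (hW v hvT).1.inter (IsOpen.inter ?_ ?_)
        · have : {x : Fin n → v.adicCompletion k | ∀ i, Valued.v (x i) ≤ 1} =
              ⋂ i, (fun x : Fin n → v.adicCompletion k => x i) ⁻¹' {y | Valued.v y ≤ 1} := by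
            ext x; simp
          change IsOpen {x : Fin n → v.adicCompletion k | ∀ i, Valued.v (x i) ≤ 1}
          rw [this]
          exact isOpen_iInter_of_finite fun i => (isOpen_valued_le_one v).preimage
            (continuous_apply i)
        · have : {x : Fin n → v.adicCompletion k | ∃ j, Valued.v (MvPolynomial.aeval x (Fk f j)) = 1} =
              ⋃ j, (fun x : Fin n → v.adicCompletion k => MvPolynomial.aeval x (Fk f j)) ⁻¹'
                {y | Valued.v y = 1} := by
            ext x; simp
          change IsOpen {x : Fin n → v.adicCompletion k |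
            ∃ j, Valued.v (MvPolynomial.aeval x (Fk f j)) = 1}
          rw [this]
          exact isOpen_iUnion fun j => (isOpen_valued_eq_one v).preimage (continuous_aeval _)
    · intro w
      refine ⟨(hNi w).1.inter ?_, Pi w, (hNi w).2, hjw w⟩
      exact isOpen_ne.preimage (continuous_aeval (Fk f (jw w)))
  -- `P` is integral outside `Sf`
  have hPint : ∀ v ∉ Sf, ∀ i, v.valuation k (P i) ≤ 1 := by
    intro v hv i
    have hv0 : v ≠ v₀ := by rintro rfl; exact hv hv₀
    by_cases hvT : v ∈ T
    · have h1 := hP1 v (Finset.mem_union_right _ hvT) hv0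
      simp only [if_neg hv] at h1
      have h2 := h1.2.1 i
      rwa [valued_algebraMap] at h2
    · exact hP3 v (by simp [hv, hvT]) hv0 i
  have hPT : ∀ v ∈ T, Good f v P := by
    intro v hvT
    have hv := hT' v hvT
    have hv0 : v ≠ v₀ := by rintro rfl; exact hv hv₀
    have h1 := hP1 v (Finset.mem_union_right _ hvT) hv0
    simp only [if_neg hv] at h1
    obtain ⟨j, hj⟩ := h1.2.2
    refine ⟨hPint v hv, j, ?_⟩
    rwa [aeval_algebraMap', valued_algebraMap] at hj
  -- the bad places of `P`
  obtain ⟨w₀⟩ : Nonempty (InfinitePlace k) := inferInstance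
  have hPne : MvPolynomial.aeval P (Fk f (jw w₀)) ≠ 0 := by
    intro h
    apply (hP2 w₀).2
    rw [aeval_algebraMap', h, map_zero]
  let BP : Finset (HeightOneSpectrum (𝓞 k)) :=
    (finite_valuation_ne_one (A := 𝓞 k) hPne).toFinset.filter fun v => v ∉ Sf ∧ ¬ Good f v P
  have hBP : ∀ v, v ∈ BP ↔ v ∉ Sf ∧ ¬ Good f v P := by
    intro v
    constructor
    · intro h; exact (Finset.mem_filter.1 h).2
    · intro h
      refine Finset.mem_filter.2 ⟨?_, h⟩
      rw [Set.Finite.mem_toFinset]
      intro h1
      exact h.2 ⟨hPint v h.1, _, h1⟩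
  -- good points
  have hR : ∀ v : HeightOneSpectrum (𝓞 k), ∃ R : Fin n → k, v ∉ Sf → Good f v R := by
    intro v
    by_cases hv : v ∈ Sf
    · exact ⟨0, fun h => absurd hv h⟩
    · obtain ⟨R, hR1, hR2⟩ := hne v hv
      obtain ⟨x, hx⟩ := exists_good hR1 hR2
      exact ⟨x, fun _ => hx⟩
  choose R hR using hR
  -- the direction of the line
  obtain ⟨d, hd, u, hu⟩ := exists_line (fun j => Fk f j) hcodim P ⟨_, hPne⟩ BP
    (fun v i => R v i - P i) (fun v hv i => (Valuation.map_sub _ _ _).trans
      (max_le ((hR v ((hBP v).1 hv).1).1 i) (hPint v ((hBP v).1 hv).1 i)))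
  -- the bad places of the line
  have hfin : (⋃ j, ⋃ i ∈ (u j).support, {v : HeightOneSpectrum (𝓞 k) |
      v.valuation k ((u j).coeff i) ≠ 1}).Finite := by
    refine Set.finite_iUnion fun j => ?_
    refine Set.Finite.biUnion (Finset.finite_toSet _) fun i hi => ?_
    exact finite_valuation_ne_one (by simpa using hi)
  let B1 : Finset (HeightOneSpectrum (𝓞 k)) := hfin.toFinset
  have hB1 : ∀ v, v ∉ B1 → ∀ j i, v.valuation k ((u j).coeff i) ≤ 1 := by
    intro v hv j i
    by_cases hi : (u j).coeff i = 0
    · rw [hi, map_zero]; exact zero_le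
    · by_contra hlt
      apply hv
      rw [Set.Finite.mem_toFinset]
      refine Set.mem_iUnion.2 ⟨j, Set.mem_iUnion₂.2 ⟨i, by simpa using hi, ?_⟩⟩
      intro h1
      exact hlt h1.le
  -- choice of the parameter
  obtain ⟨t, ht1, ht2, ht3⟩ := strong_approx v₀ (((Sf ∪ T) ∪ BP) ∪ B1)
    (fun v => if v ∈ Sf then
        {t | (fun i => algebraMap k (v.adicCompletion k) (P i) +
          t * algebraMap k (v.adicCompletion k) (d i : k)) ∈ Nf v}
      else if v ∈ BP then {t | Valued.v (t - 1) < 1}
      else if v ∈ T then {t | Valued.v (t - 0) < 1 ∧ (fun i => algebraMap k (v.adicCompletion k) (P i) +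
          t * algebraMap k (v.adicCompletion k) (d i : k)) ∈ W v}
      else {t | Valued.v (t - 0) < 1})
    (by
      intro v _ hv0
      have hc : Continuous fun t : v.adicCompletion k => (fun i => algebraMap k (v.adicCompletion k) (P i) +
          t * algebraMap k (v.adicCompletion k) (d i : k)) :=
        continuous_pi fun i => continuous_const.add (continuous_id.mul continuous_const)
      by_cases hvS : v ∈ Sf
      · simp only [if_pos hvS]
        refine ⟨(hNf v hvS hv0).1.preimage hc, 0, ?_⟩
        have h1 := hP1 v (Finset.mem_union_left _ hvS) hv0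
        simp only [if_pos hvS] at h1
        simpa using h1
      · simp only [if_neg hvS]
        by_cases hvB : v ∈ BP
        · simp only [if_pos hvB]
          exact ⟨isOpen_ball v 1 1, 1, by simp⟩
        · simp only [if_neg hvB]
          by_cases hvT : v ∈ T
          · simp only [if_pos hvT]
            have h1 := hP1 v (Finset.mem_union_right _ hvT) hv0
            simp only [if_neg hvS] at h1
            refine ⟨(isOpen_ball v 0 1).inter ((hW v hvT).1.preimage hc), 0, by simp, ?_⟩
            simpa using h1.1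
          · simp only [if_neg hvT]
            exact ⟨isOpen_ball v 0 1, 0, by simp⟩)
    (fun w => {t | (fun i => algebraMap k w.Completion (P i) +
          t * algebraMap k w.Completion (d i : k)) ∈ Ni w})
    (by
      intro w
      have hc : Continuous fun t : w.Completion => (fun i => algebraMap k w.Completion (P i) +
          t * algebraMap k w.Completion (d i : k)) :=
        continuous_pi fun i => continuous_const.add (continuous_id.mul continuous_const)
      refine ⟨(hNi w).1.preimage hc, 0, ?_⟩
      have h1 := (hP2 w).1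
      simpa using h1)
  have htint : ∀ v ∉ Sf, v.valuation k t ≤ 1 := by
    intro v hv
    have hv0 : v ≠ v₀ := by rintro rfl; exact hv hv₀
    by_cases hvm : v ∈ ((Sf ∪ T) ∪ BP) ∪ B1
    · have h1 := ht1 v hvm hv0
      simp only [if_neg hv] at h1
      by_cases hvB : v ∈ BP
      · simp only [if_pos hvB] at h1
        have h2 : Valued.v (algebraMap k (v.adicCompletion k) t - 1) < 1 := h1
        rw [← map_one (algebraMap k (v.adicCompletion k)), ← map_sub, valued_algebraMap] at h2
        have e : t = (t - 1) + 1 := by ring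
        rw [e]
        exact (Valuation.map_add _ _ _).trans (max_le h2.le (by rw [map_one]))
      · simp only [if_neg hvB] at h1
        have h2 : Valued.v (algebraMap k (v.adicCompletion k) t - 0) < 1 := by
          by_cases hvT : v ∈ T
          · simp only [if_pos hvT] at h1
            exact h1.1
          · simp only [if_neg hvT] at h1
            exact h1
        rw [sub_zero, valued_algebraMap] at h2
        exact h2.le
    · exact ht3 v hvm hv0
  have hxint : ∀ v ∉ Sf, ∀ i, v.valuation k (P i + t * (d i : k)) ≤ 1 := by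
    intro v hv i
    refine (Valuation.map_add _ _ _).trans (max_le (hPint v hv i) ?_)
    rw [map_mul]
    exact mul_le_one' (htint v hv) (v.valuation_le_one _)
  refine ⟨fun i => P i + t * (d i : k), ?_, ?_, ?_, ?_⟩
  · intro v hv
    have hv0 : v ≠ v₀ := by rintro rfl; exact hv hv₀
    by_cases hvB : v ∈ BP
    · -- near `R v`
      refine (hR v hv).of_near (hxint v hv) fun i => ?_
      have h1 := ht1 v (by simp [hvB]) hv0
      simp only [if_neg hv, if_pos hvB] at h1
      have h2 : Valued.v (algebraMap k (v.adicCompletion k) t - 1) < 1 := h1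
      rw [← map_one (algebraMap k (v.adicCompletion k)), ← map_sub, valued_algebraMap] at h2
      have e : P i + t * (d i : k) - R v i = (t - 1) * (d i : k) + ((d i : k) - (R v i - P i)) := by
        ring
      rw [e]
      refine (Valuation.map_add _ _ _).trans_lt (max_lt ?_ (hd v hvB i))
      rw [map_mul]
      exact mul_lt_one_of_nonneg_of_lt_one_left zero_le h2 (v.valuation_le_one (d i))
    · have hPg : Good f v P := by
        by_contra h
        exact hvB ((hBP v).2 ⟨hv, h⟩)
      by_cases hvm : v ∈ ((Sf ∪ T) ∪ BP) ∪ B1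
      · -- near `P`
        refine hPg.of_near (hxint v hv) fun i => ?_
        have h1 := ht1 v hvm hv0
        simp only [if_neg hv, if_neg hvB] at h1
        have h2 : Valued.v (algebraMap k (v.adicCompletion k) t - 0) < 1 := by
          by_cases hvT : v ∈ T
          · simp only [if_pos hvT] at h1
            exact h1.1
          · simp only [if_neg hvT] at h1
            exact h1
        rw [sub_zero, valued_algebraMap] at h2
        have e : P i + t * (d i : k) - P i = t * (d i : k) := by ring
        rw [e, map_mul]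
        exact mul_lt_one_of_nonneg_of_lt_one_left zero_le h2 (v.valuation_le_one (d i))
      · -- generic place
        have hvB1 : v ∉ B1 := fun h => hvm (Finset.mem_union_right _ h)
        refine ⟨hxint v hv, ?_⟩
        by_contra hcon
        push Not at hcon
        have h1 : ∀ j, v.valuation k (MvPolynomial.aeval (fun i => P i + t * (d i : k)) (Fk f j)) < 1 := by
          intro j
          refine lt_of_le_of_ne ?_ (hcon j)
          rw [aeval_Fk]
          exact aeval_le_one (v.valuation k) (fun a => v.valuation_le_one a) (f j) _ (hxint v hv)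
        have h2 := congrArg (Polynomial.aeval t) hu
        rw [map_sum, map_one] at h2
        have h3 : v.valuation k (∑ j, Polynomial.aeval t (u j * line P (fun i => (d i : k)) (Fk f j))) < 1 := by
          refine Valuation.map_sum_lt _ one_ne_zero fun j _ => ?_
          rw [map_mul, map_mul, aeval_line]
          refine mul_lt_one_of_nonneg_of_lt_one_right ?_ zero_le (h1 j)
          exact eval_le_one (v.valuation k) (u j) (hB1 v hvB1 j) t (htint v hv)
        rw [h2, map_one] at h3
        exact lt_irrefl _ h3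
  · intro v hv hv0
    have h1 := ht1 v (by simp [hv]) hv0
    simp only [if_pos hv] at h1
    simp only [map_add, map_mul]
    exact h1
  · intro w
    simp only [map_add, map_mul]
    exact ht2 w
  · intro v hvT
    have hv := hT' v hvT
    have hv0 : v ≠ v₀ := by rintro rfl; exact hv hv₀
    have hvB : v ∉ BP := fun h => ((hBP v).1 h).2 (hPT v hvT)
    have h1 := ht1 v (by simp [hvT]) hv0
    simp only [if_neg hv, if_neg hvB, if_pos hvT] at h1
    simp only [map_add, map_mul]
    exact h1.2

end K986.CodimTwoMain
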