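import Groth.Agent.NumberField.K986.NormClose
import Mathlib.NumberTheory.RamificationInertia.Valuation

/-!
# Coordinates and places above a given place; compactness of balls
-/

set_option autoImplicit false
open NumberField IsDedekindDomain

namespace K986.Coord

open StrongApprox LocNorm NormClose

variable {k K : Type*} [Field k] [NumberField k] [Field K] [NumberField K] [Algebra k K]

theorem ramificationIdx'_ne_zero (v : HeightOneSpectrum (𝓞 k)) (W : HeightOneSpectrum (𝓞 K))
    (h : W.asIdeal.LiesOver v.asIdeal) : v.asIdeal.ramificationIdx' W.asIdeal ≠ 0 := by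
  rw [Ideal.ramificationIdx'_eq_ramificationIdx v.asIdeal W.asIdeal v.ne_bot]
  exact (Ideal.ramificationIdx_pos W.asIdeal (𝓞 k)).ne'

theorem valuation_eq (v : HeightOneSpectrum (𝓞 k)) (W : HeightOneSpectrum (𝓞 K))
    (h : W.asIdeal.LiesOver v.asIdeal) (a : k) : W.valuation K (algebraMap k K a) =
      v.valuation k a ^ v.asIdeal.ramificationIdx' W.asIdeal :=
  (HeightOneSpectrum.valuation_liesOver (K := k) K v W a).symm

theorem val_le_one (v : HeightOneSpectrum (𝓞 k)) (W : HeightOneSpectrum (𝓞 K))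
    (h : W.asIdeal.LiesOver v.asIdeal) (a : k) (ha : v.valuation k a ≤ 1) :
    W.valuation K (algebraMap k K a) ≤ 1 := by
  rw [valuation_eq v W h]
  exact pow_le_one₀ zero_le ha

theorem val_eq_one (v : HeightOneSpectrum (𝓞 k)) (W : HeightOneSpectrum (𝓞 K))
    (h : W.asIdeal.LiesOver v.asIdeal) (a : k) (ha : v.valuation k a = 1) :
    W.valuation K (algebraMap k K a) = 1 := by
  rw [valuation_eq v W h, ha, one_pow]

theorem val_eq_one_iff (v : HeightOneSpectrum (𝓞 k)) (W : HeightOneSpectrum (𝓞 K))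
    (h : W.asIdeal.LiesOver v.asIdeal) (a : k) :
    W.valuation K (algebraMap k K a) = 1 ↔ v.valuation k a = 1 := by
  refine ⟨fun h1 => ?_, val_eq_one v W h a⟩
  rw [valuation_eq v W h] at h1
  exact (pow_eq_one_iff_of_nonneg zero_le (ramificationIdx'_ne_zero v W h)).1 h1

theorem val_le (v : HeightOneSpectrum (𝓞 k)) (W : HeightOneSpectrum (𝓞 K))
    (h : W.asIdeal.LiesOver v.asIdeal) (a : k) (n : ℕ)
    (ha : v.valuation k a ≤ WithZero.exp (-(n : ℤ))) :
    W.valuation K (algebraMap k K a) ≤ WithZero.exp (-(n : ℤ)) := by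
  rw [valuation_eq v W h]
  have h1 : v.valuation k a ≤ 1 := by
    refine ha.trans ?_
    rw [← WithZero.exp_zero, WithZero.exp_le_exp]
    omega
  exact (pow_le_of_le_one zero_le h1 (ramificationIdx'_ne_zero v W h)).trans ha

/-- the place below -/
theorem under_liesOver (W : HeightOneSpectrum (𝓞 K)) :
    W.asIdeal.LiesOver (W.under (𝓞 k)).asIdeal := ⟨rfl⟩

theorem liesOver_iff (v : HeightOneSpectrum (𝓞 k)) (W : HeightOneSpectrum (𝓞 K)) :
    W.asIdeal.LiesOver v.asIdeal ↔ W.under (𝓞 k) = v := by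
  constructor
  · intro h
    exact HeightOneSpectrum.ext h.over.symm
  · rintro rfl
    exact under_liesOver W

/-- finitely many places above -/
theorem finite_over (v : HeightOneSpectrum (𝓞 k)) :
    {W : HeightOneSpectrum (𝓞 K) | W.asIdeal.LiesOver v.asIdeal}.Finite := by
  obtain ⟨a, ha, ha0⟩ := Submodule.exists_mem_ne_zero_of_ne_bot v.ne_bot
  have h1 : algebraMap (𝓞 k) (𝓞 K) a ≠ 0 := by
    rwa [Ne, FaithfulSMul.algebraMap_eq_zero_iff]
  refine (finite_mem h1).subset ?_
  intro W hW
  have hW' : W.asIdeal.LiesOver v.asIdeal := hW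
  have h2 : a ∈ W.asIdeal.under (𝓞 k) := by rw [← hW'.over]; exact ha
  exact h2

open Classical in
/-- elements integral above `v` become integral after multiplication by a `v`-unit of the base -/
theorem exists_mult (v : HeightOneSpectrum (𝓞 k)) (z : K)
    (hz : ∀ W : HeightOneSpectrum (𝓞 K), W.asIdeal.LiesOver v.asIdeal → W.valuation K z ≤ 1) :
    ∃ (c : k) (α : 𝓞 K), v.valuation k c = 1 ∧ algebraMap k K c * z = (α : K) := by
  by_cases hz0 : z = 0
  · exact ⟨1, 0, map_one _, by rw [hz0, mul_zero]; exact (map_zero (algebraMap (𝓞 K) K)).symm⟩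
  have hfin : {W : HeightOneSpectrum (𝓞 K) | 1 < W.valuation K z}.Finite :=
    (finite_valuation_ne_one hz0).subset fun W hW => ne_of_gt hW
  have : Finite {W : HeightOneSpectrum (𝓞 K) | 1 < W.valuation K z} := hfin
  obtain ⟨n, hn⟩ := exists_le_exp_of_finite
    (fun W : {W : HeightOneSpectrum (𝓞 K) | 1 < W.valuation K z} => W.1.valuation K z)
  let T : Finset (HeightOneSpectrum (𝓞 k)) :=
    insert v (hfin.toFinset.image fun W => W.under (𝓞 k))
  obtain ⟨c, hcT, hc⟩ := crt (K := k) T (fun v' => if v' = v then 1 else 0) (n + 1)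
  have hcv : v.valuation k c = 1 := by
    have h1 := hcT v (Finset.mem_insert_self _ _)
    simp only [if_true] at h1
    have h2 : c = 1 + (c - 1) := by ring
    rw [h2, Valuation.map_add_eq_of_lt_left, map_one]
    rw [map_one]
    refine h1.trans_lt ?_
    rw [← WithZero.exp_zero, WithZero.exp_lt_exp]
    push_cast
    omega
  have hcint : ∀ v' : HeightOneSpectrum (𝓞 k), v'.valuation k c ≤ 1 := by
    intro v'
    by_cases h1 : v' ∈ T
    · by_cases h2 : v' = v
      · rw [h2, hcv]
      · have h3 := hcT v' h1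
        simp only [if_neg h2, sub_zero] at h3
        refine h3.trans ?_
        rw [← WithZero.exp_zero, WithZero.exp_le_exp]
        omega
    · exact hc v' h1
  have hint : ∀ W : HeightOneSpectrum (𝓞 K), W.valuation K (algebraMap k K c * z) ≤ 1 := by
    intro W
    rw [map_mul]
    have h0 := val_le_one (W.under (𝓞 k)) W (under_liesOver W) c (hcint _)
    by_cases h1 : W.valuation K z ≤ 1
    · exact mul_le_one' h0 h1
    · push Not at h1
      have h2 : W.under (𝓞 k) ∈ T := by
        refine Finset.mem_insert_of_mem (Finset.mem_image_of_mem _ ?_)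
        simpa using h1
      have h3 : W.under (𝓞 k) ≠ v := by
        intro h3
        exact absurd (hz W ((liesOver_iff v W).2 h3)) (not_le.2 h1)
      have h4 := hcT _ h2
      simp only [if_neg h3, sub_zero] at h4
      have h5 := val_le (W.under (𝓞 k)) W (under_liesOver W) c (n + 1) h4
      have h6 := hn ⟨W, h1⟩
      calc _ ≤ WithZero.exp (-((n + 1 : ℕ) : ℤ)) * WithZero.exp (n : ℤ) := mul_le_mul' h5 h6
        _ ≤ 1 := by
          rw [← WithZero.exp_add, ← WithZero.exp_zero, WithZero.exp_le_exp]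
          push_cast
          omega
  obtain ⟨α, hα⟩ := HeightOneSpectrum.mem_integers_of_valuation_le_one K _ hint
  exact ⟨c, α, hcv, hα.symm⟩

/-- elements close to `0` at all places above `v` have coordinates close to `0` at `v` -/
theorem coord_small (v : HeightOneSpectrum (𝓞 k)) {I : Type*} [Finite I]
    (e : Module.Basis I k K) (M : ℕ) :
    ∃ m : ℕ, ∀ z : K, (∀ W : HeightOneSpectrum (𝓞 K), W.asIdeal.LiesOver v.asIdeal →
      W.valuation K z ≤ WithZero.exp (-(m : ℤ))) →
      ∀ i, v.valuation k (e.repr z i) ≤ WithZero.exp (-(M : ℤ)) := by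
  obtain ⟨C, hC⟩ := exists_bound v e
  obtain ⟨π, hπ⟩ := v.valuation_exists_uniformizer k
  have hπ0 : π ≠ 0 := by
    rintro rfl
    rw [map_zero] at hπ
    exact WithZero.exp_ne_zero hπ.symm
  have hπK : algebraMap k K π ≠ 0 := by simpa using hπ0
  have : Finite {W : HeightOneSpectrum (𝓞 K) | W.asIdeal.LiesOver v.asIdeal} := finite_over v
  obtain ⟨E, hE⟩ := exists_le_exp_of_finite
    (fun W : {W : HeightOneSpectrum (𝓞 K) | W.asIdeal.LiesOver v.asIdeal} =>
      (W.1.valuation K (algebraMap k K π ^ (C + M)))⁻¹)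
  refine ⟨E, fun z hz i => ?_⟩
  obtain ⟨c, α, hc, hα⟩ := exists_mult v (z / algebraMap k K π ^ (C + M)) (by
    intro W hW
    rw [map_div₀, div_eq_mul_inv]
    calc _ ≤ WithZero.exp (-(E : ℤ)) * WithZero.exp (E : ℤ) := mul_le_mul' (hz W hW) (hE ⟨W, hW⟩)
      _ = 1 := by rw [← WithZero.exp_add, neg_add_cancel, WithZero.exp_zero])
  have hc0 : c ≠ 0 := by
    rintro rfl
    rw [map_zero] at hc
    exact zero_ne_one hc
  have h1 : z = (π ^ (C + M) * c⁻¹) • (α : K) := by
    rw [Algebra.smul_def, ← hα, map_mul, map_pow, map_inv₀]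
    have hcK : algebraMap k K c ≠ 0 := by simpa using hc0
    field_simp
  rw [h1, map_smul, Finsupp.smul_apply, smul_eq_mul, map_mul, map_mul, map_inv₀, hc, inv_one,
    mul_one, map_pow, hπ, ← WithZero.exp_nsmul]
  calc _ ≤ WithZero.exp ((C + M) • (-1 : ℤ)) * WithZero.exp (C : ℤ) := mul_le_mul' le_rfl (hC α i)
    _ = WithZero.exp (-(M : ℤ)) := by
      rw [← WithZero.exp_add]
      congr 1
      simp

end K986.Coord
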