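import Groth.Agent.NumberField.K986.DegOnePlace
import Mathlib.NumberTheory.RamificationInertia.Galois
import Mathlib.NumberTheory.NumberField.Basic
import Mathlib.RingTheory.Frobenius
import Mathlib.FieldTheory.Galois.IsGaloisGroup
import Mathlib.FieldTheory.Normal.Closure

/-!
# Cyclic subextensions attached to affine Galois actions
-/

set_option autoImplicit false
universe u
open NumberField IsDedekindDomain

namespace K986.CycSub

/-- the linear part of an affine action is a homomorphism -/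
theorem exists_hom (p : ℕ) [Fact p.Prime] {G X : Type*} [Group G] (act : G → X → X)
    (hmul : ∀ σ τ x, act (σ * τ) x = act σ (act τ x))
    (h1 : ∀ x, act 1 x = x)
    (e : X ≃ ZMod p)
    (haff : ∀ σ : G, ∃ a b : ZMod p, a ≠ 0 ∧ ∀ x : X, e (act σ x) = a * e x + b) :
    ∃ (lam : G →* (ZMod p)ˣ) (b : G → ZMod p), ∀ σ x, e (act σ x) = lam σ * e x + b σ := by
  choose A B hA h using haff
  have hA' : ∀ σ, A σ = e (act σ (e.symm 1)) - e (act σ (e.symm 0)) := by
    intro σ
    rw [h, h, Equiv.apply_symm_apply, Equiv.apply_symm_apply]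
    ring
  have hA1 : A 1 = 1 := by
    rw [hA', h1, h1, Equiv.apply_symm_apply, Equiv.apply_symm_apply, sub_zero]
  have hAm : ∀ σ τ, A (σ * τ) = A σ * A τ := by
    intro σ τ
    rw [hA' (σ * τ), hmul, hmul, h σ, h σ, hA' τ]
    ring
  let f : G →* ZMod p := { toFun := A, map_one' := hA1, map_mul' := hAm }
  refine ⟨f.toHomUnits, B, fun σ x => ?_⟩
  rw [h σ x]
  rfl

/-- an affine action with trivial linear part is by translations -/
theorem comm_and_free (p : ℕ) [Fact p.Prime] {G X : Type*} [Group G] (act : G → X → X)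
    (hmul : ∀ σ τ x, act (σ * τ) x = act σ (act τ x))
    (hfaith : ∀ σ, (∀ x, act σ x = x) → σ = 1)
    (e : X ≃ ZMod p) (b : G → ZMod p)
    (h : ∀ σ x, e (act σ x) = e x + b σ) :
    (∀ σ τ : G, σ * τ = τ * σ) ∧ ∀ (σ : G) (x : X), act σ x = x → σ = 1 := by
  refine ⟨fun σ τ => ?_, fun σ x hx => ?_⟩
  · have h2 : ∀ x, act (σ * τ) x = act (τ * σ) x := by
      intro x
      apply e.injective
      rw [hmul, hmul, h, h, h, h]
      ring
    have h3 : ∀ x, act ((τ * σ)⁻¹ * (σ * τ)) x = x := by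
      intro x
      rw [hmul, h2, ← hmul]
      have h4 : act 1 x = x := by
        apply e.injective
        have h5 := h (1 * 1) x
        rw [hmul, h, h, mul_one] at h5
        rw [h]
        linear_combination h5
      rw [inv_mul_cancel, h4]
    have h4 := hfaith _ h3
    exact (inv_mul_eq_one.1 h4).symm
  · have h1 : b σ = 0 := by
      have h2 := h σ x
      rw [hx] at h2
      linear_combination -h2
    apply hfaith
    intro y
    apply e.injective
    rw [h, h1, add_zero]

/-- a finite domain in which `y ^ q = y` has at most `q` elements -/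
theorem card_le (F : Type*) [CommRing F] [IsDomain F] [Finite F] (q : ℕ) (hq : 1 < q)
    (h : ∀ y : F, y ^ q = y) : Nat.card F ≤ q := by
  classical
  have := Fintype.ofFinite F
  let f : Polynomial F := Polynomial.X ^ q - Polynomial.X
  have hf : f.natDegree = q := by
    have h1 : (Polynomial.X : Polynomial F).degree < (Polynomial.X ^ q : Polynomial F).degree := by
      rw [Polynomial.degree_X_pow, Polynomial.degree_X]
      exact mod_cast hq
    rw [Polynomial.natDegree_eq_of_degree_eq (Polynomial.degree_sub_eq_left_of_degree_lt h1),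
      Polynomial.natDegree_X_pow]
  have hf0 : f ≠ 0 := by
    rintro h0
    rw [h0, Polynomial.natDegree_zero] at hf
    omega
  have hroot : ∀ y : F, y ∈ f.roots.toFinset := by
    intro y
    rw [Multiset.mem_toFinset, Polynomial.mem_roots hf0]
    simp only [f, Polynomial.IsRoot, Polynomial.eval_sub, Polynomial.eval_pow,
      Polynomial.eval_X]
    rw [h, sub_self]
  rw [Nat.card_eq_fintype_card, ← Finset.card_univ]
  calc Finset.univ.card ≤ f.roots.toFinset.card :=
        Finset.card_le_card (fun y _ => hroot y)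
    _ ≤ Multiset.card f.roots := Multiset.toFinset_card_le _
    _ ≤ f.natDegree := Polynomial.card_roots' _
    _ = q := hf

/-- in a finite field extension the elements fixed by Frobenius are in the base -/
theorem residue (R S : Type*) [CommRing R] [CommRing S] [Algebra R S] (P : Ideal S) [P.IsPrime]
    [Finite (R ⧸ P.under R)] [Finite (S ⧸ P)]
    (h : ∀ α : S, α ^ Nat.card (R ⧸ P.under R) - α ∈ P) (α : S) :
    ∃ a : R, α - algebraMap R S a ∈ P := by
  have hinj : Function.Injective (algebraMap (R ⧸ P.under R) (S ⧸ P)) :=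
    Ideal.algebraMap_quotient_injective
  have : Nontrivial (R ⧸ P.under R) := Ideal.Quotient.nontrivial_iff.2 Ideal.IsPrime.ne_top'
  have hq1 : 1 < Nat.card (R ⧸ P.under R) := Finite.one_lt_card
  have hle : Nat.card (S ⧸ P) ≤ Nat.card (R ⧸ P.under R) := by
    apply card_le _ _ hq1
    intro y
    obtain ⟨z, rfl⟩ := Ideal.Quotient.mk_surjective y
    rw [← sub_eq_zero, ← map_pow, ← map_sub, Ideal.Quotient.eq_zero_iff_mem]
    exact h z
  have hbij : Function.Bijective (algebraMap (R ⧸ P.under R) (S ⧸ P)) :=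
    hinj.bijective_of_nat_card_le hle
  obtain ⟨y, hy⟩ := hbij.2 (Ideal.Quotient.mk P α)
  obtain ⟨a, rfl⟩ := Ideal.Quotient.mk_surjective y
  refine ⟨a, ?_⟩
  rw [← Ideal.Quotient.eq_zero_iff_mem, map_sub, ← hy, sub_eq_zero]
  rfl

section NF

variable {K N : Type u} [Field K] [NumberField K] [Field N] [NumberField N] [Algebra K N]
  [IsGalois K N]

/-- a subfield fixed by a Frobenius element and unramified at the place below embeds in the
completion -/
theorem nonempty_of_frob (w : HeightOneSpectrum (𝓞 K)) (Q : Ideal (𝓞 N)) [hQ : Q.IsPrime]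
    [hQw : Q.LiesOver w.asIdeal] (σ : N ≃ₐ[K] N) (hσ : IsArithFrobAt (𝓞 K) σ Q)
    (M : Type*) [Field M] [NumberField M] [Algebra K M] [Algebra M N] [IsScalarTower K M N]
    (hM : ∀ x : M, σ (algebraMap M N x) = algebraMap M N x)
    (he : (Q.under (𝓞 M)).ramificationIdx (𝓞 K) = 1) : Nonempty (M →ₐ[K] w.adicCompletion K) := by
  have hl : (Q.under (𝓞 M)).LiesOver w.asIdeal := by
    constructor
    rw [Ideal.under_under, ← hQw.over]
  have hPw : (Q.under (𝓞 M)).under (𝓞 K) = w.asIdeal := hl.over.symm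
  have hQw' : Q.under (𝓞 K) = w.asIdeal := hQw.over.symm
  have hP0 : Q.under (𝓞 M) ≠ ⊥ := by
    intro h
    apply w.ne_bot
    rw [hl.over, h, Ideal.under_bot]
  apply DegOnePlace.nonempty_algHom w (Q.under (𝓞 M)) he
  have hfin1 : Finite (𝓞 K ⧸ (Q.under (𝓞 M)).under (𝓞 K)) := by
    rw [hPw]
    exact Ring.HasFiniteQuotients.finiteQuotient w.ne_bot
  have hfin2 : Finite (𝓞 M ⧸ Q.under (𝓞 M)) := Ring.HasFiniteQuotients.finiteQuotient hP0
  apply residue (𝓞 K) (𝓞 M) (Q.under (𝓞 M))
  intro α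
  have h1 := hσ (algebraMap (𝓞 M) (𝓞 N) α)
  have h2 : (MulSemiringAction.toAlgHom (𝓞 K) (𝓞 N) σ) (algebraMap (𝓞 M) (𝓞 N) α) =
      algebraMap (𝓞 M) (𝓞 N) α := by
    apply RingOfIntegers.ext
    exact hM (α : M)
  rw [h2, hQw', ← hPw] at h1
  have h3 := neg_mem h1
  rw [neg_sub] at h3
  rw [Ideal.under, Ideal.mem_comap, map_sub, map_pow]
  exact h3

/-- if all primes of subfields generating `N` are unramified then so is `Q` -/
theorem inertia_fixes (w : HeightOneSpectrum (𝓞 K)) (Q : Ideal (𝓞 N)) [hQ : Q.IsPrime]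
    [hQw : Q.LiesOver w.asIdeal] (M : Type*) [Field M] [NumberField M] [Algebra K M] [Algebra M N]
    [IsScalarTower K M N]
    (he : (Q.under (𝓞 M)).ramificationIdx (𝓞 K) = 1) (σ : N ≃ₐ[K] N)
    (hσ : σ ∈ Q.inertia (N ≃ₐ[K] N)) (x : M) : σ (algebraMap M N x) = algebraMap M N x := by
  have : IsGalois M N := IsGalois.tower_top_of_isGalois K M N
  have hl : (Q.under (𝓞 M)).LiesOver w.asIdeal := by
    constructor
    rw [Ideal.under_under, ← hQw.over]
  have hP0 : Q.under (𝓞 M) ≠ ⊥ := by
    intro h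
    apply w.ne_bot
    rw [hl.over, h, Ideal.under_bot]
  have hlQ : Q.LiesOver (Q.under (𝓞 M)) := ⟨rfl⟩
  have hfinw : Finite (𝓞 K ⧸ w.asIdeal) := Ring.HasFiniteQuotients.finiteQuotient w.ne_bot
  have hfin2 : Finite (𝓞 M ⧸ Q.under (𝓞 M)) := Ring.HasFiniteQuotients.finiteQuotient hP0
  have hmax : w.asIdeal.IsMaximal := w.isMaximal
  have hmax2 : (Q.under (𝓞 M)).IsMaximal := Ideal.IsPrime.isMaximal inferInstance hP0
  have hf1 : Finite w.asIdeal.ResidueField :=
    Finite.of_surjective _ (Ideal.bijective_algebraMap_quotient_residueField w.asIdeal).2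
  have hf2 : Finite (Q.under (𝓞 M)).ResidueField :=
    Finite.of_surjective _ (Ideal.bijective_algebraMap_quotient_residueField (Q.under (𝓞 M))).2
  have c1 := Ideal.card_inertia_eq_ramificationIdxIn (G := N ≃ₐ[K] N) w.asIdeal Q
  have c2 := Ideal.card_inertia_eq_ramificationIdxIn (G := N ≃ₐ[M] N) (Q.under (𝓞 M)) Q
  rw [Ideal.ramificationIdxIn_eq_ramificationIdx w.asIdeal Q (N ≃ₐ[K] N)] at c1
  rw [Ideal.ramificationIdxIn_eq_ramificationIdx (Q.under (𝓞 M)) Q (N ≃ₐ[M] N)] at c2
  rw [Ideal.ramificationIdx_tower (Q.under (𝓞 M)) Q, he, one_mul] at c1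
  -- the map on inertia groups
  let f : Q.inertia (N ≃ₐ[M] N) → Q.inertia (N ≃ₐ[K] N) := fun τ =>
    ⟨(τ : N ≃ₐ[M] N).restrictScalars K, fun y => τ.2 y⟩
  have hf : Function.Injective f := by
    intro τ τ' h
    apply Subtype.ext
    have h' : (τ : N ≃ₐ[M] N).restrictScalars K = (τ' : N ≃ₐ[M] N).restrictScalars K :=
      congrArg Subtype.val h
    exact AlgEquiv.restrictScalars_injective K h'
  have hbij := hf.bijective_of_nat_card_le (by rw [c1, c2])
  obtain ⟨τ, hτ⟩ := hbij.2 ⟨σ, hσ⟩
  have h' : (τ : N ≃ₐ[M] N).restrictScalars K = σ := congrArg Subtype.val hτ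
  rw [← h']
  exact (τ : N ≃ₐ[M] N).commutes x

end NF

end K986.CycSub
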