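import Groth.Agent.NumberField.K986.CycSub
import Mathlib.FieldTheory.Galois.Basic

/-!
# Cyclic subextensions attached to affine Galois actions: main theorem
-/

set_option autoImplicit false
universe u
open NumberField IsDedekindDomain

namespace K986.CycSubMain

open CycSub

theorem main (K L N : Type u) [Field K] [NumberField K] [Field L] [NumberField L] [Algebra K L]
    [Field N] [NumberField N] [Algebra K N] [IsGalois K N]
    (p : ℕ) (hp : p.Prime) (e : (L →ₐ[K] N) ≃ ZMod p)
    (haff : ∀ σ : N ≃ₐ[K] N, ∃ a b : ZMod p, a ≠ 0 ∧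
      ∀ φ : L →ₐ[K] N, e (σ.toAlgHom.comp φ) = a * e φ + b)
    (hgen : ∀ σ : N ≃ₐ[K] N, (∀ φ : L →ₐ[K] N, σ.toAlgHom.comp φ = φ) → σ = 1)
    (hnab : IsGalois K L → ∃ σ τ : L ≃ₐ[K] L, σ * τ ≠ τ * σ) :
    ∃ E : IntermediateField K N, IsGalois K E ∧ IsCyclic (E ≃ₐ[K] E) ∧ 1 < Module.finrank K E ∧
      ∀ w : HeightOneSpectrum (𝓞 K),
        (∀ P : Ideal (𝓞 L), P.IsPrime → P.LiesOver w.asIdeal → P.ramificationIdx (𝓞 K) = 1) →
        Nonempty (E →ₐ[K] w.adicCompletion K) ∨ Nonempty (L →ₐ[K] w.adicCompletion K) := by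
  have : Fact p.Prime := ⟨hp⟩
  let act : (N ≃ₐ[K] N) → (L →ₐ[K] N) → (L →ₐ[K] N) := fun σ φ => σ.toAlgHom.comp φ
  have hmul : ∀ σ τ x, act (σ * τ) x = act σ (act τ x) := fun σ τ x => rfl
  have h1 : ∀ x, act 1 x = x := fun x => rfl
  obtain ⟨lam, b, hlam⟩ := exists_hom p act hmul h1 e haff
  let H : Subgroup (N ≃ₐ[K] N) := lam.ker
  let E : IntermediateField K N := IntermediateField.fixedField H
  have hcyc : IsCyclic (E ≃ₐ[K] E) := by
    have h2 : IsCyclic ((N ≃ₐ[K] N) ⧸ H) := by
      have h3 : IsCyclic lam.range := inferInstance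
      exact (QuotientGroup.quotientKerEquivRange lam).symm.isCyclic.1 h3
    exact (IsGalois.normalAutEquivQuotient H).isCyclic.1 h2
  refine ⟨E, inferInstance, hcyc, ?_, ?_⟩
  · by_contra hE
    have hE1 : Module.finrank K E = 1 := by
      have : 0 < Module.finrank K E := Module.finrank_pos
      omega
    have hE2 : E = ⊥ := IntermediateField.finrank_eq_one_iff.1 hE1
    have hH : H = ⊤ := by
      rw [← IntermediateField.fixingSubgroup_fixedField H]
      change E.fixingSubgroup = ⊤
      rw [hE2, IntermediateField.fixingSubgroup_bot]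
    have hl1 : ∀ σ, lam σ = 1 := by
      intro σ
      have : σ ∈ H := hH ▸ Subgroup.mem_top σ
      exact this
    obtain ⟨hcomm, hfree⟩ := comm_and_free p act hmul hgen e b (by
      intro σ x
      rw [hlam, hl1, Units.val_one, one_mul])
    let φ₀ : L →ₐ[K] N := e.symm 0
    have hr : φ₀.fieldRange = ⊤ := by
      rw [← IsGalois.fixedField_fixingSubgroup φ₀.fieldRange]
      have : φ₀.fieldRange.fixingSubgroup = ⊥ := by
        rw [eq_bot_iff]
        intro σ hσ
        rw [Subgroup.mem_bot]
        apply hfree σ φ₀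
        ext x
        exact (IntermediateField.mem_fixingSubgroup_iff _ _).1 hσ (φ₀ x) ⟨x, rfl⟩
      rw [this, IntermediateField.fixedField_bot]
    have hsurj : Function.Surjective φ₀ := by
      intro y
      have : y ∈ φ₀.fieldRange := hr ▸ IntermediateField.mem_top
      exact this
    let ψ : L ≃ₐ[K] N := AlgEquiv.ofBijective φ₀ ⟨φ₀.injective, hsurj⟩
    obtain ⟨σ, τ, hστ⟩ := hnab (IsGalois.of_algEquiv ψ.symm)
    apply hστ
    apply (AlgEquiv.autCongr ψ).injective
    rw [map_mul, map_mul]
    exact hcomm _ _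
  · intro w hunr
    have hmax : w.asIdeal.IsMaximal := w.isMaximal
    obtain ⟨⟨Q, hQp, hQw⟩⟩ := Ideal.nonempty_primesOver (S := 𝓞 N) w.asIdeal
    have hQ0 : Q ≠ ⊥ := by
      rintro rfl
      apply w.ne_bot
      rw [hQw.over, Ideal.under_bot]
    have hfinw : Finite (𝓞 K ⧸ w.asIdeal) := Ring.HasFiniteQuotients.finiteQuotient w.ne_bot
    have hfinQ : Finite (𝓞 N ⧸ Q) := Ring.HasFiniteQuotients.finiteQuotient hQ0
    have hf1 : Finite w.asIdeal.ResidueField :=
      Finite.of_surjective _ (Ideal.bijective_algebraMap_quotient_residueField w.asIdeal).2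
    -- ramification of the restrictions
    have hφ : ∀ φ : L →ₐ[K] N, (Q.comap (RingOfIntegers.mapRingHom φ.toRingHom)).ramificationIdx
        (𝓞 K) = 1 := by
      intro φ
      apply hunr _ (Ideal.IsPrime.comap _)
      constructor
      rw [hQw.over]
      change _ = Ideal.comap _ (Ideal.comap _ Q)
      rw [Ideal.comap_comap, Ideal.under]
      congr 1
      ext x
      exact (φ.commutes (x : K)).symm
    have hQe : Q.ramificationIdx (𝓞 K) = 1 := by
      rw [← Ideal.ramificationIdxIn_eq_ramificationIdx w.asIdeal Q (N ≃ₐ[K] N),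
        ← Ideal.card_inertia_eq_ramificationIdxIn (G := N ≃ₐ[K] N) w.asIdeal Q]
      have : Q.inertia (N ≃ₐ[K] N) = ⊥ := by
        rw [eq_bot_iff]
        intro σ hσ
        rw [Subgroup.mem_bot]
        apply hgen
        intro φ
        let _ : Algebra L N := φ.toRingHom.toAlgebra
        have : IsScalarTower K L N := IsScalarTower.of_algebraMap_eq' φ.comp_algebraMap.symm
        ext x
        exact inertia_fixes w Q L (hφ φ) σ hσ x
      rw [this]
      exact Subgroup.card_bot
    obtain ⟨σ, hσ⟩ := IsArithFrobAt.exists_of_isInvariant (𝓞 K) (N ≃ₐ[K] N) Q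
    by_cases hl : lam σ = 1
    · left
      have hlE : Q.LiesOver (Q.under (𝓞 E)) := ⟨rfl⟩
      apply nonempty_of_frob w Q σ hσ E
      · intro x
        have : (x : N) ∈ IntermediateField.fixedField H := x.2
        rw [IntermediateField.mem_fixedField_iff] at this
        exact this σ hl
      · have hd := Ideal.ramificationIdx_below_dvd (R := 𝓞 K) (Q.under (𝓞 E)) Q
        rw [hQe] at hd
        exact Nat.dvd_one.1 hd
    · right
      have hl' : (1 : ZMod p) - lam σ ≠ 0 := by
        rw [sub_ne_zero]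
        intro h
        exact hl (Units.ext h.symm)
      let φ : L →ₐ[K] N := e.symm (b σ / (1 - lam σ))
      have hfix : act σ φ = φ := by
        apply e.injective
        rw [hlam, Equiv.apply_symm_apply]
        field_simp
        ring
      let _ : Algebra L N := φ.toRingHom.toAlgebra
      have : IsScalarTower K L N := IsScalarTower.of_algebraMap_eq' φ.comp_algebraMap.symm
      apply nonempty_of_frob w Q σ hσ L
      · intro x
        exact DFunLike.congr_fun hfix x
      · exact hφ φ

end K986.CycSubMain
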