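import Groth.Agent.NumberField.K986.SmallElt
import Mathlib.NumberTheory.NumberField.InfiniteAdeleRing
import Mathlib.RingTheory.DedekindDomain.FiniteAdeleRing
import Mathlib.RingTheory.DedekindDomain.Factorization

/-!
# Strong approximation for affine space over a number field, off a finite place
-/

set_option autoImplicit false
universe u
open NumberField IsDedekindDomain
open scoped NNReal ENNReal

namespace K986.StrongApprox

section Dedekind

variable {A : Type*} [CommRing A] [IsDedekindDomain A] {K : Type*} [Field K] [Algebra A K]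
  [IsFractionRing A K]

theorem valued_algebraMap (v : HeightOneSpectrum A) (x : K) :
    Valued.v (algebraMap K (v.adicCompletion K) x) = v.valuation K x :=
  HeightOneSpectrum.valuedAdicCompletion_eq_valuation' v x

theorem finite_valuation_ne_one {x : K} (hx : x ≠ 0) :
    {v : HeightOneSpectrum A | v.valuation K x ≠ 1}.Finite := by
  refine ((HeightOneSpectrum.Support.finite A x).union
    (HeightOneSpectrum.Support.finite A x⁻¹)).subset ?_
  intro v hv
  rcases lt_or_gt_of_ne (show v.valuation K x ≠ 1 from hv) with h | h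
  · right
    change 1 < v.valuation K x⁻¹
    rw [map_inv₀]
    exact (one_lt_inv₀ (zero_lt_iff.2 ((Valuation.ne_zero_iff _).2 hx))).2 h
  · left
    exact h

theorem finite_mem {a : A} (ha : a ≠ 0) : {v : HeightOneSpectrum A | a ∈ v.asIdeal}.Finite := by
  refine (Ideal.finite_factors (I := Ideal.span {a}) (by simpa using ha)).subset ?_
  intro v hv
  change v.asIdeal ∣ Ideal.span {a}
  rw [Ideal.dvd_span_singleton]
  exact hv

open Classical in
/-- the Chinese remainder theorem: approximation at finitely many places, with integrality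
elsewhere -/
theorem crt (S : Finset (HeightOneSpectrum A)) (x : HeightOneSpectrum A → K) (n : ℕ) :
    ∃ y : K, (∀ v ∈ S, v.valuation K (y - x v) ≤ WithZero.exp (-(n : ℤ))) ∧
      ∀ v ∉ S, v.valuation K y ≤ 1 := by
  obtain ⟨b, hb⟩ := IsLocalization.exist_integer_multiples (nonZeroDivisors A) S x
  have hb0 : (b : A) ≠ 0 := nonZeroDivisors.ne_zero b.2
  have hbK : algebraMap A K (b : A) ≠ 0 := by simp
  have hb' : ∀ v ∈ S, ∃ a : A, algebraMap A K a = algebraMap A K b * x v := by
    intro v hv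
    obtain ⟨a, ha⟩ := hb v hv
    exact ⟨a, by rw [ha, Algebra.smul_def]⟩
  choose! a ha using hb'
  let T : Finset (HeightOneSpectrum A) := S ∪ (finite_mem hb0).toFinset
  let a' : HeightOneSpectrum A → A := fun v => if v ∈ S then a v else 0
  have hex : ∀ v : HeightOneSpectrum A, ∃ e : ℕ, WithZero.exp (-(e : ℤ)) <
      WithZero.exp (-(n : ℤ)) * v.valuation K (algebraMap A K b) := by
    intro v
    exact WithZero.exists_exp_neg_natCast_lt
      (mul_ne_zero WithZero.exp_ne_zero ((Valuation.ne_zero_iff _).2 hbK))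
  choose e he using hex
  obtain ⟨c, hc⟩ := IsDedekindDomain.exists_forall_sub_mem_ideal (s := T)
    (fun v : HeightOneSpectrum A => v.asIdeal) e (fun v _ => v.prime)
    (fun v _ w _ hvw h => hvw (HeightOneSpectrum.ext h)) (fun v => a' v.1)
  have key : ∀ v ∈ T, v.valuation K (algebraMap A K c / algebraMap A K b -
      algebraMap A K (a' v) / algebraMap A K b) ≤ WithZero.exp (-(n : ℤ)) := by
    intro v hv
    rw [← sub_div, ← map_sub, map_div₀, div_le_iff₀ ((Valuation.pos_iff _).2 hbK)]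
    refine le_trans ?_ (he v).le
    rw [HeightOneSpectrum.valuation_of_algebraMap, HeightOneSpectrum.intValuation_le_pow_iff_mem]
    exact hc v hv
  refine ⟨algebraMap A K c / algebraMap A K b, fun v hv => ?_, fun v hv => ?_⟩
  · have h1 := key v (Finset.mem_union_left _ hv)
    have h2 : algebraMap A K (a' v) / algebraMap A K b = x v := by
      simp only [a', if_pos hv]
      rw [ha v hv, mul_div_cancel_left₀ _ hbK]
    rwa [h2] at h1
  · by_cases hvb : (b : A) ∈ v.asIdeal
    · have h1 := key v (Finset.mem_union_right _ (by simpa using hvb))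
      simp only [a', if_neg hv, map_zero, zero_div, sub_zero] at h1
      refine h1.trans ?_
      rw [← WithZero.exp_zero, WithZero.exp_le_exp]
      omega
    · rw [map_div₀, (HeightOneSpectrum.valuation_eq_one_iff_notMem v).2 hvb, div_one]
      exact v.valuation_le_one c

/-- balls form a neighbourhood basis in the completion at a finite place -/
theorem exists_ball_subset (v : HeightOneSpectrum A) {U : Set (v.adicCompletion K)}
    (hU : IsOpen U) {x : v.adicCompletion K} (hx : x ∈ U) :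
    ∃ n : ℕ, ∀ y : v.adicCompletion K, Valued.v (y - x) ≤ WithZero.exp (-(n : ℤ)) → y ∈ U := by
  obtain ⟨γ, hγ⟩ := Valued.mem_nhds.1 (hU.mem_nhds hx)
  have hy0 : MonoidWithZeroHom.ValueGroup₀.embedding γ.1 ≠ (0 : WithZero (Multiplicative ℤ)) :=
    (_root_.map_ne_zero _).2 γ.ne_zero
  obtain ⟨N, hN⟩ := WithZero.exists_exp_neg_natCast_lt hy0
  refine ⟨N, fun y hy => hγ ?_⟩
  change Valued.v.restrict (y - x) < γ.1
  rw [Valuation.restrict_lt_iff_lt_embedding]
  exact hy.trans_lt hN

theorem isOpen_ball (v : HeightOneSpectrum A) (x : v.adicCompletion K)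
    (γ : WithZero (Multiplicative ℤ)) :
    IsOpen {y : v.adicCompletion K | Valued.v (y - x) < γ} := by
  obtain ⟨c, hc⟩ := v.valuedAdicCompletion_surjective K γ
  have h1 := Valued.isOpen_ball (v.adicCompletion K)
    ((Valued.v : Valuation (v.adicCompletion K) _).restrict c)
  have h2 := h1.preimage (continuous_sub_right x)
  convert h2 using 1
  ext y
  simp only [Set.mem_ofPred_eq, Set.mem_preimage, Valuation.restrict_lt_iff, hc]

theorem isOpen_closedBall (v : HeightOneSpectrum A) (x : v.adicCompletion K)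
    {γ : WithZero (Multiplicative ℤ)} (hγ : γ ≠ 0) :
    IsOpen {y : v.adicCompletion K | Valued.v (y - x) ≤ γ} := by
  obtain ⟨c, hc⟩ := v.valuedAdicCompletion_surjective K γ
  have hc0 : c ≠ 0 := by
    rintro rfl
    rw [map_zero] at hc
    exact hγ hc.symm
  have h1 := Valued.isOpen_closedBall (v.adicCompletion K)
    (r := (Valued.v : Valuation (v.adicCompletion K) _).restrict c)
    (by simpa using hc0)
  have h2 := h1.preimage (continuous_sub_right x)
  convert h2 using 1
  ext y
  simp only [Set.mem_ofPred_eq, Set.mem_preimage, Valuation.restrict_le_iff, hc]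

end Dedekind

variable {k : Type u} [Field k]

theorem norm_algebraMap (w : InfinitePlace k) (x : k) :
    ‖algebraMap k w.Completion x‖ = w x :=
  InfinitePlace.Completion.norm_coe w (WithAbs.toAbs w.1 x)

variable [NumberField k]

open Classical in
/-- Strong approximation for the affine line off a finite place. -/
theorem strong_approx (v₀ : HeightOneSpectrum (𝓞 k)) (S : Finset (HeightOneSpectrum (𝓞 k)))
    (Uf : (v : HeightOneSpectrum (𝓞 k)) → Set (v.adicCompletion k))
    (hUf : ∀ v ∈ S, v ≠ v₀ → IsOpen (Uf v) ∧ (Uf v).Nonempty)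
    (Ui : (w : InfinitePlace k) → Set w.Completion)
    (hUi : ∀ w, IsOpen (Ui w) ∧ (Ui w).Nonempty) :
    ∃ x : k, (∀ v ∈ S, v ≠ v₀ → algebraMap k (v.adicCompletion k) x ∈ Uf v) ∧
      (∀ w, algebraMap k w.Completion x ∈ Ui w) ∧
      ∀ v ∉ S, v ≠ v₀ → v.valuation k x ≤ 1 := by
  -- finite places
  have h1 : ∀ v : HeightOneSpectrum (𝓞 k), ∃ (x : k) (n : ℕ), (v ∈ S → v ≠ v₀ →
      ∀ y : v.adicCompletion k, Valued.v (y - algebraMap k (v.adicCompletion k) x) ≤
        WithZero.exp (-(n : ℤ)) → y ∈ Uf v) := by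
    intro v
    by_cases hv : v ∈ S ∧ v ≠ v₀
    · obtain ⟨h1, h2⟩ := hUf v hv.1 hv.2
      obtain ⟨x, hx⟩ := (HeightOneSpectrum.denseRange_algebraMap (K := k) v).exists_mem_open h1 h2
      obtain ⟨n, hn⟩ := exists_ball_subset v h1 hx
      exact ⟨x, n, fun _ _ => hn⟩
    · exact ⟨0, 0, fun h1 h2 => absurd ⟨h1, h2⟩ hv⟩
  choose x n hxn using h1
  let N : ℕ := S.sup n
  obtain ⟨y, hyS, hy⟩ := crt (S.erase v₀) x N
  -- an element divisible by high powers
  obtain ⟨c, hc0, hc⟩ : ∃ c : 𝓞 k, c ≠ 0 ∧ ∀ v ∈ S, v.valuation k (c : k) ≤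
      WithZero.exp (-(N : ℤ)) := by
    have h0 : (∏ v ∈ S, v.asIdeal ^ N) ≠ ⊥ := by
      rw [← Ideal.zero_eq_bot, Finset.prod_ne_zero_iff]
      intro v _
      exact pow_ne_zero _ v.ne_bot
    obtain ⟨c, hc, hc0⟩ := Submodule.exists_mem_ne_zero_of_ne_bot h0
    refine ⟨c, hc0, fun v hv => ?_⟩
    rw [HeightOneSpectrum.valuation_of_algebraMap, HeightOneSpectrum.intValuation_le_pow_iff_mem]
    exact (Ideal.dvd_iff_le.1 (Finset.dvd_prod_of_mem (fun v : HeightOneSpectrum (𝓞 k) =>
      v.asIdeal ^ N) hv)) hc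
  -- infinite places
  obtain ⟨t, ht⟩ : ∃ t : k, ∀ w : InfinitePlace k, algebraMap k w.Completion t ∈ Ui w := by
    obtain ⟨t, ht⟩ := (InfiniteAdeleRing.denseRange_algebraMap k).exists_mem_open
      (s := Set.univ.pi Ui) (isOpen_set_pi Set.finite_univ fun w _ => (hUi w).1)
      (Set.univ_pi_nonempty_iff.2 fun w => (hUi w).2)
    exact ⟨t, fun w => ht w (Set.mem_univ w)⟩
  have h2 : ∀ w : InfinitePlace k, ∃ ε > 0, Metric.ball (algebraMap k w.Completion t) ε ⊆ Ui w :=
    fun w => Metric.isOpen_iff.1 (hUi w).1 _ (ht w)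
  choose ε hε0 hε using h2
  let E : ℝ := Finset.univ.inf' Finset.univ_nonempty ε
  have hE : 0 < E := by
    simp only [E, Finset.lt_inf'_iff]
    exact fun w _ => hε0 w
  obtain ⟨z, hz1, hz2⟩ := SmallElt.exists_near_of_small v₀ c hc0 (t - y) hE
  refine ⟨y + z, fun v hv hv0 => ?_, fun w => ?_, fun v hv hv0 => ?_⟩
  · apply hxn v hv hv0
    rw [← map_sub, valued_algebraMap]
    have e1 : WithZero.exp (-(N : ℤ)) ≤ WithZero.exp (-(n v : ℤ)) := by
      rw [WithZero.exp_le_exp]
      have : n v ≤ N := Finset.le_sup hv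
      omega
    refine le_trans ?_ e1
    have e2 : y + z - x v = (y - x v) + z := by ring
    rw [e2]
    exact (Valuation.map_add _ _ _).trans (max_le (hyS v (Finset.mem_erase.2 ⟨hv0, hv⟩))
      ((hz2 v hv0).trans (hc v hv)))
  · apply hε w
    rw [Metric.mem_ball, dist_eq_norm, ← map_sub, norm_algebraMap]
    have e2 : y + z - t = z - (t - y) := by ring
    rw [e2]
    exact (hz1 w).trans_le (Finset.inf'_le _ (Finset.mem_univ w))
  · refine (Valuation.map_add _ _ _).trans (max_le (hy v ?_) ((hz2 v hv0).trans ?_))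
    · intro h
      exact hv (Finset.mem_erase.1 h).2
    · exact v.valuation_le_one c

open Classical in
/-- Strong approximation for affine space off a finite place. -/
theorem strong_approx_pi (n : ℕ) (v₀ : HeightOneSpectrum (𝓞 k))
    (S : Finset (HeightOneSpectrum (𝓞 k)))
    (Uf : (v : HeightOneSpectrum (𝓞 k)) → Set (Fin n → v.adicCompletion k))
    (hUf : ∀ v ∈ S, v ≠ v₀ → IsOpen (Uf v) ∧ (Uf v).Nonempty)
    (Ui : (w : InfinitePlace k) → Set (Fin n → w.Completion))
    (hUi : ∀ w, IsOpen (Ui w) ∧ (Ui w).Nonempty) :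
    ∃ x : Fin n → k, (∀ v ∈ S, v ≠ v₀ → (fun i => algebraMap k (v.adicCompletion k) (x i)) ∈ Uf v) ∧
      (∀ w, (fun i => algebraMap k w.Completion (x i)) ∈ Ui w) ∧
      ∀ v ∉ S, v ≠ v₀ → ∀ i, v.valuation k (x i) ≤ 1 := by
  have h1 : ∀ v : HeightOneSpectrum (𝓞 k), ∃ u : (i : Fin n) → Set (v.adicCompletion k),
      (v ∈ S → v ≠ v₀ → (∀ i, IsOpen (u i) ∧ (u i).Nonempty) ∧ Set.univ.pi u ⊆ Uf v) := by
    intro v
    by_cases hv : v ∈ S ∧ v ≠ v₀
    · obtain ⟨h1, y, hy⟩ := hUf v hv.1 hv.2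
      obtain ⟨u, hu, hu'⟩ := isOpen_pi_iff'.1 h1 y hy
      exact ⟨u, fun _ _ => ⟨fun i => ⟨(hu i).1, y i, (hu i).2⟩, hu'⟩⟩
    · exact ⟨fun _ => ∅, fun h1 h2 => absurd ⟨h1, h2⟩ hv⟩
  choose u hu using h1
  have h2 : ∀ w : InfinitePlace k, ∃ u : (i : Fin n) → Set w.Completion,
      (∀ i, IsOpen (u i) ∧ (u i).Nonempty) ∧ Set.univ.pi u ⊆ Ui w := by
    intro w
    obtain ⟨h1, y, hy⟩ := hUi w
    obtain ⟨u, hu, hu'⟩ := isOpen_pi_iff'.1 h1 y hy
    exact ⟨u, fun i => ⟨(hu i).1, y i, (hu i).2⟩, hu'⟩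
  choose u' hu' using h2
  have h3 := fun i : Fin n => strong_approx v₀ S (fun v => u v i)
    (fun v hv hv0 => (hu v hv hv0).1 i) (fun w => u' w i) (fun w => (hu' w).1 i)
  choose x hx using h3
  exact ⟨x, fun v hv hv0 => (hu v hv hv0).2 fun i _ => (hx i).1 v hv hv0,
    fun w => (hu' w).2 fun i _ => (hx i).2.1 w, fun v hv hv0 i => (hx i).2.2 v hv hv0⟩

end K986.StrongApprox
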