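import Groth.Agent.NumberField.K986.MulMat
import Groth.Agent.NumberField.K986.StrongApprox
import Groth.Agent.Etbc.H222.AdicLF
import Mathlib.RingTheory.Henselian

/-!
# Lifting a common root
-/

set_option autoImplicit false
universe u
open NumberField IsDedekindDomain

namespace K986.LocalRoot

open Polynomial Matrix MulMat StrongApprox

/-- roots in henselian local rings from vanishing norms -/
theorem exists_root_henselian {O : Type*} [CommRing O] [HenselianLocalRing O] {n m : ℕ}
    {G H P : O[X]} (hG : G.Monic) (hn : G.natDegree = n) (hH : H.Monic) (hm : H.natDegree = m)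
    (hHG : H ∣ G) (hadj : ∃ i j, IsUnit (adjugate (mulMat n G P) i j))
    (hdet : ¬ IsUnit (mulMat m H P).det)
    (A B : O[X]) (c : O) (hc : IsUnit c) (hAB : A * G + B * derivative G = C c) :
    ∃ ρ : O, H.eval ρ = 0 := by
  let res := IsLocalRing.residue O
  obtain ⟨i, j, hij⟩ := hadj
  have hG' : (G.map res).Monic := hG.map _
  have hH' : (H.map res).Monic := hH.map _
  have hn' : (G.map res).natDegree = n := by rw [hG.natDegree_map, hn]
  have hm' : (H.map res).natDegree = m := by rw [hH.natDegree_map, hm]
  have h1 : adjugate (mulMat n (G.map res) (P.map res)) ≠ 0 := by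
    intro h
    rw [← mulMat_map res hG] at h
    have h2 := res.map_adjugate (mulMat n G P)
    have h3 : res (adjugate (mulMat n G P) i j) = 0 := by
      have h4 := congrFun (congrFun h2 i) j
      have h5 := congrFun (congrFun h i) j
      exact h4.trans h5
    have h6 := hij.map res
    rw [h3] at h6
    exact not_isUnit_zero h6
  have h2 : (mulMat m (H.map res) (P.map res)).det = 0 := by
    rw [← mulMat_map res hH]
    have h3 : res (mulMat m H P).det = 0 := by
      rw [IsLocalRing.residue_eq_zero_iff, IsLocalRing.mem_maximalIdeal]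
      exact hdet
    rw [← h3]
    exact (res.map_det (mulMat m H P)).symm
  have h3 := not_isCoprime_of_det_eq_zero hH' hm' h2
  obtain ⟨ρ, hρ, -⟩ := exists_root hG' hn' (Polynomial.map_dvd res hHG) h1 h3
  obtain ⟨a₀, rfl⟩ := IsLocalRing.residue_surjective ρ
  obtain ⟨Q, hQ⟩ := hHG
  have h4 : res (H.eval a₀) = 0 := by
    rw [← eval_map_apply]
    exact hρ
  have h5 : IsUnit (H.derivative.eval a₀) := by
    by_contra hcon
    have h6 : res (H.derivative.eval a₀) = 0 := by
      rw [IsLocalRing.residue_eq_zero_iff, IsLocalRing.mem_maximalIdeal]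
      exact hcon
    have h7 := congrArg (fun f : O[X] => res (f.eval a₀)) hAB
    simp only [hQ, derivative_mul, eval_add, eval_mul, eval_C, map_add, map_mul, h4, h6] at h7
    have h8 := hc.map res
    rw [← h7] at h8
    simp at h8
  obtain ⟨a, ha, -⟩ := HenselianLocalRing.is_henselian H hH a₀
    ((IsLocalRing.residue_eq_zero_iff _).1 h4) h5
  exact ⟨a, ha⟩

/-- the criterion at a place `W` of `K` above the place `v` of `k` -/
theorem exists_root_completion {k K : Type*} [Field k] [NumberField k] [Field K] [NumberField K]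
    [Algebra k K] (v : HeightOneSpectrum (𝓞 k)) (W : HeightOneSpectrum (𝓞 K))
    (hWv : ∀ a : k, v.valuation k a ≤ 1 → W.valuation K (algebraMap k K a) ≤ 1)
    {n m : ℕ} {g : (𝓞 k)[X]} (hg : g.Monic) (hn : g.natDegree = n)
    {h : (𝓞 K)[X]} (hh : h.Monic) (hm : h.natDegree = m)
    (hhg : h ∣ g.map (algebraMap (𝓞 k) (𝓞 K)))
    (A B : (𝓞 k)[X]) (c : 𝓞 k) (hc : v.valuation k (c : k) = 1)
    (hAB : A * g + B * derivative g = C c)
    (x : Fin n → k) (hx : ∀ i, v.valuation k (x i) ≤ 1)
    (hadj : ∃ i j, v.valuation k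
      (adjugate (mulMat n (g.map (algebraMap (𝓞 k) k)) (toPoly x)) i j) = 1)
    (hdet : W.valuation K (mulMat m (h.map (algebraMap (𝓞 K) K))
      (toPoly fun i => algebraMap k K (x i))).det ≠ 1) :
    ∃ ρ : W.adicCompletion K,
      ((h.map (algebraMap (𝓞 K) K)).map (algebraMap K (W.adicCompletion K))).eval ρ = 0 := by
  have hens := Groth.Agent.Etbc.H222.AdicLF.henselian (K := K) W
  have hWv1 : ∀ a : k, v.valuation k a = 1 → W.valuation K (algebraMap k K a) = 1 := by
    intro a ha
    have ha0 : a ≠ 0 := by
      rintro rfl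
      rw [map_zero] at ha
      exact zero_ne_one ha
    refine le_antisymm (hWv a ha.le) ?_
    have h1 := hWv a⁻¹ (by rw [map_inv₀, ha, inv_one])
    rw [map_inv₀, map_inv₀] at h1
    exact (inv_le_one₀ (zero_lt_iff.2 (by simpa using ha0))).1 h1
  let O := W.adicCompletionIntegers K
  let ι : k →+* W.adicCompletion K := (algebraMap K (W.adicCompletion K)).comp (algebraMap k K)
  have hι : ∀ a, Valued.v (ι a) = W.valuation K (algebraMap k K a) := fun a =>
    valued_algebraMap W (algebraMap k K a)
  -- the polynomial `P` over `O`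
  let x' : Fin n → O := fun i => ⟨ι (x i), by
    change Valued.v (ι (x i)) ≤ 1
    rw [hι]
    exact hWv _ (hx i)⟩
  let G : O[X] := (g.map (algebraMap (𝓞 k) (𝓞 K))).map (algebraMap (𝓞 K) O)
  let H : O[X] := h.map (algebraMap (𝓞 K) O)
  have hG : G.Monic := (hg.map _).map _
  have hGn : G.natDegree = n := by rw [(hg.map _).natDegree_map, hg.natDegree_map, hn]
  have hH : H.Monic := hh.map _
  have hHm : H.natDegree = m := by rw [hh.natDegree_map, hm]
  let j : O →+* W.adicCompletion K := (W.adicCompletionIntegers K).subtype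
  have hjO : j.comp (algebraMap (𝓞 K) O) =
      (algebraMap K (W.adicCompletion K)).comp (algebraMap (𝓞 K) K) := rfl
  have hGj : G.map j = (g.map (algebraMap (𝓞 k) k)).map ι := by
    rw [Polynomial.map_map, Polynomial.map_map, Polynomial.map_map]
    congr 1
  have hHj : H.map j = (h.map (algebraMap (𝓞 K) K)).map (algebraMap K (W.adicCompletion K)) := by
    rw [Polynomial.map_map, Polynomial.map_map]
    congr 1
  have hPj : (toPoly x').map j = (toPoly x).map ι := by
    rw [toPoly_map, toPoly_map]
    rfl
  have hunit : ∀ u : O, Valued.v (j u) = 1 → IsUnit u := fun u hu =>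
    HeightOneSpectrum.adicCompletionIntegers.isUnit_iff_valued_eq_one.2 hu
  obtain ⟨i, l, hil⟩ := hadj
  have hadj' : IsUnit (adjugate (mulMat n G (toPoly x')) i l) := by
    apply hunit
    have h1 := j.map_adjugate (mulMat n G (toPoly x'))
    have h2 : j (adjugate (mulMat n G (toPoly x')) i l) =
        ι (adjugate (mulMat n (g.map (algebraMap (𝓞 k) k)) (toPoly x)) i l) := by
      have h3 := ι.map_adjugate (mulMat n (g.map (algebraMap (𝓞 k) k)) (toPoly x))
      refine (congrFun (congrFun h1 i) l).trans ?_
      refine Eq.trans ?_ (congrFun (congrFun h3 i) l).symm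
      change adjugate ((mulMat n G (toPoly x')).map j) i l =
        adjugate ((mulMat n (g.map (algebraMap (𝓞 k) k)) (toPoly x)).map ι) i l
      rw [mulMat_map j hG, mulMat_map ι (hg.map _), hGj, hPj]
    rw [h2, hι]
    exact hWv1 _ hil
  have hdet' : ¬ IsUnit (mulMat m H (toPoly x')).det := by
    intro hu
    apply hdet
    have h1 : j (mulMat m H (toPoly x')).det = algebraMap K (W.adicCompletion K)
        (mulMat m (h.map (algebraMap (𝓞 K) K)) (toPoly fun i => algebraMap k K (x i))).det := by
      refine (j.map_det _).trans ?_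
      refine Eq.trans ?_ ((algebraMap K (W.adicCompletion K)).map_det _).symm
      change ((mulMat m H (toPoly x')).map j).det =
        ((mulMat m (h.map (algebraMap (𝓞 K) K)) (toPoly fun i => algebraMap k K (x i))).map
          (algebraMap K (W.adicCompletion K))).det
      rw [mulMat_map j hH, mulMat_map _ (hh.map _), hHj, hPj, toPoly_map, toPoly_map]
      rfl
    have h2 := HeightOneSpectrum.adicCompletionIntegers.isUnit_iff_valued_eq_one.1 hu
    change Valued.v (j (mulMat m H (toPoly x')).det) = 1 at h2
    rw [h1, valued_algebraMap] at h2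
    exact h2
  let φ : 𝓞 k →+* O := (algebraMap (𝓞 K) O).comp (algebraMap (𝓞 k) (𝓞 K))
  have hcu : IsUnit (φ c) := by
    apply hunit
    have h1 : j (φ c) = ι (c : k) := rfl
    rw [h1, hι]
    exact hWv1 _ hc
  have hGφ : G = g.map φ := by
    simp only [G, φ, Polynomial.map_map]
  have hAB' : A.map φ * G + B.map φ * derivative G = C (φ c) := by
    have h1 := congrArg (Polynomial.map φ) hAB
    rw [Polynomial.map_add, Polynomial.map_mul, Polynomial.map_mul, map_C, ← derivative_map,
      ← hGφ] at h1
    exact h1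
  obtain ⟨ρ, hρ⟩ := exists_root_henselian hG hGn hH hHm (Polynomial.map_dvd _ hhg) ⟨i, l, hadj'⟩
    hdet' _ _ _ hcu hAB'
  refine ⟨j ρ, ?_⟩
  rw [← hHj, eval_map_apply, hρ, map_zero]

end K986.LocalRoot
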