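import Groth.Agent.NumberField.K986.MulMat
import Mathlib.NumberTheory.NumberField.Basic
import Mathlib.FieldTheory.PrimitiveElement
import Mathlib.FieldTheory.Minpoly.IsIntegrallyClosed
import Mathlib.RingTheory.Adjoin.PowerBasis
import Mathlib.RingTheory.Localization.Integral
import Mathlib.RingTheory.TensorProduct.Free

/-!
# Integral primitive elements, bases of powers, and norms
-/

set_option autoImplicit false
universe u
open NumberField
open scoped TensorProduct

namespace K986.Primitive

open Polynomial MulMat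

variable (k L : Type*) [Field k] [NumberField k] [Field L] [NumberField L] [Algebra k L]

theorem exists_integral_primitive : ∃ θ : 𝓞 L, Algebra.adjoin k {(θ : L)} = ⊤ := by
  obtain ⟨α, hα⟩ := Field.exists_primitive_element k L
  have h1 : IsAlgebraic ℤ α :=
    (IsFractionRing.isAlgebraic_iff ℤ ℚ L).2 (Algebra.IsAlgebraic.isAlgebraic (R := ℚ) α)
  obtain ⟨y, hy0, hy⟩ := h1.exists_integral_multiple
  let θ : 𝓞 L := ⟨y • α, hy⟩
  refine ⟨θ, ?_⟩
  have h2 : IntermediateField.adjoin k {(θ : L)} = ⊤ := by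
    rw [← hα]
    apply le_antisymm
    · rw [IntermediateField.adjoin_simple_le_iff]
      change y • α ∈ _
      exact zsmul_mem (IntermediateField.mem_adjoin_simple_self k α) y
    · rw [IntermediateField.adjoin_simple_le_iff]
      have h3 : α = ((y : k)⁻¹) • (θ : L) := by
        change α = ((y : k)⁻¹) • (y • α)
        rw [← Int.cast_smul_eq_zsmul k y α, smul_smul, inv_mul_cancel₀ (by exact_mod_cast hy0),
          one_smul]
      rw [h3]
      exact IntermediateField.smul_mem _ (IntermediateField.mem_adjoin_simple_self k _)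
  have h3 := IntermediateField.adjoin_simple_toSubalgebra_of_isAlgebraic
    (Algebra.IsAlgebraic.isAlgebraic (R := k) (θ : L))
  rw [h2, IntermediateField.top_toSubalgebra] at h3
  exact h3.symm

variable {k L}

omit [NumberField L] in
theorem minpoly_map (θ : 𝓞 L) :
    (minpoly (𝓞 k) θ).map (algebraMap (𝓞 k) k) = minpoly k (θ : L) := by
  have h := minpoly.isIntegrallyClosed_eq_field_fractions k L
    (Algebra.IsIntegral.isIntegral (R := 𝓞 k) θ)
  exact h.symm

omit [NumberField k] [NumberField L] in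
theorem minpoly_monic (θ : 𝓞 L) : (minpoly (𝓞 k) θ).Monic :=
  minpoly.monic (Algebra.IsIntegral.isIntegral θ)

theorem minpoly_separable (θ : 𝓞 L) :
    ((minpoly (𝓞 k) θ).map (algebraMap (𝓞 k) k)).Separable := by
  rw [minpoly_map]
  exact (Algebra.IsSeparable.isSeparable k (θ : L))

/-- the basis of powers of a generator -/
theorem exists_basis (θ : 𝓞 L) (hθ : Algebra.adjoin k {(θ : L)} = ⊤) {n : ℕ}
    (hn : (minpoly (𝓞 k) θ).natDegree = n) :
    ∃ b : Module.Basis (Fin n) k L, ∀ i, b i = (θ : L) ^ (i : ℕ) := by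
  have hint : IsIntegral k (θ : L) := Algebra.IsIntegral.isIntegral _
  have hn' : (PowerBasis.ofAdjoinEqTop hint hθ).dim = n := by
    rw [PowerBasis.ofAdjoinEqTop_dim, ← hn, ← minpoly_map, (minpoly_monic θ).natDegree_map]
  subst hn'
  exact ⟨(PowerBasis.ofAdjoinEqTop hint hθ).basis, fun i => by
    rw [PowerBasis.basis_eq_pow, PowerBasis.ofAdjoinEqTop_gen]⟩

/-- embeddings from roots -/
theorem nonempty_algHom (θ : 𝓞 L) (hθ : Algebra.adjoin k {(θ : L)} = ⊤) {E : Type*} [Field E]
    [Algebra k E] (ρ : E)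
    (hρ : (((minpoly (𝓞 k) θ).map (algebraMap (𝓞 k) k)).map (algebraMap k E)).eval ρ = 0) :
    Nonempty (L →ₐ[k] E) := by
  have hint : IsIntegral k (θ : L) := Algebra.IsIntegral.isIntegral _
  refine ⟨(PowerBasis.ofAdjoinEqTop hint hθ).lift ρ ?_⟩
  rw [PowerBasis.ofAdjoinEqTop_gen, ← minpoly_map, ← eval_map_algebraMap]
  exact hρ

/-- a Bézout identity with integral coefficients -/
theorem exists_bezout (g : (𝓞 k)[X]) (hsep : (g.map (algebraMap (𝓞 k) k)).Separable) :
    ∃ (A B : (𝓞 k)[X]) (c : 𝓞 k), c ≠ 0 ∧ A * g + B * derivative g = C c := by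
  obtain ⟨a, b, hab⟩ := hsep
  obtain ⟨r, hr, hra⟩ := IsLocalization.integerNormalization_spec (nonZeroDivisors (𝓞 k)) a
  obtain ⟨s, hs, hsb⟩ := IsLocalization.integerNormalization_spec (nonZeroDivisors (𝓞 k)) b
  refine ⟨C s * IsLocalization.integerNormalization (nonZeroDivisors (𝓞 k)) a,
    C r * IsLocalization.integerNormalization (nonZeroDivisors (𝓞 k)) b, r * s,
    mul_ne_zero (nonZeroDivisors.ne_zero hr) (nonZeroDivisors.ne_zero hs), ?_⟩
  apply Polynomial.map_injective (algebraMap (𝓞 k) k) (RingOfIntegers.coe_injective)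
  have hra' : map (algebraMap (𝓞 k) k) (IsLocalization.integerNormalization
      (nonZeroDivisors (𝓞 k)) a) = C (algebraMap (𝓞 k) k r) * a := by
    rw [hra]
    ext i
    rw [coeff_smul, coeff_C_mul, Algebra.smul_def]
  have hsb' : map (algebraMap (𝓞 k) k) (IsLocalization.integerNormalization
      (nonZeroDivisors (𝓞 k)) b) = C (algebraMap (𝓞 k) k s) * b := by
    rw [hsb]
    ext i
    rw [coeff_smul, coeff_C_mul, Algebra.smul_def]
  rw [Polynomial.map_add, Polynomial.map_mul, Polynomial.map_mul, Polynomial.map_mul,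
    Polynomial.map_mul, hra', hsb', map_C, map_C, map_C, ← derivative_map]
  rw [map_mul, C_mul]
  linear_combination (C (algebraMap (𝓞 k) k r) * C (algebraMap (𝓞 k) k s)) * hab

end K986.Primitive
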