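import Groth.Agent.NumberField.K986.NormApprox
import Groth.Agent.NumberField.K986.LocalRoot
import Groth.Agent.NumberField.K986.Primitive

/-!
# Elements near local norms which are units or have degree one places
-/

set_option autoImplicit false
universe u
open NumberField IsDedekindDomain
open scoped TensorProduct

namespace K986.DegOne

open Polynomial Matrix MulMat NormVar StrongApprox PolyVal Primitive

section Tensor

variable {k L : Type*} [Field k] [NumberField k] [Field L] [NumberField L] [Algebra k L]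

omit [NumberField L] in
theorem tensor_norm (θ : 𝓞 L) {n : ℕ} (hn : (minpoly (𝓞 k) θ).natDegree = n)
    (b : Module.Basis (Fin n) k L) (hb : ∀ i, b i = (θ : L) ^ (i : ℕ))
    (E : Type*) [Field E] [Algebra k E] (z : E ⊗[k] L) :
    ∃ y : Fin n → E, Algebra.norm E z =
      (mulMat n (((minpoly (𝓞 k) θ).map (algebraMap (𝓞 k) k)).map (algebraMap k E)) (toPoly y)).det := by
  let bE := Algebra.TensorProduct.basis E b
  let θE : E ⊗[k] L := (1 : E) ⊗ₜ[k] (θ : L)
  have hbE : ∀ i, bE i = θE ^ (i : ℕ) := by
    intro i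
    rw [Algebra.TensorProduct.basis_apply, hb i, Algebra.TensorProduct.tmul_pow, one_pow]
  have hθE : aeval θE (((minpoly (𝓞 k) θ).map (algebraMap (𝓞 k) k)).map (algebraMap k E)) = 0 := by
    rw [aeval_map_algebraMap, minpoly_map]
    have h1 : θE = Algebra.TensorProduct.includeRight (R := k) (A := E) (B := L) (θ : L) := rfl
    rw [h1, aeval_algHom_apply, minpoly.aeval, map_zero]
  let y : Fin n → E := fun i => bE.repr z i
  refine ⟨y, ?_⟩
  have hz : z = aeval θE (toPoly y) := by
    unfold toPoly
    rw [map_sum]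
    conv_lhs => rw [← bE.sum_repr z]
    refine Finset.sum_congr rfl fun i _ => ?_
    rw [map_mul, aeval_C, map_pow, aeval_X, hbE, Algebra.smul_def]
  conv_lhs => rw [hz]
  refine norm_eq_det (((minpoly_monic θ).map _).map _) ?_ bE θE hbE hθE _
  rw [((minpoly_monic θ).map _).natDegree_map, (minpoly_monic θ).natDegree_map, hn]

end Tensor

theorem continuous_det {k K : Type*} [Field k] [Field K] [Algebra k K]
    [TopologicalSpace K] [IsTopologicalRing K] {n : ℕ} {g : k[X]} (hg : g.Monic) :
    Continuous fun y : Fin n → K => (mulMat n (g.map (algebraMap k K)) (toPoly y)).det := by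
  have h := continuous_aeval (K := K) (npoly n g)
  convert h using 2 with y
  exact (aeval_npoly n hg y).symm

theorem det_one {K : Type*} [Field K] {n : ℕ} (hn0 : 0 < n) {g : K[X]} (hg : g.Monic)
    (hn : g.natDegree = n) : (mulMat n g (toPoly (Pi.single ⟨0, hn0⟩ 1))).det = 1 := by
  have h1 : toPoly (Pi.single (⟨0, hn0⟩ : Fin n) (1 : K)) = 1 := by
    ext m
    rw [coeff_toPoly]
    split_ifs with h
    · by_cases hm : m = 0
      · subst hm
        simp
      · rw [Pi.single_eq_of_ne (by simpa using hm), coeff_one, if_neg hm]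
    · rw [coeff_one, if_neg (by omega)]
  rw [h1, mulMat_one hg hn, Matrix.det_one]

theorem det_map {k K : Type*} [Field k] [Field K] [Algebra k K] {n : ℕ} {g : k[X]} (hg : g.Monic)
    (x : Fin n → k) : (mulMat n (g.map (algebraMap k K)) (toPoly fun i => algebraMap k K (x i))).det =
      algebraMap k K (mulMat n g (toPoly x)).det := by
  rw [(algebraMap k K).map_det]
  change _ = ((mulMat n g (toPoly x)).map (algebraMap k K)).det
  rw [mulMat_map _ hg, toPoly_map]

open Classical in
theorem main (k L : Type u) [Field k] [NumberField k]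
    [Field L] [NumberField L] [Algebra k L]
    (Sf : Finset (HeightOneSpectrum (𝓞 k)))
    (Si : Finset (InfinitePlace k))
    (tf : (v : HeightOneSpectrum (𝓞 k)) → v.adicCompletion k)
    (ti : (w : InfinitePlace k) → w.Completion)
    (htf : ∀ v ∈ Sf, tf v ≠ 0 ∧ ∃ x : (v.adicCompletion k) ⊗[k] L,
      Algebra.norm (v.adicCompletion k) x = tf v)
    (hti : ∀ w ∈ Si, ti w ≠ 0 ∧ ∃ x : w.Completion ⊗[k] L, Algebra.norm w.Completion x = ti w)
    (Uf : (v : HeightOneSpectrum (𝓞 k)) → Set (v.adicCompletion k))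
    (hUf : ∀ v ∈ Sf, IsOpen (Uf v) ∧ tf v ∈ Uf v)
    (Ui : (w : InfinitePlace k) → Set w.Completion)
    (hUi : ∀ w ∈ Si, IsOpen (Ui w) ∧ ti w ∈ Ui w)
    (v₀ : HeightOneSpectrum (𝓞 k)) (hv₀ : v₀ ∉ Sf)
    (hLv₀ : Nonempty (L →ₐ[k] v₀.adicCompletion k)) :
    ∃ t : k, t ≠ 0 ∧ (∀ v ∈ Sf, algebraMap k (v.adicCompletion k) t ∈ Uf v) ∧
      (∀ w ∈ Si, algebraMap k w.Completion t ∈ Ui w) ∧
      (∀ v : HeightOneSpectrum (𝓞 k), v ∉ Sf → v ≠ v₀ → v.valuation k t ≤ 1) ∧
      ∀ v : HeightOneSpectrum (𝓞 k), v ∉ Sf →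
        v.valuation k t = 1 ∨ Nonempty (L →ₐ[k] v.adicCompletion k) := by
  obtain ⟨θ, hθ⟩ := exists_integral_primitive k L
  let g := minpoly (𝓞 k) θ
  let n := g.natDegree
  have hg : g.Monic := minpoly_monic θ
  have hn : g.natDegree = n := rfl
  let gk := g.map (algebraMap (𝓞 k) k)
  have hgk : gk.Monic := hg.map _
  have hgkn : gk.natDegree = n := by rw [hg.natDegree_map]
  have hgE : ∀ {E : Type u} [Field E] [Algebra k E], (gk.map (algebraMap k E)).Monic :=
    fun {E} _ _ => hgk.map _
  have hgEn : ∀ {E : Type u} [Field E] [Algebra k E], (gk.map (algebraMap k E)).natDegree = n :=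
    fun {E} _ _ => by rw [hgk.natDegree_map, hgkn]
  have hsep : gk.Separable := minpoly_separable θ
  obtain ⟨b, hb⟩ := exists_basis θ hθ hn
  have hn0 : 0 < n := minpoly.natDegree_pos (Algebra.IsIntegral.isIntegral θ)
  obtain ⟨A, B, c, hc0, hAB⟩ := exists_bezout g hsep
  have hfin := finite_mem (A := 𝓞 k) hc0
  let S' : Finset (HeightOneSpectrum (𝓞 k)) := insert v₀ (Sf ∪ hfin.toFinset)
  -- points at the finite places
  have hPf : ∀ v : HeightOneSpectrum (𝓞 k), ∃ y : Fin n → v.adicCompletion k, v ∈ Sf →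
      (mulMat n (gk.map (algebraMap k (v.adicCompletion k))) (toPoly y)).det = tf v := by
    intro v
    by_cases hv : v ∈ Sf
    · obtain ⟨x, hx⟩ := (htf v hv).2
      obtain ⟨y, hy⟩ := tensor_norm θ hn b hb (v.adicCompletion k) x
      exact ⟨y, fun _ => by rw [← hx, hy]⟩
    · exact ⟨0, fun h => absurd h hv⟩
  choose yf hyf using hPf
  have hPi : ∀ w : InfinitePlace k, ∃ y : Fin n → w.Completion,
      (mulMat n (gk.map (algebraMap k w.Completion)) (toPoly y)).det ≠ 0 ∧
      (w ∈ Si → (mulMat n (gk.map (algebraMap k w.Completion)) (toPoly y)).det = ti w) := by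
    intro w
    by_cases hw : w ∈ Si
    · obtain ⟨x, hx⟩ := (hti w hw).2
      obtain ⟨y, hy⟩ := tensor_norm θ hn b hb w.Completion x
      rw [hx] at hy
      exact ⟨y, by rw [← hy]; exact (hti w hw).1, fun _ => hy.symm⟩
    · refine ⟨Pi.single ⟨0, hn0⟩ 1, ?_, fun h => absurd h hw⟩
      rw [det_one hn0 hgE hgEn]
      exact one_ne_zero
  choose yi hyi0 hyi using hPi
  obtain ⟨x, hx1, hx2, hx3⟩ := NormApprox.norm_approx hn0 g hg hn hsep v₀ S'
    (Finset.mem_insert_self _ _)
    (fun v => if v ∈ Sf then yf v else Pi.single ⟨0, hn0⟩ 1)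
    (fun v => if v ∈ Sf then
      {y | (mulMat n (gk.map (algebraMap k (v.adicCompletion k))) (toPoly y)).det ∈ Uf v}
      else {y | Valued.v (mulMat n (gk.map (algebraMap k (v.adicCompletion k))) (toPoly y)).det = 1})
    (by
      intro v hv hv0
      by_cases hvS : v ∈ Sf
      · simp only [if_pos hvS]
        refine ⟨(hUf v hvS).1.preimage (continuous_det hgk), ?_⟩
        change (mulMat n (gk.map (algebraMap k (v.adicCompletion k))) (toPoly (yf v))).det ∈ Uf v
        rw [hyf v hvS]
        exact (hUf v hvS).2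
      · simp only [if_neg hvS]
        refine ⟨(CodimTwoMain.isOpen_valued_eq_one v).preimage (continuous_det hgk), ?_⟩
        change Valued.v (mulMat n (gk.map (algebraMap k (v.adicCompletion k)))
          (toPoly (Pi.single ⟨0, hn0⟩ 1))).det = 1
        rw [det_one hn0 hgE hgEn, map_one])
    yi hyi0
    (fun w => {y | (mulMat n (gk.map (algebraMap k w.Completion)) (toPoly y)).det ≠ 0 ∧
      (w ∈ Si → (mulMat n (gk.map (algebraMap k w.Completion)) (toPoly y)).det ∈ Ui w)})
    (by
      intro w
      refine ⟨(isOpen_ne.preimage (continuous_det hgk)).inter ?_, hyi0 w, fun hw => ?_⟩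
      · by_cases hw : w ∈ Si
        · simp only [hw, true_imp_iff]
          exact (hUi w hw).1.preimage (continuous_det hgk)
        · simp only [hw, false_imp_iff]
          exact isOpen_univ
      · rw [hyi w hw]
        exact (hUi w hw).2)
  have hval : ∀ v ∉ S', v.valuation k (mulMat n gk (toPoly x)).det ≤ 1 := by
    intro v hv
    have h1 := PolyVal.aeval_le_one (v.valuation k) (fun a => v.valuation_le_one a) (npoly n g) x
      (hx1 v hv).1
    rwa [aeval_npoly n hg] at h1
  have hval1 : ∀ v ∈ S', v ∉ Sf → v ≠ v₀ → v.valuation k (mulMat n gk (toPoly x)).det = 1 := by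
    intro v hv hvS hv0
    have h1 := hx2 v hv hv0
    simp only [if_neg hvS] at h1
    change Valued.v (mulMat n (gk.map (algebraMap k (v.adicCompletion k)))
      (toPoly fun i => algebraMap k (v.adicCompletion k) (x i))).det = 1 at h1
    rwa [det_map hgk, valued_algebraMap] at h1
  refine ⟨(mulMat n gk (toPoly x)).det, ?_, ?_, ?_, ?_, ?_⟩
  · obtain ⟨w⟩ : Nonempty (InfinitePlace k) := inferInstance
    intro h
    apply (hx3 w).1
    rw [det_map hgk, h, map_zero]
  · intro v hv
    have hv0 : v ≠ v₀ := by rintro rfl; exact hv₀ hv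
    have h1 := hx2 v (Finset.mem_insert_of_mem (Finset.mem_union_left _ hv)) hv0
    simp only [if_pos hv] at h1
    change (mulMat n (gk.map (algebraMap k (v.adicCompletion k)))
      (toPoly fun i => algebraMap k (v.adicCompletion k) (x i))).det ∈ Uf v at h1
    rwa [det_map hgk] at h1
  · intro w hw
    have h1 := (hx3 w).2 hw
    rwa [det_map hgk] at h1
  · intro v hv hv0
    by_cases hvS : v ∈ S'
    · exact (hval1 v hvS hv hv0).le
    · exact hval v hvS
  · intro v hv
    by_cases hv0 : v = v₀
    · subst hv0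
      exact Or.inr hLv₀
    · by_cases hvS : v ∈ S'
      · exact Or.inl (hval1 v hvS hv hv0)
      · by_cases h1 : v.valuation k (mulMat n gk (toPoly x)).det = 1
        · exact Or.inl h1
        · right
          have hcv : v.valuation k (c : k) = 1 := by
            rw [HeightOneSpectrum.valuation_eq_one_iff_notMem]
            intro h2
            apply hvS
            simp only [S', Finset.mem_insert, Finset.mem_union]
            right; right
            simpa using h2
          obtain ⟨ρ, hρ⟩ := LocalRoot.exists_root_completion v v (fun a ha => ha) hg hn hg hn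
            (dvd_of_eq (by ext i; rw [coeff_map]; rfl)) A B c hcv hAB x (hx1 v hvS).1 (hx1 v hvS).2 h1
          exact nonempty_algHom θ hθ ρ hρ

end K986.DegOne
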