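import Groth.Agent.NumberField.K986.StrongApprox
import Mathlib.NumberTheory.RamificationInertia.Valuation
import Mathlib.NumberTheory.RamificationInertia.Unramified
import Mathlib.NumberTheory.NumberField.Completion.FinitePlace

/-!
# Places of degree one give embeddings into completions
-/

set_option autoImplicit false
universe u
open NumberField IsDedekindDomain

namespace K986.DegOnePlace

open StrongApprox Filter Topology

/-- completions at finite places are functorial -/
theorem exists_ringHom (K L : Type*) [Field K] [NumberField K] [Field L] [NumberField L]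
    [Algebra K L]
    (v : HeightOneSpectrum (𝓞 K)) (w : HeightOneSpectrum (𝓞 L)) (h : w.asIdeal.LiesOver v.asIdeal) :
    ∃ f : v.adicCompletion K →+* w.adicCompletion L, Continuous f ∧
      ∀ x, f (algebraMap K (v.adicCompletion K) x) =
        algebraMap L (w.adicCompletion L) (algebraMap K L x) := by
  have hu := HeightOneSpectrum.uniformContinuous_algebraMap_liesOver (K := K) L v w
  let g := UniformSpace.Completion.mapRingHom
    (algebraMap (WithVal (v.valuation K)) (WithVal (w.valuation L))) hu.continuous
  refine ⟨((HeightOneSpectrum.adicCompletion.equiv L w).symm : _ →+* _).comp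
    (g.comp (HeightOneSpectrum.adicCompletion.equiv K v : _ →+* _)), ?_, ?_⟩
  · exact (HeightOneSpectrum.adicCompletion.continuous_ofCompletion L w).comp
      (UniformSpace.Completion.continuous_map.comp
        (HeightOneSpectrum.adicCompletion.continuous_toCompletion K v))
  · intro x
    have h1 : (algebraMap K (v.adicCompletion K) x).toCompletion =
        ((WithVal.equiv (v.valuation K)).symm x : WithVal (v.valuation K)) := rfl
    have h2 : (algebraMap L (w.adicCompletion L) (algebraMap K L x)).toCompletion =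
        ((WithVal.equiv (w.valuation L)).symm (algebraMap K L x) : WithVal (w.valuation L)) := rfl
    apply HeightOneSpectrum.adicCompletion.ext
    change g ((algebraMap K (v.adicCompletion K) x).toCompletion) =
      (algebraMap L (w.adicCompletion L) (algebraMap K L x)).toCompletion
    rw [h1, h2]
    exact UniformSpace.Completion.mapRingHom_coe _ _

section Dedekind

variable {A : Type*} [CommRing A] [IsDedekindDomain A] {K : Type*} [Field K] [Algebra A K]
  [IsFractionRing A K]

/-- Cauchy sequences converge -/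
theorem exists_limit (v : HeightOneSpectrum A) (a : ℕ → v.adicCompletion K)
    (h : ∀ m n, m ≤ n → Valued.v (a n - a m) ≤ WithZero.exp (-(m : ℤ))) :
    ∃ y, Tendsto a atTop (𝓝 y) := by
  have hcau : CauchySeq a := by
    rw [CauchySeq, Valued.cauchy_iff]
    refine ⟨inferInstance, fun γ => ?_⟩
    have hy0 : MonoidWithZeroHom.ValueGroup₀.embedding γ.1 ≠ (0 : WithZero (Multiplicative ℤ)) :=
      (_root_.map_ne_zero _).2 γ.ne_zero
    obtain ⟨N, hN⟩ := WithZero.exists_exp_neg_natCast_lt hy0
    refine ⟨a '' Set.Ici N, ?_, ?_⟩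
    · exact image_mem_map (Ici_mem_atTop N)
    · rintro _ ⟨i, hi, rfl⟩ _ ⟨j, hj, rfl⟩
      rw [Valuation.restrict_lt_iff_lt_embedding]
      refine lt_of_le_of_lt ?_ hN
      have h1 := h N i (Set.mem_Ici.1 hi)
      have h2 := h N j (Set.mem_Ici.1 hj)
      have h3 : a j - a i = (a j - a N) - (a i - a N) := by ring
      rw [h3]
      exact (Valuation.map_sub _ _ _).trans (max_le h2 h1)
  exact cauchySeq_tendsto_of_complete hcau

theorem tendsto_of_close (v : HeightOneSpectrum A) (a : ℕ → v.adicCompletion K)
    (x : v.adicCompletion K) (h : ∀ n, Valued.v (a n - x) ≤ WithZero.exp (-(n : ℤ))) :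
    Tendsto a atTop (𝓝 x) := by
  rw [tendsto_nhds]
  intro U hU hx
  obtain ⟨n, hn⟩ := exists_ball_subset v hU hx
  filter_upwards [Ici_mem_atTop n] with m hm
  apply hn
  refine (h m).trans ?_
  rw [WithZero.exp_le_exp]
  have : n ≤ m := hm
  omega

end Dedekind

variable {K L : Type*} [Field K] [NumberField K] [Field L] [NumberField L] [Algebra K L]

/-- if `K` is dense in `L` for the topology of a place unramified over `w`, then `L` embeds in
`K_w` -/
theorem nonempty_algHom_of_dense (w : HeightOneSpectrum (𝓞 K)) (W : HeightOneSpectrum (𝓞 L))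
    (hW : W.asIdeal.LiesOver w.asIdeal)
    (hval : ∀ a : K, W.valuation L (algebraMap K L a) = w.valuation K a)
    (hdense : ∀ (x : L) (n : ℕ), ∃ a : K, W.valuation L (x - algebraMap K L a) ≤
      WithZero.exp (-(n : ℤ))) :
    Nonempty (L →ₐ[K] w.adicCompletion K) := by
  obtain ⟨f, hf, hfx⟩ := exists_ringHom K L w W hW
  have hsurj : ∀ x : L, ∃ y : w.adicCompletion K, f y = algebraMap L (W.adicCompletion L) x := by
    intro x
    choose a ha using hdense x
    obtain ⟨y, hy⟩ := exists_limit w (fun n => algebraMap K (w.adicCompletion K) (a n)) (by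
      intro m n hmn
      rw [← map_sub, valued_algebraMap, ← hval, map_sub]
      have e : algebraMap K L (a n) - algebraMap K L (a m) =
        (x - algebraMap K L (a m)) - (x - algebraMap K L (a n)) := by ring
      rw [e]
      refine (Valuation.map_sub _ _ _).trans (max_le (ha m) ((ha n).trans ?_))
      rw [WithZero.exp_le_exp]
      omega)
    refine ⟨y, ?_⟩
    have h1 : Tendsto (fun n => f (algebraMap K (w.adicCompletion K) (a n))) atTop (𝓝 (f y)) :=
      (hf.tendsto y).comp hy
    have h2 : Tendsto (fun n => f (algebraMap K (w.adicCompletion K) (a n))) atTop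
        (𝓝 (algebraMap L (W.adicCompletion L) x)) := by
      apply tendsto_of_close W
      intro n
      rw [hfx, ← map_sub, valued_algebraMap, Valuation.map_sub_swap]
      exact ha n
    exact tendsto_nhds_unique h1 h2
  choose g hg using hsurj
  have hinj := f.injective
  refine ⟨{ toFun := g, map_one' := ?_, map_mul' := ?_, map_zero' := ?_, map_add' := ?_,
            commutes' := ?_ }⟩
  · exact hinj (by rw [hg, map_one, map_one])
  · exact fun x y => hinj (by rw [hg, map_mul, map_mul, hg, hg])
  · exact hinj (by rw [hg, map_zero, map_zero])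
  · exact fun x y => hinj (by rw [hg, map_add, map_add, hg, hg])
  · exact fun r => hinj (by rw [hg, hfx])

/-- valuations at an unramified place -/
theorem valuation_of_ramificationIdx_eq_one (w : HeightOneSpectrum (𝓞 K))
    (W : HeightOneSpectrum (𝓞 L)) [hW : W.asIdeal.LiesOver w.asIdeal]
    (he : W.asIdeal.ramificationIdx (𝓞 K) = 1) (a : K) :
    W.valuation L (algebraMap K L a) = w.valuation K a := by
  have h1 := HeightOneSpectrum.valuation_liesOver (K := K) L w W a
  rw [Ideal.ramificationIdx'_eq_ramificationIdx w.asIdeal W.asIdeal w.ne_bot, he, pow_one] at h1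
  exact h1.symm

theorem exp_neg_one_lt_one : WithZero.exp (-(1 : ℤ)) < (1 : WithZero (Multiplicative ℤ)) := by
  rw [← WithZero.exp_zero, WithZero.exp_lt_exp]; norm_num

theorem lt_one_iff (z : WithZero (Multiplicative ℤ)) : z < 1 ↔ z ≤ WithZero.exp (-1 : ℤ) := by
  rw [← WithZero.lt_mul_exp_iff_le WithZero.exp_ne_zero, ← WithZero.exp_add, neg_add_cancel,
    WithZero.exp_zero]

/-- density of `K` in `L` at a place of degree one -/
theorem dense_of_residue (w : HeightOneSpectrum (𝓞 K)) (W : HeightOneSpectrum (𝓞 L))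
    (hval : ∀ a : K, W.valuation L (algebraMap K L a) = w.valuation K a)
    (hres : ∀ α : 𝓞 L, ∃ a : 𝓞 K, α - algebraMap (𝓞 K) (𝓞 L) a ∈ W.asIdeal)
    (x : L) (n : ℕ) : ∃ a : K, W.valuation L (x - algebraMap K L a) ≤ WithZero.exp (-(n : ℤ)) := by
  obtain ⟨π, hπ⟩ := w.valuation_exists_uniformizer K
  have hπ0 : π ≠ 0 := by
    rintro rfl
    rw [map_zero] at hπ
    exact WithZero.exp_ne_zero hπ.symm
  have hπL : algebraMap K L π ≠ 0 := by simpa using hπ0
  have hWπ : ∀ m : ℕ, W.valuation L (algebraMap K L π ^ m) = WithZero.exp (-(m : ℤ)) := by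
    intro m
    rw [map_pow, hval, hπ, ← WithZero.exp_nsmul]
    simp
  -- approximation modulo the maximal ideal
  have h1 : ∀ z : L, W.valuation L z ≤ 1 → ∃ b : K, W.valuation L (z - algebraMap K L b) ≤
      WithZero.exp (-1 : ℤ) := by
    intro z hz
    obtain ⟨α, hα⟩ := W.exists_valuation_sub_lt_of_integer hz 1
    obtain ⟨b, hb⟩ := hres α
    refine ⟨(b : K), ?_⟩
    rw [← lt_one_iff]
    have e : z - algebraMap K L (b : K) = (z - (α : L)) +
        ((α - algebraMap (𝓞 K) (𝓞 L) b : 𝓞 L) : L) := by
      have : ((α - algebraMap (𝓞 K) (𝓞 L) b : 𝓞 L) : L) = (α : L) - algebraMap K L (b : K) :=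
        map_sub (algebraMap (𝓞 L) L) α (algebraMap (𝓞 K) (𝓞 L) b)
      rw [this]
      ring
    rw [e]
    refine (Valuation.map_add _ _ _).trans_lt (max_lt ?_ ?_)
    · rw [Valuation.map_sub_swap]
      exact hα
    · rw [HeightOneSpectrum.valuation_lt_one_iff_mem]
      exact hb
  -- integral elements
  have h2 : ∀ (m : ℕ) (z : L), W.valuation L z ≤ 1 → ∃ b : K,
      W.valuation L (z - algebraMap K L b) ≤ WithZero.exp (-(m : ℤ)) := by
    intro m
    induction m with
    | zero =>
      intro z hz
      refine ⟨0, ?_⟩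
      simpa using hz
    | succ m ih =>
      intro z hz
      obtain ⟨b, hb⟩ := ih z hz
      obtain ⟨c, hc⟩ := h1 ((z - algebraMap K L b) / algebraMap K L π ^ m) (by
        rw [map_div₀, hWπ, div_le_one₀ (zero_lt_iff.2 WithZero.exp_ne_zero)]
        exact hb)
      refine ⟨b + π ^ m * c, ?_⟩
      have e : z - algebraMap K L (b + π ^ m * c) = algebraMap K L π ^ m *
          ((z - algebraMap K L b) / algebraMap K L π ^ m - algebraMap K L c) := by
        rw [map_add, map_mul, map_pow]
        field_simp
        ring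
      rw [e, map_mul, hWπ]
      have e2 : WithZero.exp (-((m + 1 : ℕ) : ℤ)) =
          WithZero.exp (-(m : ℤ)) * (WithZero.exp (-1 : ℤ) : WithZero (Multiplicative ℤ)) := by
        rw [← WithZero.exp_add]
        congr 1
        push_cast
        ring
      rw [e2]
      exact mul_le_mul_right hc _
  -- general elements
  obtain ⟨m, hm⟩ : ∃ m : ℕ, W.valuation L (algebraMap K L π ^ m * x) ≤ 1 := by
    by_cases hx : x = 0
    · exact ⟨0, by simp [hx]⟩
    obtain ⟨m, hm⟩ := WithZero.exists_exp_neg_natCast_lt
      (x := (W.valuation L x)⁻¹) (by simpa using hx)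
    refine ⟨m, ?_⟩
    rw [map_mul, hWπ]
    have h0 : 0 < W.valuation L x := (Valuation.pos_iff _).2 hx
    calc WithZero.exp (-(m : ℤ)) * W.valuation L x
        ≤ (W.valuation L x)⁻¹ * W.valuation L x := mul_le_mul' hm.le le_rfl
      _ = 1 := inv_mul_cancel₀ h0.ne'
  obtain ⟨b, hb⟩ := h2 (m + n) _ hm
  refine ⟨b / π ^ m, ?_⟩
  have e : x - algebraMap K L (b / π ^ m) =
      (algebraMap K L π ^ m * x - algebraMap K L b) / algebraMap K L π ^ m := by
    rw [map_div₀, map_pow]
    field_simp
  rw [e, map_div₀, hWπ, div_le_iff₀ (zero_lt_iff.2 WithZero.exp_ne_zero), ← WithZero.exp_add]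
  refine hb.trans ?_
  rw [WithZero.exp_le_exp]
  push_cast
  ring_nf
  exact le_rfl

/-- a place of degree one gives an embedding in the completion -/
theorem nonempty_algHom (w : HeightOneSpectrum (𝓞 K)) (P : Ideal (𝓞 L)) [hP : P.IsPrime]
    [hPw : P.LiesOver w.asIdeal] (he : P.ramificationIdx (𝓞 K) = 1)
    (hres : ∀ α : 𝓞 L, ∃ a : 𝓞 K, α - algebraMap (𝓞 K) (𝓞 L) a ∈ P) :
    Nonempty (L →ₐ[K] w.adicCompletion K) := by
  have hP0 : P ≠ ⊥ := by
    rintro rfl
    apply w.ne_bot
    rw [hPw.over, Ideal.under_bot]
  let W : HeightOneSpectrum (𝓞 L) := ⟨P, hP, hP0⟩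
  have hW : W.asIdeal.LiesOver w.asIdeal := hPw
  have hval := valuation_of_ramificationIdx_eq_one w W he
  exact nonempty_algHom_of_dense w W hW hval (dense_of_residue w W hval hres)

end K986.DegOnePlace
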