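import Mathlib.LinearAlgebra.Matrix.Adjugate
import Mathlib.LinearAlgebra.Matrix.ToLinearEquiv
import Mathlib.LinearAlgebra.Matrix.Nondegenerate
import Mathlib.Algebra.Polynomial.RingDivision
import Mathlib.Algebra.Polynomial.Div
import Mathlib.RingTheory.Norm.Defs
import Mathlib.RingTheory.PowerBasis
import Mathlib.Algebra.MvPolynomial.Eval

/-!
# The matrix of multiplication by a polynomial on `R[X]/(g)`
-/

set_option autoImplicit false

namespace K986.MulMat

open Polynomial Matrix

section Basic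

variable {R : Type*} [CommRing R]

/-- the polynomial with given coefficients -/
noncomputable def toPoly {n : ℕ} (x : Fin n → R) : R[X] := ∑ i, C (x i) * X ^ (i : ℕ)

theorem coeff_toPoly {n : ℕ} (x : Fin n → R) (m : ℕ) :
    (toPoly x).coeff m = if h : m < n then x ⟨m, h⟩ else 0 := by
  unfold toPoly
  rw [finsetSum_coeff]
  simp only [coeff_C_mul, coeff_X_pow]
  split_ifs with h
  · rw [Finset.sum_eq_single (⟨m, h⟩ : Fin n)]
    · simp
    · intro b _ hb
      rw [if_neg, mul_zero]
      intro h1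
      exact hb (Fin.ext h1.symm)
    · intro h1; exact absurd (Finset.mem_univ _) h1
  · apply Finset.sum_eq_zero
    intro b _
    rw [if_neg, mul_zero]
    intro h1
    exact h (h1 ▸ b.2)

@[simp]
theorem coeff_toPoly_fin {n : ℕ} (x : Fin n → R) (i : Fin n) : (toPoly x).coeff i = x i := by
  rw [coeff_toPoly, dif_pos i.2]

theorem toPoly_injective {n : ℕ} : Function.Injective (toPoly : (Fin n → R) → R[X]) := by
  intro x y h
  ext i
  rw [← coeff_toPoly_fin x, h, coeff_toPoly_fin]

theorem toPoly_coeff {n : ℕ} {Q : R[X]} (hQ : Q.degree < n) :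
    toPoly (fun i : Fin n => Q.coeff i) = Q := by
  ext m
  rw [coeff_toPoly]
  split_ifs with h
  · rfl
  · exact (coeff_eq_zero_of_degree_lt (hQ.trans_le (by exact_mod_cast not_lt.1 h))).symm

theorem degree_toPoly_lt {n : ℕ} (x : Fin n → R) : (toPoly x).degree < n := by
  rw [degree_lt_iff_coeff_zero]
  intro m hm
  rw [coeff_toPoly, dif_neg (not_lt.2 hm)]

theorem toPoly_map {n : ℕ} {S : Type*} [CommRing S] (φ : R →+* S) (x : Fin n → R) :
    (toPoly x).map φ = toPoly fun i => φ (x i) := by
  ext m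
  rw [coeff_map, coeff_toPoly, coeff_toPoly]
  split_ifs <;> simp

@[simp]
theorem toPoly_zero {n : ℕ} : toPoly (0 : Fin n → R) = 0 := by simp [toPoly]

/-- the matrix of multiplication by `P` on `R[X]/(g)`, where `n` is the degree of `g` -/
noncomputable def mulMat (n : ℕ) (g P : R[X]) : Matrix (Fin n) (Fin n) R :=
  Matrix.of fun i j => ((P * X ^ (j : ℕ)) %ₘ g).coeff i

variable {n : ℕ} {g : R[X]}

theorem mulMat_apply (P : R[X]) (i j : Fin n) :
    mulMat n g P i j = ((P * X ^ (j : ℕ)) %ₘ g).coeff i := rfl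

theorem degree_modByMonic_lt' (hg : g.Monic) (hn : g.natDegree = n) (Q : R[X]) :
    (Q %ₘ g).degree < n := by
  nontriviality R
  refine (degree_modByMonic_lt Q hg).trans_le ?_
  rw [← hn]
  exact degree_le_natDegree

theorem toPoly_mulVec (hg : g.Monic) (hn : g.natDegree = n) (P : R[X]) (x : Fin n → R) :
    toPoly (mulMat n g P *ᵥ x) = (P * toPoly x) %ₘ g := by
  have h1 : (P * toPoly x) %ₘ g = ∑ j, C (x j) * ((P * X ^ (j : ℕ)) %ₘ g) := by
    unfold toPoly
    rw [Finset.mul_sum]
    have h2 : ∀ Q, Q %ₘ g = modByMonicHom g Q := fun _ => rfl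
    rw [h2, map_sum]
    refine Finset.sum_congr rfl fun j _ => ?_
    have h3 : P * (C (x j) * X ^ (j : ℕ)) = x j • (P * X ^ (j : ℕ)) := by
      rw [smul_eq_C_mul]; ring
    rw [h3, map_smul, smul_eq_C_mul]
    rfl
  ext m
  rw [coeff_toPoly, h1, finsetSum_coeff]
  simp only [coeff_C_mul]
  split_ifs with h
  · rw [mulVec, dotProduct]
    refine Finset.sum_congr rfl fun j _ => ?_
    rw [mulMat_apply, mul_comm]
  · symm
    apply Finset.sum_eq_zero
    intro j _
    rw [coeff_eq_zero_of_degree_lt, mul_zero]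
    exact (degree_modByMonic_lt' hg hn _).trans_le (by exact_mod_cast not_lt.1 h)

theorem mulMat_mulVec_eq_zero_iff (hg : g.Monic) (hn : g.natDegree = n) (P : R[X]) (x : Fin n → R) :
    mulMat n g P *ᵥ x = 0 ↔ g ∣ P * toPoly x := by
  rw [← modByMonic_eq_zero_iff_dvd hg, ← toPoly_mulVec hg hn]
  constructor
  · intro h; rw [h, toPoly_zero]
  · intro h
    apply toPoly_injective
    rw [h, toPoly_zero]

theorem mulMat_mul (hg : g.Monic) (hn : g.natDegree = n) (P Q : R[X]) :
    mulMat n g P * mulMat n g Q = mulMat n g (P * Q) := by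
  apply Matrix.ext_of_mulVec_single
  intro i
  apply toPoly_injective
  rw [← mulVec_mulVec, toPoly_mulVec hg hn, toPoly_mulVec hg hn, toPoly_mulVec hg hn]
  nontriviality R
  rw [mul_modByMonic P (Q * toPoly (Pi.single i 1) %ₘ g),
    (modByMonic_eq_self_iff hg).2 (degree_modByMonic_lt (Q * toPoly (Pi.single i 1)) hg),
    ← mul_modByMonic, mul_assoc]

theorem mulMat_map {S : Type*} [CommRing S] (φ : R →+* S) (hg : g.Monic) (P : R[X]) :
    (mulMat n g P).map φ = mulMat n (g.map φ) (P.map φ) := by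
  ext i j
  rw [map_apply, mulMat_apply, mulMat_apply, ← coeff_map, map_modByMonic φ hg, Polynomial.map_mul,
    Polynomial.map_pow, map_X]

theorem mulMat_one (hg : g.Monic) (hn : g.natDegree = n) : mulMat n g 1 = 1 := by
  apply Matrix.ext_of_mulVec_single
  intro i
  apply toPoly_injective
  nontriviality R
  rw [toPoly_mulVec hg hn, one_mul, one_mulVec, modByMonic_eq_self_iff hg]
  refine (degree_toPoly_lt _).trans_le ?_
  rw [← hn, degree_eq_natDegree hg.ne_zero]

theorem mulMat_add_mul (hg : g.Monic) (P Q : R[X]) :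
    mulMat n g (P + g * Q) = mulMat n g P := by
  ext i j
  rw [mulMat_apply, mulMat_apply, add_mul, add_modByMonic, mul_assoc,
    (modByMonic_eq_zero_iff_dvd hg).2 (dvd_mul_right _ _), add_zero]

/-- if `P` is invertible modulo `g`, its matrix is invertible -/
theorem isUnit_det_mulMat (hg : g.Monic) (hn : g.natDegree = n) {P : R[X]} (hP : IsCoprime P g) :
    IsUnit (mulMat n g P).det := by
  obtain ⟨a, b, hab⟩ := hP
  rw [← Matrix.isUnit_iff_isUnit_det]
  have h1 : mulMat n g a * mulMat n g P = 1 := by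
    rw [mulMat_mul hg hn, ← mulMat_one hg hn, ← hab, mul_comm b g, mulMat_add_mul hg]
  exact IsUnit.of_mul_eq_one_right _ h1

/-- a root of `g` gives an eigenvector of the transpose -/
theorem vecMul_mulMat (hg : g.Monic) (hn : g.natDegree = n) (P : R[X]) {θ : R}
    (hθ : g.eval θ = 0) :
    (fun i : Fin n => θ ^ (i : ℕ)) ᵥ* mulMat n g P = P.eval θ • fun i : Fin n => θ ^ (i : ℕ) := by
  ext j
  have h1 : ((P * X ^ (j : ℕ)) %ₘ g).eval θ = P.eval θ * θ ^ (j : ℕ) := by
    have h2 := congrArg (eval θ) (modByMonic_add_div (P * X ^ (j : ℕ)) g)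
    rw [eval_add, eval_mul, hθ, zero_mul, add_zero] at h2
    rw [h2, eval_mul, eval_pow, eval_X]
  rw [vecMul, dotProduct, Pi.smul_apply, smul_eq_mul, ← h1,
    ← toPoly_coeff (degree_modByMonic_lt' hg hn (P * X ^ (j : ℕ)))]
  unfold toPoly
  rw [eval_finset_sum]
  refine Finset.sum_congr rfl fun i _ => ?_
  rw [mulMat_apply, eval_mul, eval_C, eval_pow, eval_X, mul_comm]

/-- the matrix of multiplication in a basis of powers -/
theorem leftMulMatrix_eq {S : Type*} [CommRing S] [Algebra R S] (hg : g.Monic)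
    (hn : g.natDegree = n) (b : Module.Basis (Fin n) R S) (θ : S) (hb : ∀ i, b i = θ ^ (i : ℕ))
    (hθ : aeval θ g = 0) (P : R[X]) :
    Algebra.leftMulMatrix b (aeval θ P) = mulMat n g P := by
  ext i j
  rw [Algebra.leftMulMatrix_eq_repr_mul]
  have h1 : aeval θ P * b j = ∑ i : Fin n, ((P * X ^ (j : ℕ)) %ₘ g).coeff i • b i := by
    have h2 := congrArg (aeval θ) (modByMonic_add_div (P * X ^ (j : ℕ)) g)
    rw [map_add, map_mul, hθ, zero_mul, add_zero] at h2
    rw [map_mul, map_pow, aeval_X] at h2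
    rw [hb j, ← h2]
    conv_lhs => rw [← toPoly_coeff (degree_modByMonic_lt' hg hn (P * X ^ (j : ℕ)))]
    unfold toPoly
    rw [map_sum]
    refine Finset.sum_congr rfl fun i _ => ?_
    rw [map_mul, aeval_C, map_pow, aeval_X, hb i, Algebra.smul_def]
  rw [h1, map_sum, Finset.sum_apply']
  simp only [map_smul, Finsupp.smul_apply, smul_eq_mul]
  rw [Finset.sum_eq_single i]
  · rw [b.repr_self, Finsupp.single_eq_same, mul_one, mulMat_apply]
  · intro k _ hk
    rw [b.repr_self, Finsupp.single_eq_of_ne hk.symm, mul_zero]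
  · intro h; exact absurd (Finset.mem_univ _) h

theorem norm_eq_det {S : Type*} [CommRing S] [Algebra R S] (hg : g.Monic)
    (hn : g.natDegree = n) (b : Module.Basis (Fin n) R S) (θ : S) (hb : ∀ i, b i = θ ^ (i : ℕ))
    (hθ : aeval θ g = 0) (P : R[X]) :
    Algebra.norm R (aeval θ P) = (mulMat n g P).det := by
  rw [Algebra.norm_eq_matrix_det b, leftMulMatrix_eq hg hn b θ hb hθ]

end Basic

section Field

variable {E : Type*} [Field E] {n : ℕ} {g : E[X]}

/-- if `det = 0` then the polynomials are not coprime -/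
theorem not_isCoprime_of_det_eq_zero (hg : g.Monic) (hn : g.natDegree = n) {P : E[X]}
    (hP : (mulMat n g P).det = 0) : ¬ IsCoprime P g := by
  intro h
  have := isUnit_det_mulMat hg hn h
  rw [hP] at this
  exact not_isUnit_zero this

/-- if `P` and `g` have a common divisor of degree at least two, all minors of size `n - 1` of the
matrix of `P` vanish -/
theorem adjugate_eq_zero (hg : g.Monic) (hn : g.natDegree = n) {P D : E[X]} (hD : 2 ≤ D.natDegree)
    (hDP : D ∣ P) (hDg : D ∣ g) : adjugate (mulMat n g P) = 0 := by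
  obtain ⟨q, hq⟩ := hDg
  obtain ⟨p, hp⟩ := hDP
  have hg0 : g ≠ 0 := hg.ne_zero
  have hq0 : q ≠ 0 := by rintro rfl; rw [mul_zero] at hq; exact hg0 hq
  have hD0 : D ≠ 0 := by rintro rfl; rw [zero_mul] at hq; exact hg0 hq
  have hdeg : D.natDegree + q.natDegree = n := by rw [← hn, hq, natDegree_mul hD0 hq0]
  ext i j
  rw [adjugate_apply, Matrix.zero_apply]
  -- a combination of `q` and `X q` with vanishing `i`-th coefficient
  obtain ⟨c, hc0, hcd, hci⟩ : ∃ c : E[X], c ≠ 0 ∧ c.natDegree ≤ 1 ∧ (q * c).coeff i = 0 := by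
    by_cases h1 : (q * 1).coeff i = 0
    · exact ⟨1, one_ne_zero, by simp, h1⟩
    · refine ⟨C (-((q * X).coeff i)) + C ((q * 1).coeff i) * X, ?_, ?_, ?_⟩
      · intro h2
        apply h1
        have := congrArg (fun f : E[X] => f.coeff 1) h2
        simpa using this
      · compute_degree
      · rw [mul_add, coeff_add, ← mul_assoc, mul_comm q (C _), mul_comm q (C _), mul_assoc,
          coeff_C_mul, coeff_C_mul, mul_one]
        ring
  let u : Fin n → E := fun i => (q * c).coeff i
  have hqc : q * c ≠ 0 := mul_ne_zero hq0 hc0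
  have hlt : (q * c).degree < n := by
    rw [degree_eq_natDegree hqc, natDegree_mul hq0 hc0]
    exact_mod_cast (show q.natDegree + c.natDegree < n by omega)
  have hu : toPoly u = q * c := toPoly_coeff hlt
  have hu0 : u ≠ 0 := by
    intro h
    rw [h, toPoly_zero] at hu
    exact hqc hu.symm
  have hMu : mulMat n g P *ᵥ u = 0 := by
    rw [mulMat_mulVec_eq_zero_iff hg hn, hu, hp, hq]
    exact ⟨p * c, by ring⟩
  rw [← Matrix.exists_mulVec_eq_zero_iff]
  refine ⟨u, hu0, ?_⟩
  ext r
  rw [mulVec, Pi.zero_apply]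
  by_cases hr : r = j
  · subst hr
    rw [updateRow_self]
    simp only [single_one_dotProduct]
    exact hci
  · rw [updateRow_ne hr]
    exact congrFun hMu r

/-- if some minor of size `n - 1` does not vanish and the determinant vanishes, then the
greatest common divisor is linear; in particular for a divisor `h` of `g` which is not coprime to
`P` there is a common root. -/
theorem exists_root (hg : g.Monic) (hn : g.natDegree = n) {P h : E[X]} (hh : h ∣ g)
    (hP : adjugate (mulMat n g P) ≠ 0) (hco : ¬ IsCoprime P h) :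
    ∃ ρ : E, h.eval ρ = 0 ∧ P.eval ρ = 0 := by
  classical
  have hg0 : g ≠ 0 := hg.ne_zero
  have hh0 : h ≠ 0 := by rintro rfl; exact hg0 (zero_dvd_iff.1 hh)
  let D := EuclideanDomain.gcd P h
  have hD0 : D ≠ 0 := by
    intro h1
    exact hh0 (EuclideanDomain.gcd_eq_zero_iff.1 h1).2
  have hD1 : D ∣ P := EuclideanDomain.gcd_dvd_left P h
  have hD2 : D ∣ h := EuclideanDomain.gcd_dvd_right P h
  have hD3 : ¬ IsUnit D := fun h1 => hco (EuclideanDomain.gcd_isUnit_iff.1 h1)
  have hD4 : D.natDegree < 2 := by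
    by_contra h1
    exact hP (adjugate_eq_zero hg hn (not_lt.1 h1) hD1 (hD2.trans hh))
  have hD5 : D.degree = 1 := by
    have h1 : D.natDegree ≠ 0 := by
      intro h1
      rw [natDegree_eq_zero] at h1
      obtain ⟨c, hc⟩ := h1
      apply hD3
      rw [← hc]
      rw [isUnit_C, isUnit_iff_ne_zero]
      rintro rfl
      rw [map_zero] at hc
      exact hD0 hc.symm
    rw [degree_eq_natDegree hD0]
    have h2 : D.natDegree = 1 := by omega
    rw [h2]
    rfl
  obtain ⟨ρ, hρ⟩ := exists_root_of_degree_eq_one hD5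
  exact ⟨ρ, IsRoot.dvd hρ hD2, IsRoot.dvd hρ hD1⟩

end Field

end K986.MulMat
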