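import Groth.Agent.NumberField.K986.Primitive
import Groth.Agent.NumberField.K986.MulMat
import Mathlib.FieldTheory.Separable
import Mathlib.RingTheory.Ideal.Quotient.Operations

/-!
# Finite families of extensions, presented by one polynomial
-/

set_option autoImplicit false
open NumberField
open scoped TensorProduct

namespace K986.Fam

open Polynomial MulMat Primitive

section

variable (k : Type*) [Field k] [NumberField k] {n : ℕ} {Lf : Fin n → Type*} [∀ i, Field (Lf i)]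
  [∀ i, NumberField (Lf i)] [∀ i, Algebra k (Lf i)]

/-- the product of the minimal polynomials -/
noncomputable def G (θ : (i : Fin n) → 𝓞 (Lf i)) : (𝓞 k)[X] := ∏ i, minpoly (𝓞 k) (θ i)

theorem G_monic (θ : (i : Fin n) → 𝓞 (Lf i)) : (G k θ).Monic :=
  monic_prod_of_monic _ _ fun i _ => minpoly_monic (θ i)

theorem minpoly_dvd_G (θ : (i : Fin n) → 𝓞 (Lf i)) (i : Fin n) : minpoly (𝓞 k) (θ i) ∣ G k θ :=
  Finset.dvd_prod_of_mem (fun i => minpoly (𝓞 k) (θ i)) (Finset.mem_univ i)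

theorem coprime (θ : (i : Fin n) → 𝓞 (Lf i))
    (hdist : ∀ i j, i ≠ j → minpoly (𝓞 k) (θ i) ≠ minpoly (𝓞 k) (θ j)) (i j : Fin n)
    (hij : i ≠ j) : IsCoprime ((minpoly (𝓞 k) (θ i)).map (algebraMap (𝓞 k) k))
      ((minpoly (𝓞 k) (θ j)).map (algebraMap (𝓞 k) k)) := by
  have h1 : Irreducible ((minpoly (𝓞 k) (θ i)).map (algebraMap (𝓞 k) k)) := by
    rw [minpoly_map]
    exact minpoly.irreducible (Algebra.IsIntegral.isIntegral _)
  have h2 : Irreducible ((minpoly (𝓞 k) (θ j)).map (algebraMap (𝓞 k) k)) := by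
    rw [minpoly_map]
    exact minpoly.irreducible (Algebra.IsIntegral.isIntegral _)
  by_cases h : (minpoly (𝓞 k) (θ i)).map (algebraMap (𝓞 k) k) ∣
      (minpoly (𝓞 k) (θ j)).map (algebraMap (𝓞 k) k)
  swap
  · exact h1.coprime_iff_not_dvd.2 h
  · exfalso
    have h3 : (minpoly (𝓞 k) (θ i)).map (algebraMap (𝓞 k) k) =
        (minpoly (𝓞 k) (θ j)).map (algebraMap (𝓞 k) k) :=
      eq_of_monic_of_associated ((minpoly_monic (θ i)).map _) ((minpoly_monic (θ j)).map _)
        (h1.associated_of_dvd h2 h)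
    exact hdist i j hij (Polynomial.map_injective _ RingOfIntegers.coe_injective h3)

theorem G_separable (θ : (i : Fin n) → 𝓞 (Lf i))
    (hdist : ∀ i j, i ≠ j → minpoly (𝓞 k) (θ i) ≠ minpoly (𝓞 k) (θ j)) :
    ((G k θ).map (algebraMap (𝓞 k) k)).Separable := by
  rw [G, Polynomial.map_prod]
  exact separable_prod' (fun i _ j _ hij => coprime k θ hdist i j hij)
    fun i _ => minpoly_separable (θ i)

theorem exists_global (θ : (i : Fin n) → 𝓞 (Lf i))
    (hθ : ∀ i, Algebra.adjoin k {((θ i : 𝓞 (Lf i)) : Lf i)} = ⊤)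
    (hdist : ∀ i j, i ≠ j → minpoly (𝓞 k) (θ i) ≠ minpoly (𝓞 k) (θ j)) {N : ℕ}
    (hN : (G k θ).natDegree = N) (l : (i : Fin n) → Lf i) :
    ∃ x : Fin N → k, ∀ i, ∑ j : Fin N, x j • ((θ i : 𝓞 (Lf i)) : Lf i) ^ (j : ℕ) = l i := by
  have h1 : ∀ i, ∃ p : k[X], aeval ((θ i : 𝓞 (Lf i)) : Lf i) p = l i := by
    intro i
    have h2 : l i ∈ Algebra.adjoin k {((θ i : 𝓞 (Lf i)) : Lf i)} := hθ i ▸ Algebra.mem_top
    rw [Algebra.adjoin_singleton_eq_range_aeval] at h2
    exact h2
  choose p hp using h1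
  obtain ⟨Q, hQ⟩ := Ideal.exists_forall_sub_mem_ideal
    (I := fun i => Ideal.span {(minpoly (𝓞 k) (θ i)).map (algebraMap (𝓞 k) k)})
    (fun i j hij => (Ideal.isCoprime_span_singleton_iff _ _).2 (coprime k θ hdist i j hij)) p
  let g := (G k θ).map (algebraMap (𝓞 k) k)
  have hg : g.Monic := (G_monic k θ).map _
  have hgn : g.natDegree = N := by rw [(G_monic k θ).natDegree_map, hN]
  let R := Q %ₘ g
  have hR : R.degree < N := degree_modByMonic_lt' hg hgn Q
  have hgθ : ∀ i, aeval ((θ i : 𝓞 (Lf i)) : Lf i) g = 0 := by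
    intro i
    have h2 : (minpoly (𝓞 k) (θ i)).map (algebraMap (𝓞 k) k) ∣ g :=
      Polynomial.map_dvd _ (minpoly_dvd_G k θ i)
    obtain ⟨q, hq⟩ := h2
    rw [hq, map_mul, minpoly_map, minpoly.aeval, zero_mul]
  refine ⟨fun j => R.coeff j, fun i => ?_⟩
  have h2 : aeval ((θ i : 𝓞 (Lf i)) : Lf i) (toPoly fun j : Fin N => R.coeff j) = l i := by
    rw [toPoly_coeff hR]
    have h3 : R = Q - g * (Q /ₘ g) := by
      have := modByMonic_add_div Q g
      linear_combination this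
    rw [h3, map_sub, map_mul, hgθ, zero_mul, sub_zero]
    have h4 := hQ i
    rw [Ideal.mem_span_singleton] at h4
    obtain ⟨q, hq⟩ := h4
    have h5 : Q = p i + (minpoly (𝓞 k) (θ i)).map (algebraMap (𝓞 k) k) * q := by
      linear_combination hq
    rw [h5, map_add, map_mul, minpoly_map, minpoly.aeval, zero_mul, add_zero, hp]
  rw [← h2]
  unfold toPoly
  rw [map_sum]
  refine Finset.sum_congr rfl fun j _ => ?_
  rw [map_mul, aeval_C, map_pow, aeval_X, Algebra.smul_def]

end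

section

variable (k : Type*) [Field k] {n : ℕ} {Lf : Fin n → Type*} [∀ i, Field (Lf i)]
  [∀ i, Algebra k (Lf i)] {E : Type*} [CommRing E] [Algebra k E]

/-- the elements of the extensions with given coordinates -/
noncomputable def XX (θ : (i : Fin n) → 𝓞 (Lf i)) {N : ℕ} (y : Fin N → E) (i : Fin n) :
    E ⊗[k] Lf i :=
  ∑ j : Fin N, y j ⊗ₜ[k] (((θ i : 𝓞 (Lf i)) : Lf i) ^ (j : ℕ))

theorem XX_add (θ : (i : Fin n) → 𝓞 (Lf i)) {N : ℕ} (y z : Fin N → E) (i : Fin n) :
    XX k θ (y + z) i = XX k θ y i + XX k θ z i := by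
  simp only [XX, Pi.add_apply, TensorProduct.add_tmul, Finset.sum_add_distrib]

theorem XX_zero (θ : (i : Fin n) → 𝓞 (Lf i)) {N : ℕ} (i : Fin n) :
    XX k θ (0 : Fin N → E) i = 0 := by
  simp only [XX, Pi.zero_apply, TensorProduct.zero_tmul, Finset.sum_const_zero]

theorem XX_sum (θ : (i : Fin n) → 𝓞 (Lf i)) {N : ℕ} {ι : Type*} (s : Finset ι)
    (y : ι → Fin N → E) (i : Fin n) :
    XX k θ (∑ a ∈ s, y a) i = ∑ a ∈ s, XX k θ (y a) i := by
  classical
  induction s using Finset.induction_on with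
  | empty => rw [Finset.sum_empty, Finset.sum_empty, XX_zero]
  | insert a s ha ih => rw [Finset.sum_insert ha, Finset.sum_insert ha, XX_add, ih]

theorem XX_algebraMap (θ : (i : Fin n) → 𝓞 (Lf i)) {N : ℕ} (x : Fin N → k) (e : E) (i : Fin n) :
    XX k θ (fun j => e * algebraMap k E (x j)) i =
      e ⊗ₜ[k] ∑ j : Fin N, x j • ((θ i : 𝓞 (Lf i)) : Lf i) ^ (j : ℕ) := by
  simp only [XX]
  rw [TensorProduct.tmul_sum]
  refine Finset.sum_congr rfl fun j _ => ?_
  rw [mul_comm, ← Algebra.smul_def, TensorProduct.smul_tmul]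

end

section

variable (k : Type*) [Field k] [NumberField k] {n : ℕ} {Lf : Fin n → Type*} [∀ i, Field (Lf i)]
  [∀ i, NumberField (Lf i)] [∀ i, Algebra k (Lf i)] {E : Type*}

theorem exists_tensor [CommRing E] [Algebra k E] (θ : (i : Fin n) → 𝓞 (Lf i))
    (hθ : ∀ i, Algebra.adjoin k {((θ i : 𝓞 (Lf i)) : Lf i)} = ⊤)
    (hdist : ∀ i j, i ≠ j → minpoly (𝓞 k) (θ i) ≠ minpoly (𝓞 k) (θ j)) {N : ℕ}
    (hN : (G k θ).natDegree = N) (z : (i : Fin n) → E ⊗[k] Lf i) :
    ∃ y : Fin N → E, ∀ i, XX k θ y i = z i := by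
  classical
  have h1 : ∀ (i : Fin n) (z : E ⊗[k] Lf i), ∃ y : Fin N → E, ∀ i', XX k θ y i' =
      (Pi.single i z : (i : Fin n) → E ⊗[k] Lf i) i' := by
    intro i z
    induction z using TensorProduct.induction_on with
    | zero => exact ⟨0, fun i' => by rw [XX_zero, Pi.single_zero]; rfl⟩
    | add z w hz hw =>
      obtain ⟨y, hy⟩ := hz
      obtain ⟨y', hy'⟩ := hw
      exact ⟨y + y', fun i' => by rw [XX_add, hy, hy', Pi.single_add]; rfl⟩
    | tmul e l =>
      obtain ⟨x, hx⟩ := exists_global k θ hθ hdist hN (Pi.single i l)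
      refine ⟨fun j => e * algebraMap k E (x j), fun i' => ?_⟩
      rw [XX_algebraMap, hx]
      by_cases h : i' = i
      · subst h
        rw [Pi.single_eq_same, Pi.single_eq_same]
      · rw [Pi.single_eq_of_ne h, Pi.single_eq_of_ne h, TensorProduct.tmul_zero]
  choose y hy using fun i => h1 i (z i)
  refine ⟨∑ i, y i, fun i => ?_⟩
  rw [XX_sum, Finset.sum_congr rfl fun a _ => hy a i, Finset.sum_eq_single i]
  · rw [Pi.single_eq_same]
  · intro j _ hj
    rw [Pi.single_eq_of_ne (Ne.symm hj)]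
  · intro h
    exact absurd (Finset.mem_univ i) h

theorem isCoprime_of_isUnit [Field E] [Algebra k E] {L : Type*} [Field L] [NumberField L]
    [Algebra k L] (θ : 𝓞 L) (hθ : Algebra.adjoin k {(θ : L)} = ⊤) (P : E[X])
    (h : IsUnit (aeval ((1 : E) ⊗ₜ[k] (θ : L)) P)) :
    IsCoprime P (((minpoly (𝓞 k) θ).map (algebraMap (𝓞 k) k)).map (algebraMap k E)) := by
  classical
  set g := ((minpoly (𝓞 k) θ).map (algebraMap (𝓞 k) k)).map (algebraMap k E) with hg
  have hgm : g.Monic := ((minpoly_monic θ).map _).map _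
  set n := (minpoly (𝓞 k) θ).natDegree with hn
  have hgn : g.natDegree = n := by
    rw [hg, ((minpoly_monic θ).map _).natDegree_map, (minpoly_monic θ).natDegree_map]
  obtain ⟨b, hb⟩ := exists_basis θ hθ hn.symm
  let bE := Algebra.TensorProduct.basis E b
  set θE : E ⊗[k] L := (1 : E) ⊗ₜ[k] (θ : L) with hθE
  have hbE : ∀ i, bE i = θE ^ (i : ℕ) := by
    intro i
    rw [Algebra.TensorProduct.basis_apply, hb i, Algebra.TensorProduct.tmul_pow, one_pow]
  have hgθ : aeval θE g = 0 := by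
    rw [hg, aeval_map_algebraMap, minpoly_map]
    have h1 : θE = Algebra.TensorProduct.includeRight (R := k) (A := E) (B := L) (θ : L) := rfl
    rw [h1, aeval_algHom_apply, minpoly.aeval, map_zero]
  by_contra hcop
  have hdet : (mulMat n g P).det = 0 := by
    let D := EuclideanDomain.gcd P g
    have hD1 : D ∣ P := EuclideanDomain.gcd_dvd_left P g
    have hD2 : D ∣ g := EuclideanDomain.gcd_dvd_right P g
    have hD3 : ¬ IsUnit D := fun h1 => hcop (EuclideanDomain.gcd_isUnit_iff.1 h1)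
    obtain ⟨q, hq⟩ := hD2
    obtain ⟨r, hr⟩ := hD1
    have hg0 : g ≠ 0 := hgm.ne_zero
    have hq0 : q ≠ 0 := by rintro rfl; rw [mul_zero] at hq; exact hg0 hq
    have hD0 : D ≠ 0 := by intro h0; rw [h0, zero_mul] at hq; exact hg0 hq
    have hDd : 0 < D.natDegree := by
      rw [Nat.pos_iff_ne_zero]
      intro h0
      rw [natDegree_eq_zero] at h0
      obtain ⟨c, hc⟩ := h0
      apply hD3
      rw [← hc, isUnit_C, isUnit_iff_ne_zero]
      rintro rfl
      rw [map_zero] at hc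
      exact hD0 hc.symm
    have hdeg : D.natDegree + q.natDegree = n := by rw [← hgn, hq, natDegree_mul hD0 hq0]
    have hlt : q.degree < n := by
      rw [degree_eq_natDegree hq0]
      exact_mod_cast (show q.natDegree < n by omega)
    rw [← Matrix.exists_mulVec_eq_zero_iff]
    refine ⟨fun i : Fin n => q.coeff i, ?_, ?_⟩
    · intro h0
      have h2 := toPoly_coeff hlt
      rw [h0, toPoly_zero] at h2
      exact hq0 h2.symm
    · rw [mulMat_mulVec_eq_zero_iff hgm hgn, toPoly_coeff hlt, hr, hq]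
      exact ⟨r, by ring⟩
  have h1 := h.map (Algebra.norm E)
  rw [norm_eq_det hgm hgn bE θE hbE hgθ, hdet] at h1
  exact not_isUnit_zero h1

theorem XX_eq_aeval [Field E] [Algebra k E] (θ : (i : Fin n) → 𝓞 (Lf i)) {N : ℕ} (y : Fin N → E)
    (i : Fin n) :
    XX k θ y i = aeval ((1 : E) ⊗ₜ[k] ((θ i : 𝓞 (Lf i)) : Lf i)) (toPoly y) := by
  unfold toPoly XX
  rw [map_sum]
  refine Finset.sum_congr rfl fun j _ => ?_
  rw [map_mul, aeval_C, map_pow, aeval_X, Algebra.TensorProduct.tmul_pow, one_pow,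
    Algebra.TensorProduct.algebraMap_apply, Algebra.algebraMap_self_apply,
    Algebra.TensorProduct.tmul_mul_tmul, mul_one, one_mul]

theorem det_ne_zero [Field E] [Algebra k E] (θ : (i : Fin n) → 𝓞 (Lf i))
    (hθ : ∀ i, Algebra.adjoin k {((θ i : 𝓞 (Lf i)) : Lf i)} = ⊤) {N : ℕ}
    (hN : (G k θ).natDegree = N) (y : Fin N → E) (hy : ∀ i, IsUnit (XX k θ y i)) :
    (mulMat N (((G k θ).map (algebraMap (𝓞 k) k)).map (algebraMap k E)) (toPoly y)).det ≠ 0 := by
  intro hdet
  refine not_isCoprime_of_det_eq_zero (((G_monic k θ).map _).map _) ?_ hdet ?_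
  · rw [((G_monic k θ).map _).natDegree_map, (G_monic k θ).natDegree_map, hN]
  · rw [G, Polynomial.map_prod, Polynomial.map_prod]
    refine IsCoprime.prod_right fun i _ => ?_
    apply isCoprime_of_isUnit k (θ i) (hθ i)
    rw [← XX_eq_aeval]
    exact hy i

end

end K986.Fam
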