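import Groth.Agent.NumberField.K986.DegOne
import Mathlib.Analysis.Polynomial.Basic

/-!
# Infinitely many places of degree one
-/

set_option autoImplicit false
universe u
open NumberField IsDedekindDomain

namespace K986.InfDegOne

open Polynomial Matrix MulMat StrongApprox Primitive Filter

/-- a polynomial takes a value which is not a unit and prime to a given element, up to a constant -/
theorem exists_nonunit_value {k : Type*} [Field k] [NumberField k] (g : (𝓞 k)[X])
    (hg : 0 < g.natDegree) (s : 𝓞 k) (hs : s ≠ 0) :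
    ∃ (a h q : 𝓞 k), h ∣ g.eval a ∧ h = 1 + s * q ∧ ¬ IsUnit h ∧ h ≠ 0 := by
  have hg0 : g ≠ 0 := by rintro rfl; simp at hg
  -- a value `a₀` with `g(a₀) ≠ 0`
  obtain ⟨a₀, ha₀⟩ : ∃ a₀ : 𝓞 k, g.eval a₀ ≠ 0 := by
    by_contra hcon
    push Not at hcon
    apply hg0
    exact Polynomial.funext fun r => by rw [hcon r, eval_zero]
  let N₀ := g.eval a₀
  let z : ℕ → 𝓞 k := fun m => a₀ + N₀ * s * m
  have hq : ∀ m, ∃ q, g.eval (z m) = N₀ * (1 + s * q) := by
    intro m
    obtain ⟨r, hr⟩ := Polynomial.sub_dvd_eval_sub (z m) a₀ g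
    refine ⟨m * r, ?_⟩
    have h1 : z m - a₀ = N₀ * s * m := by simp only [z]; ring
    rw [h1] at hr
    have h2 : g.eval (z m) = N₀ + (g.eval (z m) - g.eval a₀) := by simp only [N₀]; ring
    rw [h2, hr]
    ring
  choose q hq using hq
  let gk := g.map (algebraMap (𝓞 k) k)
  have hgk : 0 < gk.degree := by
    rw [degree_map_eq_of_injective RingOfIntegers.coe_injective]
    exact natDegree_pos_iff_degree_pos.1 hg
  have hN₀k : (N₀ : k) ≠ 0 := RingOfIntegers.coe_ne_zero_iff.2 ha₀
  have hsk : (s : k) ≠ 0 := RingOfIntegers.coe_ne_zero_iff.2 hs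
  have hbig : ∀ w : InfinitePlace k, ∀ᶠ m : ℕ in atTop, w (N₀ : k) < w (gk.eval (z m : k)) := by
    intro w
    have hz : Tendsto (w.1 ∘ fun m : ℕ => (z m : k)) atTop atTop := by
      have h1 : ∀ m : ℕ, w ((N₀ : k) * s) * m - w (a₀ : k) ≤ w (z m : k) := by
        intro m
        have h2 : (z m : k) = (a₀ : k) + (N₀ : k) * s * m := by
          simp only [z]
          push_cast
          simp
        have h3 : w ((N₀ : k) * s * m) ≤ w (z m : k) + w (a₀ : k) := by
          have e : (N₀ : k) * s * m = (z m : k) - a₀ := by rw [h2]; ring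
          rw [e]
          exact (w.1.sub_le_add _ _)
        have h4 : w ((N₀ : k) * s * m) = w ((N₀ : k) * s) * m := by
          rw [map_mul]
          congr 1
          rw [← InfinitePlace.norm_embedding_eq, map_natCast, Complex.norm_natCast]
        linarith
      refine tendsto_atTop_mono h1 ?_
      refine tendsto_atTop_add_const_right _ _ ?_
      refine Tendsto.const_mul_atTop ?_ tendsto_natCast_atTop_atTop
      rw [InfinitePlace.pos_iff]
      exact mul_ne_zero hN₀k hsk
    have h5 := Polynomial.tendsto_abv_atTop w.1 gk hgk hz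
    exact h5.eventually_gt_atTop (w (N₀ : k))
  have hall : ∀ᶠ m : ℕ in atTop, ∀ w : InfinitePlace k, w (N₀ : k) < w (gk.eval (z m : k)) :=
    eventually_all.2 hbig
  obtain ⟨m, hm⟩ := hall.exists
  refine ⟨z m, 1 + s * q m, q m, ⟨N₀, by rw [hq m, mul_comm]⟩, rfl, ?_, ?_⟩
  · intro hu
    have h1 : ∀ w : InfinitePlace k, 1 < w ((1 + s * q m : 𝓞 k) : k) := by
      intro w
      have h2 := hm w
      have h3 : gk.eval (z m : k) = (N₀ : k) * ((1 + s * q m : 𝓞 k) : k) := by
        have h4 : gk.eval (z m : k) = ((g.eval (z m) : 𝓞 k) : k) := by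
          simp only [gk]
          exact eval_map_apply (algebraMap (𝓞 k) k) (z m)
        rw [h4, hq m]
        exact map_mul (algebraMap (𝓞 k) k) _ _
      rw [h3, map_mul] at h2
      have h5 : 0 < w (N₀ : k) := by rw [InfinitePlace.pos_iff]; exact hN₀k
      exact (lt_mul_iff_one_lt_right h5).1 h2
    have h6 : (1 : ℝ) < ∏ w : InfinitePlace k, w ((1 + s * q m : 𝓞 k) : k) ^ w.mult := by
      have h7 := Finset.prod_lt_prod_of_nonempty (s := Finset.univ) (f := fun _ => (1 : ℝ))
        (g := fun w : InfinitePlace k => w ((1 + s * q m : 𝓞 k) : k) ^ w.mult)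
        (fun _ _ => one_pos) (fun w _ => one_lt_pow₀ (h1 w) (InfinitePlace.mult_ne_zero))
        Finset.univ_nonempty
      simpa using h7
    rw [InfinitePlace.prod_eq_abs_norm] at h6
    have h7 : |Algebra.norm ℚ ((1 + s * q m : 𝓞 k) : k)| = 1 := by
      rw [← Algebra.coe_norm_int, ← Int.cast_abs]
      have h8 := Int.isUnit_iff_abs_eq.1 (hu.map (Algebra.norm ℤ))
      rw [h8, Int.cast_one]
    rw [h7] at h6
    norm_num at h6
  · intro h0
    obtain ⟨w⟩ : Nonempty (InfinitePlace k) := inferInstance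
    have h2 := hm w
    have h4 : gk.eval (z m : k) = ((g.eval (z m) : 𝓞 k) : k) := by
      simp only [gk]
      exact eval_map_apply (algebraMap (𝓞 k) k) (z m)
    rw [h4, hq m, h0, mul_zero] at h2
    have h3 : w (((0 : 𝓞 k) : 𝓞 k) : k) = 0 := by simp
    rw [h3] at h2
    exact absurd h2 (not_lt.2 (apply_nonneg _ _))

/-- there are infinitely many places of degree one in an extension of number fields -/
theorem exists_place (k L : Type*) [Field k] [NumberField k] [Field L] [NumberField L]
    [Algebra k L] (S : Finset (HeightOneSpectrum (𝓞 k))) :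
    ∃ v : HeightOneSpectrum (𝓞 k), v ∉ S ∧ Nonempty (L →ₐ[k] v.adicCompletion k) := by
  classical
  obtain ⟨θ, hθ⟩ := exists_integral_primitive k L
  let g := minpoly (𝓞 k) θ
  have hg : g.Monic := minpoly_monic θ
  have hg0 : 0 < g.natDegree := minpoly.natDegree_pos (Algebra.IsIntegral.isIntegral θ)
  obtain ⟨A, B, c, hc0, hAB⟩ := exists_bezout g (minpoly_separable θ)
  -- an element divisible by all primes of `S` and by `c`
  obtain ⟨s, hs, hs0⟩ : ∃ s ∈ Ideal.span {c} * ∏ v ∈ S, v.asIdeal, s ≠ 0 := by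
    apply Submodule.exists_mem_ne_zero_of_ne_bot
    rw [← Ideal.zero_eq_bot]
    refine mul_ne_zero ?_ ?_
    · rw [Ideal.zero_eq_bot, Ne, Ideal.span_singleton_eq_bot]
      exact hc0
    · rw [Finset.prod_ne_zero_iff]
      intro v _
      exact v.ne_bot
  obtain ⟨a, h, q, h1, h2, h3, h4⟩ := exists_nonunit_value g hg0 s hs0
  obtain ⟨M, hM, hhM⟩ := exists_max_ideal_of_mem_nonunits (mem_nonunits_iff.2 h3)
  have hM0 : M ≠ ⊥ := by
    rintro rfl
    exact h4 (by simpa using hhM)
  let v : HeightOneSpectrum (𝓞 k) := ⟨M, hM.isPrime, hM0⟩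
  have hsM : s ∉ M := by
    intro h5
    apply hM.ne_top
    rw [Ideal.eq_top_iff_one]
    have h6 : (1 : 𝓞 k) = h - s * q := by rw [h2]; ring
    rw [h6]
    exact sub_mem hhM (Ideal.mul_mem_right _ _ h5)
  have hcM : c ∉ M := by
    intro h5
    apply hsM
    have h6 : Ideal.span {c} * ∏ v ∈ S, v.asIdeal ≤ M :=
      (Ideal.mul_le_left).trans ((Ideal.span_singleton_le_iff_mem M).2 h5)
    exact h6 hs
  have hvS : v ∉ S := by
    intro hv
    apply hsM
    have h6 : v.asIdeal ∣ ∏ v ∈ S, v.asIdeal :=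
      Finset.dvd_prod_of_mem (fun v : HeightOneSpectrum (𝓞 k) => v.asIdeal) hv
    have h7 : s ∈ ∏ v ∈ S, v.asIdeal := Ideal.mul_le_right hs
    exact (Ideal.dvd_iff_le.1 h6) h7
  have hne : Nonempty (L →ₐ[k] v.adicCompletion k) := by
    have hens := Groth.Agent.Etbc.H222.AdicLF.henselian (K := k) v
    let O := v.adicCompletionIntegers k
    let φ : 𝓞 k →+* O := algebraMap (𝓞 k) O
    have hφv : ∀ b : 𝓞 k, Valued.v ((φ b : v.adicCompletion k)) = v.valuation k (b : k) := fun b =>
      valued_algebraMap v (b : k)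
    have hφm : ∀ b : 𝓞 k, b ∈ M → φ b ∈ IsLocalRing.maximalIdeal O := by
      intro b hb
      rw [Groth.Agent.Etbc.H222.AdicLF.mem_max_iff, hφv, HeightOneSpectrum.valuation_lt_one_iff_mem]
      exact hb
    have hφu : ∀ b : 𝓞 k, b ∉ M → IsUnit (φ b) := by
      intro b hb
      have h5 : Valued.v ((φ b : v.adicCompletion k)) = 1 := by
        rw [hφv, HeightOneSpectrum.valuation_eq_one_iff_notMem]
        exact hb
      exact HeightOneSpectrum.adicCompletionIntegers.isUnit_iff_valued_eq_one.2 h5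
    have hga : g.eval a ∈ M := by
      obtain ⟨r, hr⟩ := h1
      rw [hr]
      exact Ideal.mul_mem_right _ _ hhM
    have hga' : (derivative g).eval a ∉ M := by
      intro h5
      apply hcM
      have h6 := congrArg (eval a) hAB
      rw [eval_add, eval_mul, eval_mul, eval_C] at h6
      rw [← h6]
      exact add_mem (Ideal.mul_mem_left _ _ hga) (Ideal.mul_mem_left _ _ h5)
    obtain ⟨ρ, hρ, -⟩ := HenselianLocalRing.is_henselian (g.map φ) (hg.map _) (φ a)
      (by rw [eval_map_apply]; exact hφm _ hga)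
      (by rw [derivative_map, eval_map_apply]; exact hφu _ hga')
    apply nonempty_algHom θ hθ ((v.adicCompletionIntegers k).subtype ρ)
    have h5 : (g.map φ).map (v.adicCompletionIntegers k).subtype =
        (g.map (algebraMap (𝓞 k) k)).map (algebraMap k (v.adicCompletion k)) := by
      rw [Polynomial.map_map, Polynomial.map_map]
      congr 1
    change ((g.map (algebraMap (𝓞 k) k)).map (algebraMap k (v.adicCompletion k))).eval
      ((v.adicCompletionIntegers k).subtype ρ) = 0
    rw [← h5, eval_map_apply, hρ.eq_zero, map_zero]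
  exact ⟨v, hvS, hne⟩

end K986.InfDegOne
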