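import Groth.Agent.NumberField.K986.ResNorm
import Mathlib.NumberTheory.NumberField.Basic
import Mathlib.RingTheory.Ideal.Norm.AbsNorm
import Mathlib.RingTheory.DedekindDomain.Ideal.Lemmas
import Mathlib.NumberTheory.NumberField.Norm
import Groth.Agent.NumberField.K986.StrongApprox
import Mathlib.NumberTheory.RamificationInertia.Unramified

/-!
# Units are close to norms at a place with an unramified place above it
-/

set_option autoImplicit false
open NumberField IsDedekindDomain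

namespace K986.LocNorm

open ResNorm

variable {K L : Type*} [Field K] [NumberField K] [Field L] [NumberField L] [Algebra K L]

theorem exists_complement (p : Ideal (𝓞 K)) [p.IsPrime] (hp0 : p ≠ ⊥) (Q : Ideal (𝓞 L))
    [hQ : Q.IsPrime] [hQp : Q.LiesOver p] (he : Q.ramificationIdx (𝓞 K) = 1) :
    ∃ J : Ideal (𝓞 L), p.map (algebraMap (𝓞 K) (𝓞 L)) = Q ⊓ J ∧ Q ⊔ J = ⊤ := by
  have hmap0 : p.map (algebraMap (𝓞 K) (𝓞 L)) ≠ ⊥ := Ideal.map_ne_bot_of_ne_bot hp0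
  have hle : p.map (algebraMap (𝓞 K) (𝓞 L)) ≤ Q := Ideal.map_le_iff_le_comap.2 hQp.over.le
  have hQ0 : Q ≠ ⊥ := by
    rintro rfl
    exact hmap0 (le_bot_iff.1 hle)
  have hmax : Q.IsMaximal := hQ.isMaximal hQ0
  obtain ⟨J, hJ⟩ := Ideal.dvd_iff_le.2 hle
  have hsup : Q ⊔ J = ⊤ := by
    by_contra h
    have hJQ : J ≤ Q := by
      have h1 : Q ⊔ J = Q := (hmax.eq_of_le h le_sup_left).symm
      rw [← h1]
      exact le_sup_right
    obtain ⟨J', hJ'⟩ := Ideal.dvd_iff_le.2 hJQ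
    have h2 : Q ^ 2 ∣ p.map (algebraMap (𝓞 K) (𝓞 L)) := ⟨J', by rw [hJ, hJ']; ring⟩
    have h3 := Ideal.IsDedekindDomain.ramificationIdx_eq_multiplicity p Q hmap0
    rw [he] at h3
    have hfin : FiniteMultiplicity Q (p.map (algebraMap (𝓞 K) (𝓞 L))) :=
      FiniteMultiplicity.of_prime_left (Ideal.prime_of_isPrime hQ0 hQ) hmap0
    have h4 := hfin.le_multiplicity_of_pow_dvd h2
    omega
  refine ⟨J, ?_, hsup⟩
  rw [hJ, Ideal.mul_eq_inf_of_coprime hsup]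

theorem residue_surj (p : Ideal (𝓞 K)) [hp : p.IsPrime] (hp0 : p ≠ ⊥) (Q : Ideal (𝓞 L))
    [hQ : Q.IsPrime] [hQp : Q.LiesOver p] (he : Q.ramificationIdx (𝓞 K) = 1) :
    (∀ u : 𝓞 K, ∃ y : 𝓞 L, Algebra.intNorm (𝓞 K) (𝓞 L) y - u ∈ p) ∧
      ∀ t : 𝓞 K, ∃ c : 𝓞 L, Algebra.intTrace (𝓞 K) (𝓞 L) c - t ∈ p := by
  obtain ⟨J, hJ, hsup⟩ := exists_complement p hp0 Q he
  have hpmax : p.IsMaximal := hp.isMaximal hp0
  set I := p.map (algebraMap (𝓞 K) (𝓞 L)) with hI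
  have hIQ : I ≤ Q := hJ ▸ inf_le_left
  have hIJ : I ≤ J := hJ ▸ inf_le_right
  have hQ0 : Q ≠ ⊥ := by
    rintro rfl
    exact Ideal.map_ne_bot_of_ne_bot hp0 (le_bot_iff.1 hIQ)
  have hmax : Q.IsMaximal := hQ.isMaximal hQ0
  let _ : Field (𝓞 K ⧸ p) := Ideal.Quotient.field p
  have hfin : Finite (𝓞 K ⧸ p) := Ring.HasFiniteQuotients.finiteQuotient hp0
  have hsurj : Function.Surjective (Ideal.Quotient.mk I) := Ideal.Quotient.mk_surjective
  have h1 : (Q.map (Ideal.Quotient.mk I)).IsMaximal := by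
    refine (Ideal.map_eq_top_or_isMaximal_of_surjective _ hsurj hmax).resolve_left fun h => ?_
    apply hmax.ne_top
    rw [Ideal.eq_top_iff_one, ← Ideal.mem_quotient_iff_mem hIQ, h]
    exact Submodule.mem_top
  have h2 : Q.map (Ideal.Quotient.mk I) ⊓ J.map (Ideal.Quotient.mk I) = ⊥ := by
    rw [eq_bot_iff]
    intro x hx
    obtain ⟨x, rfl⟩ := hsurj x
    rw [Ideal.mem_inf, Ideal.mem_quotient_iff_mem hIQ, Ideal.mem_quotient_iff_mem hIJ,
      ← Ideal.mem_inf, ← hJ] at hx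
    rw [Ideal.mem_bot, Ideal.Quotient.eq_zero_iff_mem]
    exact hx
  have h3 : Q.map (Ideal.Quotient.mk I) ⊔ J.map (Ideal.Quotient.mk I) = ⊤ := by
    rw [← Ideal.map_sup, hsup, Ideal.map_top]
  refine ⟨fun u => ?_, fun t => ?_⟩
  · obtain ⟨y, hy⟩ := norm_surj (F := 𝓞 K ⧸ p) _ _ h1 h2 h3 (Ideal.Quotient.mk p u)
    obtain ⟨y, rfl⟩ := hsurj y
    refine ⟨y, ?_⟩
    rw [← Ideal.Quotient.eq, ← norm_quotient_eq_of_isDedekindDomain]
    exact hy
  · obtain ⟨y, hy⟩ := trace_surj (F := 𝓞 K ⧸ p) _ _ h1 h2 h3 (Ideal.Quotient.mk p t)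
    obtain ⟨y, rfl⟩ := hsurj y
    refine ⟨y, ?_⟩
    rw [← Ideal.Quotient.eq, ← Algebra.trace_quotient_eq_of_isDedekindDomain]
    exact hy

/-- units are norms modulo powers of the prime -/
theorem exists_norm_sub_mem (p : Ideal (𝓞 K)) [hp : p.IsPrime] (hp0 : p ≠ ⊥) (Q : Ideal (𝓞 L))
    [hQ : Q.IsPrime] [hQp : Q.LiesOver p] (he : Q.ramificationIdx (𝓞 K) = 1)
    (u : 𝓞 K) (hu : u ∉ p) (m : ℕ) :
    ∃ y : 𝓞 L, Algebra.intNorm (𝓞 K) (𝓞 L) y - u ∈ p ^ (m + 1) := by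
  obtain ⟨hN, hT⟩ := residue_surj p hp0 Q he
  have hpmax : p.IsMaximal := hp.isMaximal hp0
  induction m with
  | zero => simpa using hN u
  | succ m ih =>
    obtain ⟨y, hy⟩ := ih
    have hNy : Algebra.intNorm (𝓞 K) (𝓞 L) y ∉ p := by
      intro h
      apply hu
      have h1 := p.sub_mem h (Ideal.pow_le_self (Nat.succ_ne_zero m) hy)
      rwa [sub_sub_cancel] at h1
    let W : HeightOneSpectrum (𝓞 K) := ⟨p, hp, hp0⟩
    obtain ⟨π, hπv⟩ := W.intValuation_exists_uniformizer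
    have hπj : ∀ j : ℕ, W.intValuation (π ^ j) = WithZero.exp (-(j : ℤ)) := by
      intro j
      rw [map_pow, hπv, ← WithZero.exp_nsmul]
      simp
    have hπ : π ∈ p := by
      have h1 := (W.intValuation_le_pow_iff_mem π 1).1 (by
        have := hπj 1
        rw [pow_one] at this
        rw [this])
      rwa [pow_one] at h1
    have hπm : π ^ (m + 1) ∈ p ^ (m + 1) := Ideal.pow_mem_pow hπ _
    have hπm2 : π ^ (m + 1) ∉ p ^ (m + 1 + 1) := by
      intro h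
      have h1 := (W.intValuation_le_pow_iff_mem (π ^ (m + 1)) (m + 1 + 1)).2 h
      rw [hπj, WithZero.exp_le_exp] at h1
      push_cast at h1
      omega
    set a := Algebra.intNorm (𝓞 K) (𝓞 L) y * π ^ (m + 1) with ha
    have ha1 : a ∈ p ^ (m + 1) := Ideal.mul_mem_left _ _ hπm
    have ha2 : a ∉ p ^ (m + 1 + 1) := by
      intro h
      rcases Ideal.IsPrime.mul_mem_pow p h with h1 | h1
      · exact hNy h1
      · exact hπm2 h1
    have hc : u - Algebra.intNorm (𝓞 K) (𝓞 L) y ∈ p ^ (m + 1) := by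
      rw [← neg_sub]
      exact neg_mem hy
    obtain ⟨d, e, he', hde⟩ := Ideal.exists_mul_add_mem_pow_succ hp0 a _ ha1 ha2 hc
    obtain ⟨c, hcd⟩ := hT d
    obtain ⟨s, hs, r, hr⟩ := intNorm_one_add (𝓞 L) p (π ^ (m + 1)) c
    refine ⟨y * (1 + algebraMap (𝓞 K) (𝓞 L) (π ^ (m + 1)) * c), ?_⟩
    rw [map_mul]
    set N1 := Algebra.intNorm (𝓞 K) (𝓞 L) (1 + algebraMap (𝓞 K) (𝓞 L) (π ^ (m + 1)) * c)
    set Ny := Algebra.intNorm (𝓞 K) (𝓞 L) y
    have key : s * (Ny * N1 - u) = -(s * e) + s * (a * (Algebra.intTrace (𝓞 K) (𝓞 L) c - d)) +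
        Ny * r * (π ^ (m + 1)) ^ 2 := by
      rw [ha]
      rw [ha] at hde
      linear_combination Ny * hr + s * hde
    have hmem : s * (Ny * N1 - u) ∈ p ^ (m + 1 + 1) := by
      rw [key]
      refine add_mem (add_mem (neg_mem (Ideal.mul_mem_left _ _ he')) (Ideal.mul_mem_left _ _ ?_))
        (Ideal.mul_mem_left _ _ ?_)
      · rw [pow_succ]
        exact Ideal.mul_mem_mul ha1 hcd
      · rw [← pow_mul]
        exact Ideal.pow_le_pow_right (by omega) (Ideal.pow_mem_pow hπ _)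
    rcases Ideal.IsPrime.mul_mem_pow p hmem with h1 | h1
    · exact absurd h1 hs
    · exact h1

end K986.LocNorm
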