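import Groth.Agent.NumberField.K986.UnitNorm

/-!
# Moebius change of coordinates
-/

set_option autoImplicit false
open NumberField IsDedekindDomain
open scoped TensorProduct

namespace K986.Moebius

open StrongApprox LocNorm NormClose Coord TNorm UnitNorm Filter Topology

/-- the basic identity -/
theorem identity {k E K : Type*} [Field k] [Field E] [Algebra k E] [Field K] [Algebra k K]
    (α β γ δ : k) (t t' : E) (a b a' b' : K)
    (hs : algebraMap k E γ * t + algebraMap k E δ ≠ 0)
    (hg : algebraMap k K γ * a + algebraMap k K δ ≠ 0)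
    (ht' : t' = (algebraMap k E α * t + algebraMap k E β) /
      (algebraMap k E γ * t + algebraMap k E δ))
    (ha' : a' = (algebraMap k K α * a + algebraMap k K β) /
      (algebraMap k K γ * a + algebraMap k K δ))
    (hb' : b' = b * (algebraMap k K γ * a + algebraMap k K δ)) :
    (1 : E) ⊗ₜ[k] b' * (t' ⊗ₜ[k] (1 : K) - (1 : E) ⊗ₜ[k] a') =
      ((1 : E) ⊗ₜ[k] b * (t ⊗ₜ[k] (1 : K) - (1 : E) ⊗ₜ[k] a)) *
        ((algebraMap k E (α * δ - β * γ) / (algebraMap k E γ * t + algebraMap k E δ)) ⊗ₜ[k]
          (1 : K)) := by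
  let i₁ : E →ₐ[k] E ⊗[k] K := Algebra.TensorProduct.includeLeft
  let i₂ : K →ₐ[k] E ⊗[k] K := Algebra.TensorProduct.includeRight
  have h₁ : ∀ x : k, i₁ (algebraMap k E x) = algebraMap k (E ⊗[k] K) x := fun x => i₁.commutes x
  have h₂ : ∀ x : k, i₂ (algebraMap k K x) = algebraMap k (E ⊗[k] K) x := fun x => i₂.commutes x
  change i₂ b' * (i₁ t' - i₂ a') = (i₂ b * (i₁ t - i₂ a)) * i₁ (algebraMap k E (α * δ - β * γ) /
    (algebraMap k E γ * t + algebraMap k E δ))
  set s := algebraMap k E γ * t + algebraMap k E δ with hsdef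
  have hu : IsUnit (i₁ s) := (IsUnit.mk0 s hs).map i₁
  have e1 : i₁ s * i₁ t' = algebraMap k _ α * i₁ t + algebraMap k _ β := by
    rw [← map_mul, ht', mul_div_cancel₀ _ hs, map_add, map_mul, h₁, h₁]
  have e2 : i₂ b' * i₂ a' = i₂ b * (algebraMap k _ α * i₂ a + algebraMap k _ β) := by
    rw [← map_mul, hb', ha', mul_assoc, mul_div_cancel₀ _ hg, map_mul, map_add, map_mul, h₂, h₂]
  have e3 : i₂ b' = i₂ b * (algebraMap k _ γ * i₂ a + algebraMap k _ δ) := by
    rw [hb', map_mul, map_add, map_mul, h₂, h₂]
  have e4 : i₁ s * i₁ (algebraMap k E (α * δ - β * γ) / s) =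
      algebraMap k _ α * algebraMap k _ δ - algebraMap k _ β * algebraMap k _ γ := by
    rw [← map_mul, mul_div_cancel₀ _ hs, h₁, map_sub, map_mul, map_mul]
  have e5 : i₁ s = algebraMap k _ γ * i₁ t + algebraMap k _ δ := by
    rw [hsdef, map_add, map_mul, h₁, h₁]
  apply hu.mul_left_cancel
  calc i₁ s * (i₂ b' * (i₁ t' - i₂ a')) = i₂ b' * (i₁ s * i₁ t') - i₁ s * (i₂ b' * i₂ a') := by ring
    _ = (i₂ b * (i₁ t - i₂ a)) * (i₁ s * i₁ (algebraMap k E (α * δ - β * γ) / s)) := by
      rw [e1, e2, e3, e4, e5]
      ring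
    _ = _ := by ring

/-- continuity of the inverse transformation -/
theorem exists_open {k E : Type*} [Field k] [Field E] [Algebra k E] [TopologicalSpace E]
    [IsTopologicalDivisionRing E] [T1Space E] (α β γ δ : k) (hdet : α * δ - β * γ ≠ 0) (t t' : E)
    (hs : algebraMap k E γ * t + algebraMap k E δ ≠ 0)
    (ht' : t' = (algebraMap k E α * t + algebraMap k E β) /
      (algebraMap k E γ * t + algebraMap k E δ))
    (U : Set E) (hU : IsOpen U) (htU : t ∈ U) :
    ∃ U' : Set E, IsOpen U' ∧ t' ∈ U' ∧ ∀ t₀' : k, α ≠ γ * t₀' → algebraMap k E t₀' ∈ U' →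
      algebraMap k E ((δ * t₀' - β) / (α - γ * t₀')) ∈ U := by
  let f : E → E := fun x => (algebraMap k E δ * x - algebraMap k E β) /
    (algebraMap k E α - algebraMap k E γ * x)
  let V : Set E := {x | algebraMap k E α - algebraMap k E γ * x ≠ 0}
  have hV : IsOpen V := isOpen_ne.preimage (continuous_const.sub (continuous_const.mul continuous_id))
  have hf : ContinuousOn f V := by
    refine ContinuousOn.div ?_ ?_ (fun x hx => hx)
    · exact ((continuous_const.mul continuous_id).sub continuous_const).continuousOn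
    · exact (continuous_const.sub (continuous_const.mul continuous_id)).continuousOn
  refine ⟨V ∩ f ⁻¹' U, hf.isOpen_inter_preimage hV hU, ?_, ?_⟩
  · have hD : algebraMap k E α * algebraMap k E δ - algebraMap k E β * algebraMap k E γ ≠ 0 := by
      rw [← map_mul, ← map_mul, ← map_sub]
      exact (_root_.map_ne_zero _).2 hdet
    have hts : t' * (algebraMap k E γ * t + algebraMap k E δ) =
        algebraMap k E α * t + algebraMap k E β := by
      rw [ht', div_mul_cancel₀ _ hs]
    have h1 : algebraMap k E α - algebraMap k E γ * t' =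
        (algebraMap k E α * algebraMap k E δ - algebraMap k E β * algebraMap k E γ) /
          (algebraMap k E γ * t + algebraMap k E δ) := by
      rw [eq_div_iff hs]
      linear_combination -algebraMap k E γ * hts
    have h2 : algebraMap k E δ * t' - algebraMap k E β =
        (algebraMap k E α * algebraMap k E δ - algebraMap k E β * algebraMap k E γ) /
          (algebraMap k E γ * t + algebraMap k E δ) * t := by
      rw [div_mul_eq_mul_div, eq_div_iff hs]
      linear_combination algebraMap k E δ * hts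
    have h3 : (algebraMap k E α * algebraMap k E δ - algebraMap k E β * algebraMap k E γ) /
          (algebraMap k E γ * t + algebraMap k E δ) ≠ 0 := div_ne_zero hD hs
    refine ⟨?_, ?_⟩
    · change algebraMap k E α - algebraMap k E γ * t' ≠ 0
      rw [h1]
      exact h3
    · change f t' ∈ U
      simp only [f]
      rw [h1, h2, mul_div_cancel_left₀ _ h3]
      exact htU
  · rintro t₀' _ ⟨_, h⟩
    have h' : f (algebraMap k E t₀') ∈ U := h
    simp only [f] at h'
    rwa [map_div₀, map_sub, map_sub, map_mul, map_mul]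

section Val

variable {k K : Type*} [Field k] [NumberField k] [Field K] [NumberField K] [Algebra k K]

omit [NumberField k] [NumberField K] in
theorem sub_eq (α β γ δ : k) (a : K) (t₀' : k) (hne : α ≠ γ * t₀') :
    algebraMap k K ((δ * t₀' - β) / (α - γ * t₀')) - a =
      ((algebraMap k K γ * a + algebraMap k K δ) * algebraMap k K t₀' -
        (algebraMap k K α * a + algebraMap k K β)) /
        (algebraMap k K α - algebraMap k K γ * algebraMap k K t₀') := by
  have hD : algebraMap k K α - algebraMap k K γ * algebraMap k K t₀' ≠ 0 := by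
    rw [← map_mul, ← map_sub]
    exact (_root_.map_ne_zero _).2 (sub_ne_zero.2 hne)
  rw [map_div₀, map_sub, map_sub, map_mul, map_mul, eq_div_iff hD, sub_mul, div_mul_cancel₀ _ hD]
  ring

/-- places where the coordinate change is made to be a unit -/
theorem not_lt_one_of_small (v : HeightOneSpectrum (𝓞 k)) (W : HeightOneSpectrum (𝓞 K))
    (hWv : W.asIdeal.LiesOver v.asIdeal) (α β γ δ : k) (a : K) (hα : v.valuation k α = 1)
    (ha : W.valuation K (algebraMap k K α * a + algebraMap k K β) = 1)
    (t₀' : k) (n : ℕ) (ht : v.valuation k t₀' ≤ WithZero.exp (-(n : ℤ)))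
    (h1 : W.valuation K (algebraMap k K γ * a + algebraMap k K δ) < WithZero.exp (n : ℤ))
    (h2 : v.valuation k γ < WithZero.exp (n : ℤ)) (hne : α ≠ γ * t₀') :
    ¬ W.valuation K (algebraMap k K ((δ * t₀' - β) / (α - γ * t₀')) - a) < 1 := by
  have ht' := val_le v W hWv t₀' n ht
  have hexp : WithZero.exp (n : ℤ) * WithZero.exp (-(n : ℤ)) = (1 : WithZero (Multiplicative ℤ)) := by
    rw [← WithZero.exp_add, add_neg_cancel, WithZero.exp_zero]
  have hpos : (0 : WithZero (Multiplicative ℤ)) < WithZero.exp (-(n : ℤ)) :=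
    zero_lt_iff.2 WithZero.exp_ne_zero
  have e1 : W.valuation K ((algebraMap k K γ * a + algebraMap k K δ) * algebraMap k K t₀') < 1 := by
    rw [map_mul, ← hexp]
    exact (mul_le_mul_right ht' _).trans_lt (mul_lt_mul_of_pos_right h1 hpos)
  have e2 : W.valuation K ((algebraMap k K γ * a + algebraMap k K δ) * algebraMap k K t₀' -
      (algebraMap k K α * a + algebraMap k K β)) = 1 := by
    rw [Valuation.map_sub_eq_of_lt_right _ (by rw [ha]; exact e1), ha]
  have e3 : v.valuation k (γ * t₀') < 1 := by
    rw [map_mul, ← hexp]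
    exact (mul_le_mul_right ht _).trans_lt (mul_lt_mul_of_pos_right h2 hpos)
  have e4 : v.valuation k (α - γ * t₀') = 1 := by
    rw [Valuation.map_sub_eq_of_lt_left _ (by rw [hα]; exact e3), hα]
  have e5 : W.valuation K (algebraMap k K α - algebraMap k K γ * algebraMap k K t₀') = 1 := by
    rw [← map_mul, ← map_sub]
    exact val_eq_one v W hWv _ e4
  rw [sub_eq α β γ δ a t₀' hne, map_div₀, e2, e5, div_one]
  exact lt_irrefl _

/-- good places -/
theorem lt_one_of_good (W : HeightOneSpectrum (𝓞 K)) (α β γ δ : k) (a b a' b' : K)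
    (hα : W.valuation K (algebraMap k K α) = 1) (hγ : W.valuation K (algebraMap k K γ) ≤ 1)
    (hb : W.valuation K b = 1) (ha'1 : W.valuation K a' ≤ 1) (hb'1 : W.valuation K b' = 1)
    (hg : algebraMap k K γ * a + algebraMap k K δ ≠ 0)
    (ha' : a' = (algebraMap k K α * a + algebraMap k K β) /
      (algebraMap k K γ * a + algebraMap k K δ))
    (hb' : b' = b * (algebraMap k K γ * a + algebraMap k K δ))
    (t₀' : k) (hne : α ≠ γ * t₀')
    (h : W.valuation K (algebraMap k K ((δ * t₀' - β) / (α - γ * t₀')) - a) < 1) :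
    W.valuation K (algebraMap k K t₀' - a') < 1 := by
  have hD : algebraMap k K α - algebraMap k K γ * algebraMap k K t₀' ≠ 0 := by
    rw [← map_mul, ← map_sub]
    exact (_root_.map_ne_zero _).2 (sub_ne_zero.2 hne)
  have hgv : W.valuation K (algebraMap k K γ * a + algebraMap k K δ) = 1 := by
    rw [hb', map_mul, hb, one_mul] at hb'1
    exact hb'1
  have e1 : (algebraMap k K γ * a + algebraMap k K δ) * algebraMap k K t₀' -
      (algebraMap k K α * a + algebraMap k K β) =
      (algebraMap k K γ * a + algebraMap k K δ) * (algebraMap k K t₀' - a') := by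
    rw [ha', mul_sub, mul_div_cancel₀ _ hg]
  rw [sub_eq α β γ δ a t₀' hne, e1, map_div₀, map_mul, hgv, one_mul,
    div_lt_one₀ (zero_lt_iff.2 ((Valuation.ne_zero_iff _).2 hD))] at h
  by_cases h1 : W.valuation K (algebraMap k K t₀') ≤ 1
  · refine h.trans_le ((Valuation.map_sub _ _ _).trans (max_le hα.le ?_))
    rw [map_mul]
    exact mul_le_one' hγ h1
  · exfalso
    push Not at h1
    have h2 : W.valuation K (algebraMap k K t₀' - a') = W.valuation K (algebraMap k K t₀') :=
      Valuation.map_sub_eq_of_lt_left _ (ha'1.trans_lt h1)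
    rw [h2] at h
    refine absurd h (not_lt.2 ((Valuation.map_sub _ _ _).trans (max_le (hα.le.trans h1.le) ?_)))
    rw [map_mul]
    exact mul_le_of_le_one_left' hγ

end Val

end K986.Moebius
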