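import Groth.Agent.NumberField.K986.MulMat
import Groth.Agent.CalgC.DimFT
import Mathlib.LinearAlgebra.Vandermonde
import Mathlib.RingTheory.AlgebraicIndependent.AlgebraicClosure
import Mathlib.RingTheory.AlgebraicIndependent.Transcendental
import Mathlib.FieldTheory.Separable
import Mathlib.FieldTheory.IsAlgClosed.AlgebraicClosure

/-!
# The locus where the multiplication matrix has corank at least two has codimension two
-/

set_option autoImplicit false
universe u

namespace K986.NormVar

open Polynomial Matrix MulMat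

section Basic

variable {R : Type*} [CommRing R] (n : ℕ) (g : R[X])

/-- the universal minors -/
noncomputable def fpoly (i j : Fin n) : MvPolynomial (Fin n) R :=
  adjugate (mulMat n (g.map MvPolynomial.C) (toPoly MvPolynomial.X)) i j

/-- the universal norm -/
noncomputable def npoly : MvPolynomial (Fin n) R :=
  (mulMat n (g.map MvPolynomial.C) (toPoly MvPolynomial.X)).det

variable {g} (hg : g.Monic)
include hg

theorem ringHom_mulMat {S : Type*} [CommRing S] (φ : MvPolynomial (Fin n) R →+* S) :
    (mulMat n (g.map MvPolynomial.C) (toPoly MvPolynomial.X)).map φ =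
      mulMat n (g.map (φ.comp MvPolynomial.C)) (toPoly fun i => φ (MvPolynomial.X i)) := by
  rw [mulMat_map φ (hg.map _), Polynomial.map_map, toPoly_map]

theorem ringHom_fpoly {S : Type*} [CommRing S] (φ : MvPolynomial (Fin n) R →+* S) (i j : Fin n) :
    φ (fpoly n g i j) =
      adjugate (mulMat n (g.map (φ.comp MvPolynomial.C)) (toPoly fun i => φ (MvPolynomial.X i))) i j := by
  rw [← ringHom_mulMat n hg φ]
  have h1 := φ.map_adjugate (mulMat n (g.map MvPolynomial.C) (toPoly MvPolynomial.X))
  exact congrFun (congrFun h1 i) j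

theorem ringHom_npoly {S : Type*} [CommRing S] (φ : MvPolynomial (Fin n) R →+* S) :
    φ (npoly n g) =
      (mulMat n (g.map (φ.comp MvPolynomial.C)) (toPoly fun i => φ (MvPolynomial.X i))).det := by
  rw [← ringHom_mulMat n hg φ]
  exact φ.map_det (mulMat n (g.map MvPolynomial.C) (toPoly MvPolynomial.X))

theorem aeval_fpoly {S : Type*} [CommRing S] [Algebra R S] (x : Fin n → S) (i j : Fin n) :
    MvPolynomial.aeval x (fpoly n g i j) =
      adjugate (mulMat n (g.map (algebraMap R S)) (toPoly x)) i j := by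
  have h1 := ringHom_fpoly n hg (MvPolynomial.aeval x : MvPolynomial (Fin n) R →ₐ[R] S).toRingHom i j
  have h2 : ((MvPolynomial.aeval x : MvPolynomial (Fin n) R →ₐ[R] S).toRingHom.comp MvPolynomial.C) =
      algebraMap R S := by
    ext r
    exact (MvPolynomial.aeval x : MvPolynomial (Fin n) R →ₐ[R] S).commutes r
  have h3 : (fun i => (MvPolynomial.aeval x : MvPolynomial (Fin n) R →ₐ[R] S).toRingHom
      (MvPolynomial.X i)) = x := by
    ext i
    exact MvPolynomial.aeval_X _ _
  rw [h2, h3] at h1
  exact h1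

theorem aeval_npoly {S : Type*} [CommRing S] [Algebra R S] (x : Fin n → S) :
    MvPolynomial.aeval x (npoly n g) =
      (mulMat n (g.map (algebraMap R S)) (toPoly x)).det := by
  have h1 := ringHom_npoly n hg (MvPolynomial.aeval x : MvPolynomial (Fin n) R →ₐ[R] S).toRingHom
  have h2 : ((MvPolynomial.aeval x : MvPolynomial (Fin n) R →ₐ[R] S).toRingHom.comp MvPolynomial.C) =
      algebraMap R S := by
    ext r
    exact (MvPolynomial.aeval x : MvPolynomial (Fin n) R →ₐ[R] S).commutes r
  have h3 : (fun i => (MvPolynomial.aeval x : MvPolynomial (Fin n) R →ₐ[R] S).toRingHom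
      (MvPolynomial.X i)) = x := by
    ext i
    exact MvPolynomial.aeval_X _ _
  rw [h2, h3] at h1
  exact h1

theorem map_fpoly {S : Type*} [CommRing S] (φ : R →+* S) (i j : Fin n) :
    MvPolynomial.map φ (fpoly n g i j) = fpoly n (g.map φ) i j := by
  rw [ringHom_fpoly n hg, fpoly, Polynomial.map_map]
  have h2 : ((MvPolynomial.map (σ := Fin n) φ).comp MvPolynomial.C) = MvPolynomial.C.comp φ := by
    ext1 r
    simp
  rw [h2]
  have h3 : (fun i => MvPolynomial.map φ (MvPolynomial.X (R := R) i)) =
      (MvPolynomial.X : Fin n → MvPolynomial (Fin n) S) := by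
    ext1 i
    simp
  rw [h3]

end Basic

/-- the dimension of a ring is bounded by the dimensions of its quotients by primes -/
theorem ringKrullDim_le_of_forall_prime {A : Type*} [CommRing A] (d : WithBot ℕ∞)
    (h : ∀ (p : Ideal A) [p.IsPrime], ringKrullDim (A ⧸ p) ≤ d) : ringKrullDim A ≤ d := by
  refine iSup_le fun p => ?_
  have := p.head.isPrime
  refine le_trans ?_ (h p.head.asIdeal)
  rw [ringKrullDim_quotient]
  let q : LTSeries (PrimeSpectrum.zeroLocus (p.head.asIdeal : Set A)) :=
    { length := p.length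
      toFun := fun i => ⟨p i, by
        rw [PrimeSpectrum.mem_zeroLocus]
        exact p.head_le i⟩
      step := fun i => p.step i }
  exact Order.LTSeries.length_le_krullDim q

end K986.NormVar

namespace K986.NormVar

open Polynomial Matrix MulMat AlgebraicIndependent

/-- the number of algebraically independent elements algebraic over a set is bounded by the size of
the set -/
theorem card_le_of_algebraic {k Ω : Type*} [Field k] [Field Ω] [Algebra k Ω] {d : ℕ}
    (y : Fin d → Ω) (hy : AlgebraicIndependent k y) (s : Set Ω)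
    (hs : ∀ i, IsAlgebraic (Algebra.adjoin k s) (y i)) : (d : ℕ∞) ≤ s.encard := by
  have h1 : (AlgebraicIndependent.matroid k Ω).Indep (Set.range y) :=
    AlgebraicIndependent.matroid_indep_iff.2 hy.to_subtype_range
  have h2 : Set.range y ⊆ (AlgebraicIndependent.matroid k Ω).closure s := by
    rw [AlgebraicIndependent.matroid_closure_eq]
    rintro _ ⟨i, rfl⟩
    exact hs i
  have h3 := h1.encard_le_eRk_of_subset h2
  rw [Matroid.eRk_closure_eq] at h3
  have h4 : (Set.range y).encard = d := by
    rw [← Set.image_univ, hy.injective.encard_image]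
    simp
  rw [h4] at h3
  exact h3.trans (Matroid.eRk_le_encard _ _)

/-- roots of a separable polynomial in an algebraically closed field, enumerated -/
theorem exists_roots {k Ω : Type*} [Field k] [Field Ω] [Algebra k Ω] [IsAlgClosed Ω] {n : ℕ}
    {g : k[X]} (hn : g.natDegree = n) (hsep : g.Separable) :
    ∃ θ : Fin n → Ω, Function.Injective θ ∧ ∀ i, (g.map (algebraMap k Ω)).eval (θ i) = 0 := by
  classical
  have h1 : Fintype.card (g.rootSet Ω) = n := by
    rw [card_rootSet_eq_natDegree hsep (IsAlgClosed.splits _), hn]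
  let e : Fin n ≃ g.rootSet Ω := (Fintype.equivFinOfCardEq h1).symm
  refine ⟨fun i => (e i : Ω), fun i j h => e.injective (Subtype.ext h), fun i => ?_⟩
  have h2 := (mem_rootSet.1 (e i).2).2
  rw [eval_map_algebraMap]
  exact h2

/-- over an algebraically closed field, a point where all minors vanish has two vanishing linear
forms -/
theorem exists_two_vanishing {Ω : Type*} [Field Ω] {n : ℕ} (hn0 : 0 < n) {g : Ω[X]} (hg : g.Monic)
    (hn : g.natDegree = n) (θ : Fin n → Ω) (hθ : Function.Injective θ)
    (hθg : ∀ i, g.eval (θ i) = 0) (P : Ω[X]) (hP : adjugate (mulMat n g P) = 0) :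
    ∃ i j, i ≠ j ∧ P.eval (θ i) = 0 ∧ P.eval (θ j) = 0 := by
  classical
  let V : Matrix (Fin n) (Fin n) Ω := vandermonde θ
  have hV : V.det ≠ 0 := det_vandermonde_ne_zero_iff.2 hθ
  have h1 : V * mulMat n g P = diagonal (fun i => P.eval (θ i)) * V := by
    ext i j
    have h2 := congrFun (vecMul_mulMat hg hn P (hθg i)) j
    rw [diagonal_mul]
    exact h2
  have h2 := congrArg adjugate h1
  rw [adjugate_mul_distrib, adjugate_mul_distrib, hP, zero_mul] at h2
  have h3 : V.det • adjugate (diagonal fun i => P.eval (θ i)) = 0 := by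
    have h4 := congrArg (fun M => V * M) h2
    simp only [mul_zero] at h4
    rw [← Matrix.mul_assoc, mul_adjugate, smul_mul, one_mul] at h4
    exact h4.symm
  have h4 : adjugate (diagonal fun i => P.eval (θ i)) = 0 := by
    rcases smul_eq_zero.1 h3 with h | h
    · exact absurd h hV
    · exact h
  rw [adjugate_diagonal] at h4
  have h5 : ∀ i, ∏ j ∈ Finset.univ.erase i, P.eval (θ j) = 0 := by
    intro i
    have := congrFun (congrFun h4 i) i
    simpa using this
  obtain ⟨j, hj, hj0⟩ := Finset.prod_eq_zero_iff.1 (h5 ⟨0, hn0⟩)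
  obtain ⟨i, hi, hi0⟩ := Finset.prod_eq_zero_iff.1 (h5 j)
  exact ⟨i, j, (Finset.mem_erase.1 hi).1, hi0, hj0⟩

/-- coordinates are algebraic over the values at the roots -/
theorem isAlgebraic_coord {k Ω : Type*} [Field k] [Field Ω] [Algebra k Ω] {n : ℕ}
    (θ : Fin n → Ω) (hθ : Function.Injective θ) (hθa : ∀ i, IsAlgebraic k (θ i)) (x : Fin n → Ω)
    (s : Set Ω) (hs : ∀ i, (toPoly x).eval (θ i) ∈ s ∨ (toPoly x).eval (θ i) = 0) (i : Fin n) :
    IsAlgebraic (Algebra.adjoin k s) (x i) := by
  classical
  let B := Subalgebra.algebraicClosure (Algebra.adjoin k s) Ω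
  have hθB : ∀ i, θ i ∈ B := fun i => (hθa i).extendScalars (FaithfulSMul.algebraMap_injective _ _)
  have hPB : ∀ i, (toPoly x).eval (θ i) ∈ B := by
    intro i
    rcases hs i with h | h
    · exact isAlgebraic_algebraMap (⟨_, Algebra.subset_adjoin h⟩ : Algebra.adjoin k s)
    · rw [h]; exact zero_mem _
  let VB : Matrix (Fin n) (Fin n) B := vandermonde fun i => ⟨θ i, hθB i⟩
  let V : Matrix (Fin n) (Fin n) Ω := vandermonde θ
  have hVB : VB.map B.val = V := by
    ext i j
    simp [VB, V, vandermonde_apply]
  have hV : V.det ≠ 0 := det_vandermonde_ne_zero_iff.2 hθ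
  have h1 : V *ᵥ x = fun i => (toPoly x).eval (θ i) := by
    ext i
    rw [mulVec, dotProduct, toPoly, eval_finsetSum]
    refine Finset.sum_congr rfl fun j _ => ?_
    rw [eval_mul, eval_C, eval_pow, eval_X]
    exact mul_comm _ _
  have h2 : V.det • x = adjugate V *ᵥ fun i => (toPoly x).eval (θ i) := by
    rw [← h1, mulVec_mulVec, adjugate_mul, smul_mulVec, one_mulVec]
  have h3 : V.det * x i ∈ B := by
    have h4 := congrFun h2 i
    rw [Pi.smul_apply, smul_eq_mul] at h4
    rw [h4, mulVec, dotProduct]
    refine sum_mem fun j _ => mul_mem ?_ (hPB j)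
    have h5 := B.val.map_adjugate VB
    have h6 : adjugate V i j = B.val (adjugate VB i j) := by
      rw [← hVB]
      exact (congrFun (congrFun h5 i) j).symm
    rw [h6]
    exact (adjugate VB i j).2
  have h7 : V.det ∈ B := by
    have h5 := B.val.map_det VB
    have h6 : V.det = B.val VB.det := by
      rw [h5, ← hVB]
      rfl
    rw [h6]
    exact VB.det.2
  have h8 : x i = (V.det)⁻¹ * (V.det * x i) := by rw [inv_mul_cancel_left₀ hV]
  rw [h8]
  exact (IsAlgebraic.inv h7).mul h3

/-- the quotient by a prime containing all the minors has dimension at most `n - 2` -/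
theorem dim_quotient_prime (k : Type u) [Field k] {n : ℕ} (hn0 : 0 < n) {g : k[X]} (hg : g.Monic)
    (hn : g.natDegree = n) (hsep : g.Separable) (p : Ideal (MvPolynomial (Fin n) k)) [p.IsPrime]
    (hp : ∀ i j, fpoly n g i j ∈ p) :
    ringKrullDim (MvPolynomial (Fin n) k ⧸ p) + 2 ≤ (n : WithBot ℕ∞) := by
  classical
  let D := MvPolynomial (Fin n) k ⧸ p
  let Ω := AlgebraicClosure (FractionRing D)
  obtain ⟨d, hd1, hd2, -⟩ := Groth.Agent.CalgC.DimFT.exists_dim k D
  let ι : D →ₐ[k] Ω := (IsScalarTower.toAlgHom k (FractionRing D) Ω).comp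
    (IsScalarTower.toAlgHom k D (FractionRing D))
  have hι : Function.Injective ι := by
    intro a b h
    exact IsFractionRing.injective D (FractionRing D)
      ((algebraMap (FractionRing D) Ω).injective h)
  -- algebraically independent elements
  obtain ⟨t, ht⟩ := exists_isTranscendenceBasis k D
  have ht1 : Cardinal.mk t = d := by rw [ht.cardinalMk_eq_trdeg, hd2]
  have ht2 : Finite t := by
    rw [← Cardinal.lt_aleph0_iff_finite, ht1]
    exact Cardinal.natCast_lt_aleph0
  let e : Fin d ≃ t := by
    have := Fintype.ofFinite t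
    refine (Fintype.equivFinOfCardEq ?_).symm
    rw [Cardinal.mk_fintype] at ht1
    exact_mod_cast ht1
  let y : Fin d → Ω := fun i => ι (e i : D)
  have hy : AlgebraicIndependent k y := (ht.1.comp e e.injective).map' hι
  -- the generic point
  let x : Fin n → Ω := fun i => ι (Ideal.Quotient.mk p (MvPolynomial.X i))
  have hx : ∀ q : MvPolynomial (Fin n) k, ι (Ideal.Quotient.mk p q) = MvPolynomial.aeval x q := by
    intro q
    have : ι.comp (Ideal.Quotient.mkₐ k p) = MvPolynomial.aeval x := by
      apply MvPolynomial.algHom_ext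
      intro i
      rw [MvPolynomial.aeval_X]
      rfl
    rw [← this]
    rfl
  have hgΩ : (g.map (algebraMap k Ω)).Monic := hg.map _
  have hnΩ : (g.map (algebraMap k Ω)).natDegree = n := by rw [hg.natDegree_map, hn]
  have hadj : adjugate (mulMat n (g.map (algebraMap k Ω)) (toPoly x)) = 0 := by
    ext i j
    rw [← aeval_fpoly n hg x i j, ← hx, Ideal.Quotient.eq_zero_iff_mem.2 (hp i j), map_zero]
    rfl
  obtain ⟨θ, hθ, hθg⟩ := exists_roots (Ω := Ω) hn hsep
  obtain ⟨i₀, j₀, hij, hi₀, hj₀⟩ := exists_two_vanishing hn0 hgΩ hnΩ θ hθ hθg (toPoly x) hadj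
  have hθa : ∀ i, IsAlgebraic k (θ i) := by
    intro i
    refine ⟨g, hg.ne_zero, ?_⟩
    rw [← eval_map_algebraMap]
    exact hθg i
  let S : Finset (Fin n) := (Finset.univ.erase i₀).erase j₀
  let s : Set Ω := (fun i => (toPoly x).eval (θ i)) '' (S : Set (Fin n))
  have hs : ∀ i, (toPoly x).eval (θ i) ∈ s ∨ (toPoly x).eval (θ i) = 0 := by
    intro i
    by_cases h1 : i = i₀
    · right; rw [h1]; exact hi₀
    · by_cases h2 : i = j₀
      · right; rw [h2]; exact hj₀
      · left
        exact ⟨i, by simp [S, h1, h2], rfl⟩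
  have hxa := isAlgebraic_coord θ hθ hθa x s hs
  have hqa : ∀ q : MvPolynomial (Fin n) k, MvPolynomial.aeval x q ∈
      Subalgebra.algebraicClosure (Algebra.adjoin k s) Ω := by
    intro q
    induction q using MvPolynomial.induction_on with
    | C a =>
      rw [MvPolynomial.algHom_C]
      have : algebraMap k Ω a = algebraMap (Algebra.adjoin k s) Ω (algebraMap k _ a) := rfl
      rw [this]
      exact isAlgebraic_algebraMap _
    | add a b ha hb => rw [map_add]; exact add_mem ha hb
    | mul_X a i ha => rw [map_mul, MvPolynomial.aeval_X]; exact mul_mem ha (hxa i)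
  have hya : ∀ i, IsAlgebraic (Algebra.adjoin k s) (y i) := by
    intro i
    obtain ⟨q, hq⟩ := Ideal.Quotient.mk_surjective (e i : D)
    have h1 : y i = MvPolynomial.aeval x q := by
      simp only [y]
      rw [← hx, hq]
    rw [h1]
    exact hqa q
  have h1 := card_le_of_algebraic y hy s hya
  have h2 : s.encard ≤ (S : Set (Fin n)).encard := Set.encard_image_le _ _
  have h3 : (S : Set (Fin n)).encard = (n - 2 : ℕ) := by
    rw [Set.encard_coe_eq_coe_finsetCard]
    have : S.card = n - 2 := by
      rw [Finset.card_erase_of_mem (by simp [hij.symm]), Finset.card_erase_of_mem (by simp),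
        Finset.card_univ, Fintype.card_fin]
      omega
    rw [this]
  rw [h3] at h2
  have h4 : d ≤ n - 2 := by exact_mod_cast h1.trans h2
  have hn2 : 2 ≤ n := by
    by_contra h5
    have : n = 1 := by omega
    subst this
    exact hij (Subsingleton.elim _ _)
  change ringKrullDim D + 2 ≤ _
  rw [hd1]
  exact_mod_cast (show d + 2 ≤ n by omega)

/-- **The codimension bound**: the minors of size `n - 1` of the matrix of multiplication on
`k[X]/(g)`, `g` separable, define a closed subset of codimension at least two of affine space. -/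
theorem dim_bound (k : Type u) [Field k] {n : ℕ} (hn0 : 0 < n) {g : k[X]} (hg : g.Monic)
    (hn : g.natDegree = n) (hsep : g.Separable) (I : Ideal (MvPolynomial (Fin n) k))
    (hI : ∀ i j, fpoly n g i j ∈ I) :
    ringKrullDim (MvPolynomial (Fin n) k ⧸ I) + 2 ≤ (n : WithBot ℕ∞) := by
  have h1 : ∀ (q : Ideal (MvPolynomial (Fin n) k ⧸ I)) [q.IsPrime],
      ringKrullDim ((MvPolynomial (Fin n) k ⧸ I) ⧸ q) + 2 ≤ (n : WithBot ℕ∞) := by
    intro q hq
    have h2 := dim_quotient_prime k hn0 hg hn hsep (q.comap (Ideal.Quotient.mk I)) (fun i j => by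
      rw [Ideal.mem_comap, Ideal.Quotient.eq_zero_iff_mem.2 (hI i j)]
      exact zero_mem _)
    have h3 : ringKrullDim ((MvPolynomial (Fin n) k ⧸ I) ⧸ q) ≤
        ringKrullDim (MvPolynomial (Fin n) k ⧸ (q.comap (Ideal.Quotient.mk I))) := by
      refine ringKrullDim_le_of_surjective (Ideal.quotientMap q (Ideal.Quotient.mk I) le_rfl) ?_
      exact Ideal.quotientMap_surjective Ideal.Quotient.mk_surjective
    exact (add_le_add_left h3 2).trans h2
  rcases subsingleton_or_nontrivial (MvPolynomial (Fin n) k ⧸ I) with hs | hs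
  · rw [ringKrullDim_eq_bot_of_subsingleton]
    simp
  · obtain ⟨q, hq⟩ := Ideal.exists_maximal (MvPolynomial (Fin n) k ⧸ I)
    have hqp := hq.isPrime
    have h2 : (2 : WithBot ℕ∞) ≤ n := by
      refine le_trans ?_ (h1 q)
      exact le_add_of_nonneg_left ringKrullDim_nonneg_of_nontrivial
    have h3 : 2 ≤ n := by exact_mod_cast h2
    obtain ⟨m, rfl⟩ := Nat.exists_eq_add_of_le h3
    have h4 : ringKrullDim (MvPolynomial (Fin (2 + m)) k ⧸ I) ≤ (m : WithBot ℕ∞) := by
      apply ringKrullDim_le_of_forall_prime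
      intro q hq
      have h5 := h1 q
      obtain ⟨d, hd, -, -⟩ := Groth.Agent.CalgC.DimFT.exists_dim k
        ((MvPolynomial (Fin (2 + m)) k ⧸ I) ⧸ q)
      rw [hd] at h5 ⊢
      have h6 : d + 2 ≤ 2 + m := by exact_mod_cast h5
      exact_mod_cast (show d ≤ m by omega)
    refine (add_le_add_left h4 2).trans ?_
    exact_mod_cast (show m + 2 ≤ 2 + m by omega)

end K986.NormVar
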