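import Groth.Agent.NumberField.K986.CodimTwoMain
import Groth.Agent.NumberField.K986.NormVar

/-!
# Strong approximation for elements of `k[X]/(g)` whose reductions have corank at most one
-/

set_option autoImplicit false
universe u
open NumberField IsDedekindDomain

namespace K986.NormApprox

open Polynomial Matrix MulMat NormVar CodimTwoMain

variable {k : Type u} [Field k] [NumberField k]

theorem adjugate_ne_zero_of_det_ne_zero {K : Type*} [Field K] {n : ℕ} (hn0 : 0 < n)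
    {M : Matrix (Fin n) (Fin n) K} (hM : M.det ≠ 0) : ∃ i j, adjugate M i j ≠ 0 := by
  by_contra hcon
  push Not at hcon
  have h1 : adjugate M = 0 := by
    ext i j
    exact hcon i j
  have h2 := mul_adjugate M
  rw [h1, mul_zero] at h2
  have h3 := congrFun (congrFun h2 ⟨0, hn0⟩) ⟨0, hn0⟩
  simp at h3
  exact hM h3.symm

theorem norm_approx {n : ℕ} (hn0 : 0 < n) (g : (𝓞 k)[X]) (hg : g.Monic) (hn : g.natDegree = n)
    (hsep : (g.map (algebraMap (𝓞 k) k)).Separable)
    (v₀ : HeightOneSpectrum (𝓞 k)) (Sf : Finset (HeightOneSpectrum (𝓞 k))) (hv₀ : v₀ ∈ Sf)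
    (Pf : (v : HeightOneSpectrum (𝓞 k)) → (Fin n → v.adicCompletion k))
    (Nf : (v : HeightOneSpectrum (𝓞 k)) → Set (Fin n → v.adicCompletion k))
    (hNf : ∀ v ∈ Sf, v ≠ v₀ → IsOpen (Nf v) ∧ Pf v ∈ Nf v)
    (Pi : (w : InfinitePlace k) → (Fin n → w.Completion))
    (hPi : ∀ w : InfinitePlace k, (mulMat n ((g.map (algebraMap (𝓞 k) k)).map
      (algebraMap k w.Completion)) (toPoly (Pi w))).det ≠ 0)
    (Ni : (w : InfinitePlace k) → Set (Fin n → w.Completion))
    (hNi : ∀ w, IsOpen (Ni w) ∧ Pi w ∈ Ni w) :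
    ∃ x : Fin n → k,
      (∀ v : HeightOneSpectrum (𝓞 k), v ∉ Sf → (∀ i, v.valuation k (x i) ≤ 1) ∧
        ∃ i j, v.valuation k (adjugate (mulMat n (g.map (algebraMap (𝓞 k) k)) (toPoly x)) i j) = 1) ∧
      (∀ v ∈ Sf, v ≠ v₀ → (fun i => algebraMap k (v.adicCompletion k) (x i)) ∈ Nf v) ∧
      (∀ w : InfinitePlace k, (fun i => algebraMap k w.Completion (x i)) ∈ Ni w) := by
  let f : Fin (n * n) → MvPolynomial (Fin n) (𝓞 k) := fun l =>
    fpoly n g (finProdFinEquiv.symm l).1 (finProdFinEquiv.symm l).2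
  have hgk : (g.map (algebraMap (𝓞 k) k)).Monic := hg.map _
  have hnk : (g.map (algebraMap (𝓞 k) k)).natDegree = n := by rw [hg.natDegree_map, hn]
  have hfk : ∀ l, Fk f l = fpoly n (g.map (algebraMap (𝓞 k) k)) (finProdFinEquiv.symm l).1
      (finProdFinEquiv.symm l).2 := fun l => map_fpoly n hg _ _ _
  have hfkij : ∀ i j, Fk f (finProdFinEquiv (i, j)) = fpoly n (g.map (algebraMap (𝓞 k) k)) i j := by
    intro i j
    rw [hfk, Equiv.symm_apply_apply]
  have H1 : ringKrullDim (MvPolynomial (Fin n) k ⧸ Ideal.span (Set.range fun j => Fk f j)) + 2 ≤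
      (n : WithBot ℕ∞) := by
    refine dim_bound k hn0 hgk hnk hsep _ fun i j => ?_
    rw [← hfkij]
    exact Ideal.subset_span ⟨_, rfl⟩
  have H2 : ∀ w, ∃ j, MvPolynomial.aeval (Pi w) (Fk f j) ≠ 0 := by
    intro w
    obtain ⟨i, j, hij⟩ := adjugate_ne_zero_of_det_ne_zero hn0 (hPi w)
    refine ⟨finProdFinEquiv (i, j), ?_⟩
    rw [hfkij, aeval_fpoly n hgk]
    exact hij
  have H3 : ∀ v : HeightOneSpectrum (𝓞 k), v ∉ Sf → ∃ R : Fin n → v.adicCompletion k,
      (∀ i, R i ∈ v.adicCompletionIntegers k) ∧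
        ∃ j, Valued.v (MvPolynomial.aeval R (Fk f j)) = 1 := by
    intro v hv
    refine ⟨_root_.Pi.single ⟨0, hn0⟩ 1, fun i => ?_, finProdFinEquiv (⟨0, hn0⟩, ⟨0, hn0⟩), ?_⟩
    · by_cases hi : i = ⟨0, hn0⟩
      · subst hi
        rw [_root_.Pi.single_eq_same]
        exact one_mem _
      · rw [_root_.Pi.single_eq_of_ne hi]
        exact zero_mem _
    · rw [hfkij, aeval_fpoly n hgk]
      have h1 : toPoly (_root_.Pi.single (⟨0, hn0⟩ : Fin n) (1 : v.adicCompletion k)) = 1 := by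
        ext m
        rw [coeff_toPoly]
        split_ifs with h
        · by_cases hm : m = 0
          · subst hm
            simp
          · rw [_root_.Pi.single_eq_of_ne (by simpa using hm), coeff_one, if_neg hm]
        · rw [coeff_one, if_neg (by omega)]
      rw [h1, mulMat_one (hgk.map _) (by rw [hgk.natDegree_map, hnk])]
      rw [adjugate_one, one_apply_eq, map_one]
  obtain ⟨x, hx1, hx2, hx3, -⟩ := main f H1 v₀ Sf hv₀ Pf Nf hNf Pi H2 Ni hNi ∅ (by simp)
    (fun v => 0) (by simp) (fun v => Set.univ) (by simp) H3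
  refine ⟨x, fun v hv => ?_, hx2, hx3⟩
  obtain ⟨h1, l, hl⟩ := hx1 v hv
  refine ⟨h1, (finProdFinEquiv.symm l).1, (finProdFinEquiv.symm l).2, ?_⟩
  rw [hfk, aeval_fpoly n hgk] at hl
  simpa using hl

end K986.NormApprox
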