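import Groth.Agent.NumberField.K986.LocNorm
import Groth.Agent.NumberField.K986.StrongApprox

/-!
# Units at finitely many places are close to norms
-/

set_option autoImplicit false
open NumberField IsDedekindDomain

namespace K986.NormClose

open StrongApprox LocNorm

theorem exists_le_exp (x : WithZero (Multiplicative ℤ)) : ∃ C : ℕ, x ≤ WithZero.exp (C : ℤ) := by
  by_cases hx : x = 0
  · exact ⟨0, hx ▸ zero_le⟩
  · refine ⟨(WithZero.log x).toNat, ?_⟩
    rw [← WithZero.exp_log hx, WithZero.exp_le_exp, WithZero.log_exp]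
    exact Int.self_le_toNat _

theorem exists_le_exp_of_finite {ι : Type*} [Finite ι] (f : ι → WithZero (Multiplicative ℤ)) :
    ∃ C : ℕ, ∀ i, f i ≤ WithZero.exp (C : ℤ) := by
  have := Fintype.ofFinite ι
  choose C hC using fun i => exists_le_exp (f i)
  refine ⟨Finset.univ.sup C, fun i => (hC i).trans ?_⟩
  rw [WithZero.exp_le_exp]
  exact_mod_cast Finset.le_sup (Finset.mem_univ i)

variable {K L : Type*} [Field K] [NumberField K] [Field L] [NumberField L] [Algebra K L]

/-- integral elements have bounded coordinates -/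
theorem exists_bound (W : HeightOneSpectrum (𝓞 K)) {J : Type*} [Finite J]
    (β : Module.Basis J K L) :
    ∃ C : ℕ, ∀ (z : 𝓞 L) (j : J), W.valuation K (β.repr (z : L) j) ≤ WithZero.exp (C : ℤ) := by
  obtain ⟨s, hs⟩ := (Module.Finite.fg_top : (⊤ : Submodule (𝓞 K) (𝓞 L)).FG)
  obtain ⟨C, hC⟩ := exists_le_exp_of_finite
    (fun i : s × J => W.valuation K (β.repr ((i.1 : 𝓞 L) : L) i.2))
  refine ⟨C, fun z => ?_⟩
  have hz : z ∈ Submodule.span (𝓞 K) (s : Set (𝓞 L)) := hs ▸ Submodule.mem_top
  induction hz using Submodule.span_induction with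
  | mem x hx => exact fun j => hC (⟨x, hx⟩, j)
  | zero =>
    intro j
    have : ((0 : 𝓞 L) : L) = 0 := map_zero _
    rw [this, map_zero, Finsupp.zero_apply, map_zero]
    exact zero_le
  | add x y _ _ hx hy =>
    intro j
    have : ((x + y : 𝓞 L) : L) = (x : L) + (y : L) := map_add _ _ _
    rw [this, map_add, Finsupp.add_apply]
    exact (Valuation.map_add _ _ _).trans (max_le (hx j) (hy j))
  | smul a x _ hx =>
    intro j
    have : ((a • x : 𝓞 L) : L) = (a : K) • (x : L) := by
      rw [Algebra.smul_def, Algebra.smul_def]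
      exact map_mul (algebraMap (𝓞 L) L) (algebraMap (𝓞 K) (𝓞 L) a) x
    rw [this, map_smul, Finsupp.smul_apply, smul_eq_mul, map_mul]
    calc _ ≤ 1 * WithZero.exp (C : ℤ) := mul_le_mul' (W.valuation_le_one a) (hx j)
      _ = _ := one_mul _

theorem repr_le_of_mem (W : HeightOneSpectrum (𝓞 K)) {J : Type*} [Finite J]
    (β : Module.Basis J K L) (C : ℕ)
    (hC : ∀ (z : 𝓞 L) (j : J), W.valuation K (β.repr (z : L) j) ≤ WithZero.exp (C : ℤ)) (M : ℕ)
    (z : 𝓞 L) (hz : z ∈ (W.asIdeal ^ M).map (algebraMap (𝓞 K) (𝓞 L))) (j : J) :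
    W.valuation K (β.repr (z : L) j) ≤ WithZero.exp ((C : ℤ) - M) := by
  have key : ∀ (z' : 𝓞 L) (j : J), W.valuation K (β.repr ((z' * z : 𝓞 L) : L) j) ≤
      WithZero.exp ((C : ℤ) - M) := by
    rw [Ideal.map] at hz
    induction hz using Submodule.span_induction with
    | mem x hx =>
      obtain ⟨α, hα, rfl⟩ := hx
      intro z' j
      have h1 : ((z' * algebraMap (𝓞 K) (𝓞 L) α : 𝓞 L) : L) = (α : K) • (z' : L) := by
        rw [Algebra.smul_def, mul_comm z']
        exact map_mul (algebraMap (𝓞 L) L) (algebraMap (𝓞 K) (𝓞 L) α) z'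
      rw [h1, map_smul, Finsupp.smul_apply, smul_eq_mul, map_mul, sub_eq_neg_add, WithZero.exp_add]
      refine mul_le_mul' ?_ (hC z' j)
      have h2 : W.valuation K (α : K) = W.intValuation α := W.valuation_of_algebraMap α
      rw [h2]
      exact (W.intValuation_le_pow_iff_mem α M).2 hα
    | zero =>
      intro z' j
      have : ((z' * 0 : 𝓞 L) : L) = 0 := by rw [mul_zero]; exact map_zero _
      rw [this, map_zero, Finsupp.zero_apply, map_zero]
      exact zero_le
    | add x y _ _ hx hy =>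
      intro z' j
      have : ((z' * (x + y) : 𝓞 L) : L) = ((z' * x : 𝓞 L) : L) + ((z' * y : 𝓞 L) : L) := by
        rw [mul_add]; exact map_add _ _ _
      rw [this, map_add, Finsupp.add_apply]
      exact (Valuation.map_add _ _ _).trans (max_le (hx z' j) (hy z' j))
    | smul a x _ hx =>
      intro z' j
      rw [smul_eq_mul, ← mul_assoc]
      exact hx _ j
  have h := key 1 j
  rwa [one_mul] at h

/-- the norm is continuous -/
theorem norm_continuous (W : HeightOneSpectrum (𝓞 K)) {J : Type*} [Finite J]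
    (β : Module.Basis J K L) (y : L) (m : ℕ) :
    ∃ δ : ℕ, ∀ y' : L, (∀ j, W.valuation K (β.repr (y' - y) j) ≤ WithZero.exp (-(δ : ℤ))) →
      W.valuation K (Algebra.norm K y' - Algebra.norm K y) ≤ WithZero.exp (-(m : ℤ)) := by
  classical
  have := Fintype.ofFinite J
  let F : (J → W.adicCompletion K) → W.adicCompletion K := fun x =>
    (∑ j, x j • (Algebra.leftMulMatrix β (β j)).map (algebraMap K (W.adicCompletion K))).det
  have hF : Continuous F := by
    refine Continuous.matrix_det (continuous_finsetSum _ fun j _ => ?_)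
    exact (continuous_apply j).smul continuous_const
  have hFy : ∀ y : L, F (fun j => algebraMap K _ (β.repr y j)) =
      algebraMap K (W.adicCompletion K) (Algebra.norm K y) := by
    intro y
    rw [Algebra.norm_eq_matrix_det β, RingHom.map_det]
    simp only [F]
    congr 1
    have h1 : Algebra.leftMulMatrix β y = ∑ j, β.repr y j • Algebra.leftMulMatrix β (β j) := by
      conv_lhs => rw [← β.sum_repr y]
      rw [map_sum]
      simp only [map_smul]
    rw [h1]
    ext i i'
    simp only [Matrix.sum_apply, Matrix.smul_apply, Matrix.map_apply, smul_eq_mul,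
      RingHom.mapMatrix_apply, map_sum, map_mul]
  have hU : IsOpen {x : J → W.adicCompletion K | Valued.v (F x - F (fun j => algebraMap K _ (β.repr y j))) ≤
      WithZero.exp (-(m : ℤ))} :=
    (isOpen_closedBall W (F (fun j => algebraMap K _ (β.repr y j))) WithZero.exp_ne_zero).preimage hF
  obtain ⟨u, hu, huU⟩ := isOpen_pi_iff'.1 hU (fun j => algebraMap K _ (β.repr y j)) (by simp)
  have h1 : ∀ j, ∃ n : ℕ, ∀ x : W.adicCompletion K, Valued.v (x - algebraMap K _ (β.repr y j)) ≤
      WithZero.exp (-(n : ℤ)) → x ∈ u j := fun j => exists_ball_subset W (hu j).1 (hu j).2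
  choose n hn using h1
  refine ⟨Finset.univ.sup n, fun y' hy' => ?_⟩
  have h2 : (fun j => algebraMap K (W.adicCompletion K) (β.repr y' j)) ∈ Set.univ.pi u := by
    intro j _
    apply hn
    rw [← map_sub, valued_algebraMap, ← Finsupp.sub_apply, ← map_sub]
    refine (hy' j).trans ?_
    rw [WithZero.exp_le_exp]
    have : n j ≤ Finset.univ.sup n := Finset.le_sup (Finset.mem_univ j)
    omega
  have h3 := huU h2
  change Valued.v (F _ - F _) ≤ _ at h3
  rwa [hFy, hFy, ← map_sub, valued_algebraMap] at h3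

open Classical in
/-- units at finitely many places, having unramified places above them, are close to norms -/
theorem exists_norm_close (T : Finset (HeightOneSpectrum (𝓞 K)))
    (hT : ∀ W ∈ T, ∃ Q : Ideal (𝓞 L), Q.IsPrime ∧ Q.LiesOver W.asIdeal ∧
      Q.ramificationIdx (𝓞 K) = 1)
    (u : K) (hu : ∀ W ∈ T, W.valuation K u = 1) (m : ℕ) :
    ∃ y : 𝓞 L, ∀ W ∈ T, W.valuation K (Algebra.norm K (y : L) - u) ≤ WithZero.exp (-(m : ℤ)) := by
  let β := Module.finBasis K L
  -- solution at each place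
  have h1 : ∀ W ∈ T, ∃ y : 𝓞 L,
      W.valuation K (Algebra.norm K (y : L) - u) ≤ WithZero.exp (-(m : ℤ)) := by
    intro W hW
    obtain ⟨Q, hQ, hQW, he⟩ := hT W hW
    have hu' := hu W hW
    obtain ⟨u₀, hu₀⟩ := W.exists_valuation_sub_lt_of_integer (x := u) hu'.le
      (Units.mk0 (WithZero.exp (-(m : ℤ))) WithZero.exp_ne_zero)
    have hu₀' : W.valuation K ((u₀ : K) - u) < WithZero.exp (-(m : ℤ)) := hu₀
    have hle : WithZero.exp (-(m : ℤ)) ≤ (1 : WithZero (Multiplicative ℤ)) := by
      rw [← WithZero.exp_zero, WithZero.exp_le_exp]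
      omega
    have hu₁ : W.valuation K (u₀ : K) = 1 := by
      have h2 : (u₀ : K) = u + ((u₀ : K) - u) := by ring
      rw [h2, Valuation.map_add_eq_of_lt_left, hu']
      rw [hu']
      exact hu₀'.trans_le hle
    have hu₂ : u₀ ∉ W.asIdeal := by
      rwa [← HeightOneSpectrum.valuation_eq_one_iff_notMem (K := K)]
    obtain ⟨y, hy⟩ := exists_norm_sub_mem W.asIdeal W.ne_bot Q he u₀ hu₂ m
    refine ⟨y, ?_⟩
    have h3 : Algebra.norm K (y : L) = ((Algebra.intNorm (𝓞 K) (𝓞 L) y : 𝓞 K) : K) :=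
      (Algebra.algebraMap_intNorm (A := 𝓞 K) (K := K) (L := L) (B := 𝓞 L) y).symm
    have h4 : Algebra.norm K (y : L) - u = ((Algebra.intNorm (𝓞 K) (𝓞 L) y - u₀ : 𝓞 K) : K) +
        ((u₀ : K) - u) := by
      rw [h3]
      have : ((Algebra.intNorm (𝓞 K) (𝓞 L) y - u₀ : 𝓞 K) : K) =
        ((Algebra.intNorm (𝓞 K) (𝓞 L) y : 𝓞 K) : K) - (u₀ : K) := map_sub _ _ _
      rw [this]
      ring
    rw [h4]
    refine (Valuation.map_add _ _ _).trans (max_le ?_ hu₀'.le)
    have h5 : W.valuation K ((Algebra.intNorm (𝓞 K) (𝓞 L) y - u₀ : 𝓞 K) : K) =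
      W.intValuation (Algebra.intNorm (𝓞 K) (𝓞 L) y - u₀) := W.valuation_of_algebraMap _
    rw [h5]
    refine ((W.intValuation_le_pow_iff_mem _ (m + 1)).2 hy).trans ?_
    rw [WithZero.exp_le_exp]
    push_cast
    omega
  choose! y hy using h1
  choose C hC using fun W : HeightOneSpectrum (𝓞 K) => exists_bound W β
  choose δ hδ using fun W : HeightOneSpectrum (𝓞 K) => norm_continuous W β ((y W : 𝓞 L) : L) m
  obtain ⟨y₀, hy₀⟩ := Ideal.exists_forall_sub_mem_ideal (ι := T)
    (I := fun W => (W.1.asIdeal ^ (C W.1 + δ W.1)).map (algebraMap (𝓞 K) (𝓞 L))) (by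
      intro W W' hWW'
      have h2 : IsCoprime W.1.asIdeal W'.1.asIdeal := by
        rw [Ideal.isCoprime_iff_sup_eq]
        have hne : W.1.asIdeal ≠ W'.1.asIdeal := fun h => hWW' (Subtype.ext (HeightOneSpectrum.ext h))
        exact Ideal.IsMaximal.coprime_of_ne W.1.isMaximal W'.1.isMaximal hne
      have h3 := (h2.pow (m := C W.1 + δ W.1) (n := C W'.1 + δ W'.1)).map
        (Ideal.mapHom (algebraMap (𝓞 K) (𝓞 L)))
      exact h3) (fun W => y W.1)
  refine ⟨y₀, fun W hW => ?_⟩
  have h2 : W.valuation K (Algebra.norm K (y₀ : L) - Algebra.norm K ((y W : 𝓞 L) : L)) ≤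
      WithZero.exp (-(m : ℤ)) := by
    apply hδ
    intro j
    have h3 := repr_le_of_mem W β (C W) (hC W) _ _ (hy₀ ⟨W, hW⟩) j
    have h4 : ((y₀ - y W : 𝓞 L) : L) = (y₀ : L) - ((y W : 𝓞 L) : L) := map_sub _ _ _
    rw [h4] at h3
    refine h3.trans ?_
    rw [WithZero.exp_le_exp]
    push_cast
    omega
  have h3 : Algebra.norm K (y₀ : L) - u =
    (Algebra.norm K (y₀ : L) - Algebra.norm K ((y W : 𝓞 L) : L)) +
      (Algebra.norm K ((y W : 𝓞 L) : L) - u) := by ring
  rw [h3]
  exact (Valuation.map_add _ _ _).trans (max_le h2 (hy W hW))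

end K986.NormClose
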