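import Groth.Agent.NumberField.K986.TNorm
import Groth.Agent.NumberField.K986.Coord
import Mathlib.LinearAlgebra.Trace
import Mathlib.LinearAlgebra.FiniteDimensional.Lemmas

/-!
# Coordinates of norms for extensions of degree at most two
-/

set_option autoImplicit false
universe u
open NumberField IsDedekindDomain
open scoped TensorProduct

namespace K986.Pack

open TNorm Coord NormClose StrongApprox Polynomial

section Tensor

variable {k K E : Type*} [Field k] [Field K] [Algebra k K] [CommRing E] [Algebra k E]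

theorem repr_tensor {I : Type*} [Fintype I] [DecidableEq I] (e : Module.Basis I k K) (f : I → E)
    (i : I) : (Algebra.TensorProduct.basis E e).repr (∑ j, f j ⊗ₜ[k] e j) i = f i := by
  have : ∑ j, f j ⊗ₜ[k] e j = ∑ j, f j • Algebra.TensorProduct.basis E e j := by
    refine Finset.sum_congr rfl fun j _ => ?_
    rw [Algebra.TensorProduct.basis_apply, TensorProduct.smul_tmul', smul_eq_mul, mul_one]
  rw [this, Module.Basis.repr_sum_self]

theorem one_tmul_injective (K : Type*) [Field K] [Algebra k K] {x y : K}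
    (h : (1 : k) ⊗ₜ[k] x = (1 : k) ⊗ₜ[k] y) : x = y := by
  have h1 := congrArg (TensorProduct.lid k K) h
  rwa [TensorProduct.lid_tmul, TensorProduct.lid_tmul, one_smul, one_smul] at h1

/-- norms of global elements -/
theorem norm_eq_of_poly {L : Type*} [Field L] [Algebra K L] [Algebra k L] [IsScalarTower k K L]
    [FiniteDimensional K L] {I J : Type*} [Fintype I] [Fintype J] (e : I → K) (c : J → L)
    (P : I → MvPolynomial J k)
    (hP : ∀ (x : J → k), tnorm k k K L (∑ j, x j ⊗ₜ[k] c j) =
      ∑ i, (MvPolynomial.aeval x (P i)) ⊗ₜ[k] e i) (x : J → k) :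
    Algebra.norm K (∑ j, x j • c j) = ∑ i, (MvPolynomial.aeval x (P i)) • e i := by
  apply one_tmul_injective (k := k) K
  have h1 := hP x
  have h2 : ∑ j, x j ⊗ₜ[k] c j = (1 : k) ⊗ₜ[k] ∑ j, x j • c j := by
    rw [TensorProduct.tmul_sum]
    refine Finset.sum_congr rfl fun j _ => ?_
    rw [← TensorProduct.smul_tmul, smul_eq_mul, mul_one]
  rw [h2, tnorm_one_tmul] at h1
  rw [h1, TensorProduct.tmul_sum]
  refine Finset.sum_congr rfl fun j _ => ?_
  rw [← TensorProduct.smul_tmul, smul_eq_mul, mul_one]

end Tensor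

section RankOne

variable {k K : Type*} [Field k] [Field K] [Algebra k K]

theorem exists_basis_one (h : Module.finrank k K = 1) (b : K) (hb : b ≠ 0) :
    ∃ e : Module.Basis Unit k K, e () = b := by
  have hli : LinearIndependent k (fun _ : Unit => b) := LinearIndependent.of_subsingleton () hb
  refine ⟨basisOfLinearIndependentOfCardEqFinrank hli (by simp [h]), ?_⟩
  rw [coe_basisOfLinearIndependentOfCardEqFinrank]

/-- the package for degree one -/
theorem rank_one {k : Type u} [Field k] [NumberField k] {K L : Type*} [Field K] [NumberField K]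
    [Field L] [NumberField L] [Algebra k K] [Algebra K L] [Algebra k L] [IsScalarTower k K L]
    (h : Module.finrank k K = 1) (b : K) (hb : b ≠ 0) {J : Type*} [Fintype J] (c : J → L) :
    ∃ R : MvPolynomial J k,
      (∀ {E : Type u} [CommRing E] [Algebra k E] (y : J → E),
        tnorm k E K L (∑ j, y j ⊗ₜ[k] c j) = (MvPolynomial.aeval y R) ⊗ₜ[k] b) ∧
      ∀ v : HeightOneSpectrum (𝓞 k),
        (∀ W : HeightOneSpectrum (𝓞 K), W.asIdeal.LiesOver v.asIdeal → W.valuation K b = 1) →
        (∀ W : HeightOneSpectrum (𝓞 K), W.asIdeal.LiesOver v.asIdeal →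
          ∃ Q : Ideal (𝓞 L), Q.IsPrime ∧ Q.LiesOver W.asIdeal ∧ Q.ramificationIdx (𝓞 K) = 1) →
        ∀ M : ℕ, ∃ y : 𝓞 L, (∀ W : HeightOneSpectrum (𝓞 K), W.asIdeal.LiesOver v.asIdeal →
          W.valuation K (Algebra.norm K (y : L)) = 1) ∧
          ∀ P : J → k, ∑ j, P j • c j = (y : L) →
            v.valuation k (MvPolynomial.aeval P R - 1) ≤ WithZero.exp (-(M : ℤ)) := by
  obtain ⟨e, he⟩ := exists_basis_one h b hb
  obtain ⟨P, hP⟩ := exists_poly (K := K) e c
  refine ⟨P (), ?_, ?_⟩
  · intro E _ _ y
    rw [hP y, Finset.univ_unique, Finset.sum_singleton]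
    have : e default = b := he
    rw [this]
  · intro v hbv hunr M
    obtain ⟨m, hm⟩ := coord_small v e M
    obtain ⟨y, hy⟩ := exists_norm_close (K := K) (L := L) (finite_over v).toFinset
      (fun W hW => hunr W (by simpa using hW)) b (fun W hW => hbv W (by simpa using hW)) (m + 1)
    refine ⟨y, fun W hW => ?_, fun x hx => ?_⟩
    · have h1 := hy W (by simpa using hW)
      have e1 : Algebra.norm K (y : L) = b + (Algebra.norm K (y : L) - b) := by ring
      rw [e1, Valuation.map_add_eq_of_lt_left, hbv W hW]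
      rw [hbv W hW]
      refine h1.trans_lt ?_
      rw [← WithZero.exp_zero, WithZero.exp_lt_exp]
      push_cast
      omega
    · have h1 := norm_eq_of_poly (fun i => e i) c P (fun x => hP x) x
      rw [hx, Finset.univ_unique, Finset.sum_singleton] at h1
      have h2 : Algebra.norm K (y : L) - b = (MvPolynomial.aeval x (P ()) - 1) • e () := by
        rw [h1, sub_smul, one_smul, he]
      have h3 := hm (Algebra.norm K (y : L) - b) (fun W hW => by
        refine (hy W (by simpa using hW)).trans ?_
        rw [WithZero.exp_le_exp]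
        push_cast
        omega) ()
      have h4 : ∀ r : k, e.repr (r • e ()) () = r := by
        intro r
        rw [LinearEquiv.map_smul, Finsupp.smul_apply, Module.Basis.repr_self,
          Finsupp.single_eq_same, smul_eq_mul, mul_one]
      rw [h2, h4] at h3
      exact h3

end RankOne

section RankTwo

variable {k K : Type*} [Field k] [Field K] [Algebra k K]

theorem exists_basis_two (h : Module.finrank k K = 2) (a : K)
    (ha : IntermediateField.adjoin k {a} = ⊤) (b : K) (hb : b ≠ 0) :
    ∃ e : Module.Basis (Fin 2) k K, e 0 = b ∧ e 1 = -(b * a) := by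
  have ha' : ∀ x : k, algebraMap k K x ≠ a := by
    rintro x rfl
    have h1 : IntermediateField.adjoin k {algebraMap k K x} = ⊥ := by
      rw [IntermediateField.adjoin_simple_eq_bot_iff]
      exact IntermediateField.algebraMap_mem _ x
    rw [h1, IntermediateField.bot_eq_top_iff_finrank_eq_one, h] at ha
    omega
  have hli : LinearIndependent k ![b, -(b * a)] := by
    rw [LinearIndependent.pair_iff]
    intro s t hst
    have h1 : b * (algebraMap k K s - algebraMap k K t * a) = 0 := by
      rw [← hst, Algebra.smul_def, Algebra.smul_def]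
      ring
    have h2 := (mul_eq_zero.1 h1).resolve_left hb
    have ht : t = 0 := by
      by_contra ht
      apply ha' (s / t)
      have ht' : algebraMap k K t ≠ 0 := by simpa using ht
      rw [map_div₀, div_eq_iff ht']
      linear_combination h2
    rw [ht, map_zero, zero_mul, sub_zero] at h2
    exact ⟨by simpa using h2, ht⟩
  refine ⟨basisOfLinearIndependentOfCardEqFinrank hli (by simp [h]), ?_, ?_⟩
  · rw [coe_basisOfLinearIndependentOfCardEqFinrank]
    rfl
  · rw [coe_basisOfLinearIndependentOfCardEqFinrank]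
    rfl

/-- powers of `a + m` do not all lie in a line -/
theorem exists_pow_coord_ne_zero [CharZero k] (h : Module.finrank k K = 2) (a : K)
    (ha : IntermediateField.adjoin k {a} = ⊤) (φ : K →ₗ[k] k) (hφ : φ ≠ 0) (d : ℕ) (hd : 0 < d) :
    ∃ m : k, φ ((a + algebraMap k K m) ^ d) ≠ 0 := by
  by_contra hcon
  push Not at hcon
  apply hφ
  let F : k[X] := ∑ j ∈ Finset.range (d + 1), C (φ (((X + C a) ^ d).coeff j)) * X ^ j
  have hF : F = 0 := by
    apply Polynomial.funext
    intro m
    rw [eval_zero, ← hcon m]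
    have h1 : (a + algebraMap k K m) ^ d = ((X + C a) ^ d : K[X]).eval (algebraMap k K m) := by
      rw [eval_pow, eval_add, eval_X, eval_C, add_comm]
    rw [h1, Polynomial.eval_eq_sum_range (p := (X + C a) ^ d), natDegree_pow, natDegree_X_add_C,
      mul_one, map_sum, eval_finsetSum]
    refine Finset.sum_congr rfl fun j _ => ?_
    rw [eval_mul, eval_C, eval_pow, eval_X, ← map_pow, mul_comm (coeff _ _), ← Algebra.smul_def,
      map_smul, smul_eq_mul, mul_comm]
  have hFc : ∀ j, j ≤ d → φ (((X + C a) ^ d).coeff j) = 0 := by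
    intro j hj
    have h1 : F.coeff j = φ (((X + C a) ^ d).coeff j) := by
      simp only [F, finsetSum_coeff, coeff_C_mul, coeff_X_pow]
      rw [Finset.sum_eq_single j]
      · simp
      · intro b _ hb
        simp [Ne.symm hb]
      · intro hj'
        exact absurd (Finset.mem_range.2 (by omega)) hj'
    rw [← h1, hF, coeff_zero]
  have h1 : φ 1 = 0 := by
    have := hFc d le_rfl
    rw [coeff_X_add_C_pow] at this
    simpa using this
  have h2 : φ a = 0 := by
    have := hFc (d - 1) (Nat.sub_le _ _)
    rw [coeff_X_add_C_pow] at this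
    have e1 : d - (d - 1) = 1 := by omega
    have e2 : (d.choose (d - 1) : K) = algebraMap k K (d : k) := by
      obtain ⟨d', rfl⟩ : ∃ d', d = d' + 1 := ⟨d - 1, by omega⟩
      simp
    rw [e1, e2, pow_one, mul_comm, ← Algebra.smul_def, map_smul, smul_eq_mul, mul_eq_zero] at this
    exact this.resolve_left (by exact_mod_cast hd.ne')
  obtain ⟨e, he0, he1⟩ := exists_basis_two h a ha 1 one_ne_zero
  apply e.ext
  intro i
  fin_cases i
  · change φ (e 0) = 0
    rw [he0, h1]
  · change φ (e 1) = 0
    rw [he1, one_mul, map_neg, h2, neg_zero]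

/-- the package for degree two -/
theorem rank_two {k : Type u} [Field k] [NumberField k] {K L : Type*} [Field K] [NumberField K]
    [Field L] [NumberField L] [Algebra k K] [Algebra K L] [Algebra k L] [IsScalarTower k K L]
    (h : Module.finrank k K = 2) (a : K) (ha : IntermediateField.adjoin k {a} = ⊤)
    (b : K) (hb : b ≠ 0) {J : Type*} [Fintype J] (c : J → L) :
    ∃ Λ M : MvPolynomial J k,
      (∀ {E : Type u} [CommRing E] [Algebra k E] (y : J → E),
        tnorm k E K L (∑ j, y j ⊗ₜ[k] c j) = (1 : E) ⊗ₜ[k] b *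
          ((MvPolynomial.aeval y Λ) ⊗ₜ[k] (1 : K) - (MvPolynomial.aeval y M) ⊗ₜ[k] a)) ∧
      (∀ {E : Type u} [CommRing E] [Algebra k E] (s t s' t' : E),
        (1 : E) ⊗ₜ[k] b * (s ⊗ₜ[k] (1 : K) - t ⊗ₜ[k] a) =
          (1 : E) ⊗ₜ[k] b * (s' ⊗ₜ[k] (1 : K) - t' ⊗ₜ[k] a) → s = s' ∧ t = t') ∧
      (∀ v : HeightOneSpectrum (𝓞 k),
        (∀ W : HeightOneSpectrum (𝓞 K), W.asIdeal.LiesOver v.asIdeal → W.valuation K b = 1) →
        (∀ W : HeightOneSpectrum (𝓞 K), W.asIdeal.LiesOver v.asIdeal →
          ∃ Q : Ideal (𝓞 L), Q.IsPrime ∧ Q.LiesOver W.asIdeal ∧ Q.ramificationIdx (𝓞 K) = 1) →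
        ∃ y : 𝓞 L, (∀ W : HeightOneSpectrum (𝓞 K), W.asIdeal.LiesOver v.asIdeal →
          W.valuation K (Algebra.norm K (y : L)) = 1) ∧
          ∀ P : J → k, ∑ j, P j • c j = (y : L) →
            v.valuation k (MvPolynomial.aeval P M) ≤ 1) ∧
      ∃ z : K, z ≠ 0 ∧ ∀ P : J → k, ∑ j, P j • c j = algebraMap K L z →
        MvPolynomial.aeval P M ≠ 0 := by
  obtain ⟨e, he0, he1⟩ := exists_basis_two h a ha b hb
  obtain ⟨P, hP⟩ := exists_poly (K := K) e c
  have hexp : ∀ {E : Type u} [CommRing E] [Algebra k E] (s t : E),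
      (1 : E) ⊗ₜ[k] b * (s ⊗ₜ[k] (1 : K) - t ⊗ₜ[k] a) = ∑ i, (![s, t] i) ⊗ₜ[k] e i := by
    intro E _ _ s t
    rw [Fin.sum_univ_two, he0, he1, mul_sub, Algebra.TensorProduct.tmul_mul_tmul,
      Algebra.TensorProduct.tmul_mul_tmul, one_mul, one_mul, mul_one, TensorProduct.tmul_neg,
      sub_eq_add_neg]
    rfl
  have hnorm : ∀ x : J → k, ∀ i, e.repr (Algebra.norm K (∑ j, x j • c j)) i =
      MvPolynomial.aeval x (P i) := by
    intro x i
    rw [norm_eq_of_poly (fun i => e i) c P (fun x => hP x) x, Module.Basis.repr_sum_self]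
  refine ⟨P 0, P 1, ?_, ?_, ?_, ?_⟩
  · intro E _ _ y
    rw [hP y, hexp]
    refine Finset.sum_congr rfl fun i _ => ?_
    fin_cases i <;> rfl
  · intro E _ _ s t s' t' hst
    rw [hexp, hexp] at hst
    have h1 : ∀ i, (![s, t] : Fin 2 → E) i = (![s', t'] : Fin 2 → E) i := by
      intro i
      have h2 := congrArg (fun z => (Algebra.TensorProduct.basis E e).repr z i) hst
      simp only [repr_tensor] at h2
      exact h2
    exact ⟨h1 0, h1 1⟩
  · intro v hbv hunr
    obtain ⟨m, hm⟩ := coord_small v e 0
    obtain ⟨y, hy⟩ := exists_norm_close (K := K) (L := L) (finite_over v).toFinset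
      (fun W hW => hunr W (by simpa using hW)) b (fun W hW => hbv W (by simpa using hW)) (m + 1)
    refine ⟨y, fun W hW => ?_, fun x hx => ?_⟩
    · have h1 := hy W (by simpa using hW)
      have e1 : Algebra.norm K (y : L) = b + (Algebra.norm K (y : L) - b) := by ring
      rw [e1, Valuation.map_add_eq_of_lt_left, hbv W hW]
      rw [hbv W hW]
      refine h1.trans_lt ?_
      rw [← WithZero.exp_zero, WithZero.exp_lt_exp]
      push_cast
      omega
    · have h3 := hm (Algebra.norm K (y : L) - b) (fun W hW => by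
        refine (hy W (by simpa using hW)).trans ?_
        rw [WithZero.exp_le_exp]
        push_cast
        omega) 1
      have h4 : e.repr (Algebra.norm K (y : L) - b) 1 = MvPolynomial.aeval x (P 1) := by
        rw [← hx, map_sub, Finsupp.sub_apply, hnorm, ← he0, Module.Basis.repr_self,
          Finsupp.single_eq_of_ne (by decide), sub_zero]
      rw [h4] at h3
      simpa using h3
  · let φ : K →ₗ[k] k := e.coord 1
    have hφ : φ ≠ 0 := by
      intro h0
      have h1 : φ (e 1) = 1 := by simp [φ]
      rw [h0, LinearMap.zero_apply] at h1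
      exact zero_ne_one h1
    obtain ⟨m, hm⟩ := exists_pow_coord_ne_zero h a ha φ hφ (Module.finrank K L) Module.finrank_pos
    refine ⟨a + algebraMap k K m, ?_, fun x hx => ?_⟩
    · intro h0
      apply hm
      rw [h0, zero_pow Module.finrank_pos.ne', map_zero]
    · have h1 := hnorm x 1
      rw [hx, Algebra.norm_algebraMap] at h1
      rw [← h1]
      exact hm

end RankTwo

end K986.Pack
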