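import Groth.Agent.NumberField.K986.StrongApprox
import Mathlib.Algebra.MvPolynomial.Funext
import Mathlib.Topology.Algebra.MvPolynomial

/-!
# Values of polynomials with integral coefficients at valuations
-/

set_option autoImplicit false
universe u
open NumberField IsDedekindDomain

namespace K986.PolyVal

section

variable {σ A K Γ : Type*} [CommRing A] [Field K] [Algebra A K] [LinearOrderedCommGroupWithZero Γ]
  (v : Valuation K Γ) (hA : ∀ a : A, v (algebraMap A K a) ≤ 1)
include hA

theorem aeval_le_one (f : MvPolynomial σ A) (x : σ → K) (hx : ∀ i, v (x i) ≤ 1) :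
    v (MvPolynomial.aeval x f) ≤ 1 := by
  induction f using MvPolynomial.induction_on with
  | C a => rw [MvPolynomial.algHom_C]; exact hA a
  | add p q hp hq => rw [map_add]; exact (v.map_add _ _).trans (max_le hp hq)
  | mul_X p i hp =>
    rw [map_mul, MvPolynomial.aeval_X, map_mul]
    exact mul_le_one' hp (hx i)

theorem aeval_sub_lt_one (f : MvPolynomial σ A) (x y : σ → K) (hx : ∀ i, v (x i) ≤ 1)
    (hy : ∀ i, v (y i) ≤ 1) (hxy : ∀ i, v (x i - y i) < 1) :
    v (MvPolynomial.aeval x f - MvPolynomial.aeval y f) < 1 := by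
  induction f using MvPolynomial.induction_on with
  | C a => rw [MvPolynomial.algHom_C, MvPolynomial.algHom_C, sub_self, map_zero]; exact zero_lt_one
  | add p q hp hq =>
    rw [map_add, map_add, add_sub_add_comm]
    exact (v.map_add _ _).trans_lt (max_lt hp hq)
  | mul_X p i hp =>
    rw [map_mul, MvPolynomial.aeval_X, map_mul, MvPolynomial.aeval_X]
    have e : MvPolynomial.aeval x p * x i - MvPolynomial.aeval y p * y i =
      (MvPolynomial.aeval x p - MvPolynomial.aeval y p) * x i +
        MvPolynomial.aeval y p * (x i - y i) := by ring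
    rw [e]
    refine (v.map_add _ _).trans_lt (max_lt ?_ ?_)
    · rw [map_mul]
      exact mul_lt_one_of_nonneg_of_lt_one_left zero_le hp (hx i)
    · rw [map_mul]
      exact mul_lt_one_of_nonneg_of_lt_one_right (aeval_le_one v hA p y hy) zero_le (hxy i)

theorem aeval_eq_one_of_near (f : MvPolynomial σ A) (x y : σ → K) (hx : ∀ i, v (x i) ≤ 1)
    (hy : ∀ i, v (y i) ≤ 1) (hxy : ∀ i, v (x i - y i) < 1)
    (h : v (MvPolynomial.aeval y f) = 1) : v (MvPolynomial.aeval x f) = 1 := by
  have h1 := aeval_sub_lt_one v hA f x y hx hy hxy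
  have e : MvPolynomial.aeval x f =
      MvPolynomial.aeval y f + (MvPolynomial.aeval x f - MvPolynomial.aeval y f) := by ring
  rw [e, Valuation.map_add_eq_of_lt_left v (by rw [h]; exact h1), h]

end

theorem continuous_aeval {σ k K : Type*} [Field k] [CommRing K] [Algebra k K]
    [TopologicalSpace K] [IsTopologicalRing K] (f : MvPolynomial σ k) :
    Continuous fun x : σ → K => MvPolynomial.aeval x f := by
  have h := MvPolynomial.continuous_eval (X := K) (MvPolynomial.map (algebraMap k K) f)
  convert h using 2 with x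
  rw [MvPolynomial.eval_map, MvPolynomial.aeval_def]

/-- a nonzero polynomial does not vanish at some point of a given congruence class -/
theorem exists_eval_ne_zero {k : Type u} [Field k] [NumberField k] (n : ℕ)
    (h : MvPolynomial (Fin n) k) (h0 : h ≠ 0) (B : Finset (HeightOneSpectrum (𝓞 k)))
    (d : HeightOneSpectrum (𝓞 k) → Fin n → k) (hd : ∀ v ∈ B, ∀ i, v.valuation k (d v i) ≤ 1) :
    ∃ x : Fin n → 𝓞 k, (∀ v ∈ B, ∀ i, v.valuation k ((x i : k) - d v i) < 1) ∧
      MvPolynomial.aeval (fun i => (x i : k)) h ≠ 0 := by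
  classical
  have h1 : ∀ i : Fin n, ∃ y : k, (∀ v ∈ B, v.valuation k (y - d v i) ≤
      WithZero.exp (-((1 : ℕ) : ℤ))) ∧ ∀ v ∉ B, v.valuation k y ≤ 1 := fun i =>
    StrongApprox.crt B (fun v => d v i) 1
  choose y hy1 hy2 using h1
  have hlt : WithZero.exp (-((1 : ℕ) : ℤ)) < (1 : WithZero (Multiplicative ℤ)) := by
    rw [← WithZero.exp_zero, WithZero.exp_lt_exp]; norm_num
  have hy3 : ∀ i, ∃ z : 𝓞 k, (z : k) = y i := by
    intro i
    apply HeightOneSpectrum.mem_integers_of_valuation_le_one
    intro v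
    by_cases hv : v ∈ B
    · have e : y i = (y i - d v i) + d v i := by ring
      rw [e]
      exact ((v.valuation k).map_add _ _).trans (max_le ((hy1 i v hv).trans hlt.le) (hd v hv i))
    · exact hy2 i v hv
  choose z hz using hy3
  obtain ⟨c, hc, hc0⟩ : ∃ c ∈ ∏ v ∈ B, v.asIdeal, c ≠ 0 := by
    apply Submodule.exists_mem_ne_zero_of_ne_bot
    rw [← Ideal.zero_eq_bot, Finset.prod_ne_zero_iff]
    intro v _
    exact v.ne_bot
  have hc0' : (c : k) ≠ 0 := RingOfIntegers.coe_ne_zero_iff.2 hc0
  let s : Fin n → Set k := fun i => Set.range fun m : ℤ => ((z i + c * m : 𝓞 k) : k)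
  have hs : ∀ i, (s i).Infinite := by
    intro i
    apply Set.infinite_range_of_injective
    intro m m' hmm
    have h2 : (z i : k) + c * m = (z i : k) + c * m' := by simpa using hmm
    have h3 : (c : k) * (m : k) = c * m' := add_left_cancel h2
    have h4 := mul_left_cancel₀ hc0' h3
    exact_mod_cast h4
  by_contra hcon
  push Not at hcon
  apply h0
  refine MvPolynomial.funext_set s hs fun x hx => ?_
  rw [map_zero]
  have hx' : ∀ i, ∃ m : ℤ, ((z i + c * m : 𝓞 k) : k) = x i := fun i => hx i (Set.mem_univ i)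
  choose m hm using hx'
  have h5 := hcon (fun i => z i + c * m i) ?_
  · simp only [hm] at h5
    rwa [MvPolynomial.aeval_eq_eval] at h5
  · intro v hv i
    have e : ((z i + c * m i : 𝓞 k) : k) - d v i = (y i - d v i) + ((c * m i : 𝓞 k) : k) := by
      have : ((z i + c * m i : 𝓞 k) : k) = (z i : k) + ((c * m i : 𝓞 k) : k) := by simp
      rw [this, hz i]
      ring
    rw [e]
    refine ((v.valuation k).map_add _ _).trans_lt (max_lt ((hy1 i v hv).trans_lt hlt) ?_)
    rw [HeightOneSpectrum.valuation_lt_one_iff_mem]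
    exact Ideal.mul_mem_right _ _ (Ideal.dvd_iff_le.1 (Finset.dvd_prod_of_mem
      (fun v : HeightOneSpectrum (𝓞 k) => v.asIdeal) hv) hc)

end K986.PolyVal
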