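import Groth.Agent.NumberField.K986.QuadCoords

/-!
# Existence of coordinates, and of primitive elements with distinct minimal polynomials
-/

set_option autoImplicit false
universe u
open NumberField IsDedekindDomain
open scoped TensorProduct

namespace K986.QuadAll

open TNorm Coord NormClose StrongApprox Pack Fam QuadCoords Primitive Polynomial

variable (k : Type u) [Field k] [NumberField k] {n : ℕ}
    (kf : Fin n → Type u) [∀ i, Field (kf i)] [∀ i, NumberField (kf i)] [∀ i, Algebra k (kf i)]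
    (Lf : Fin n → Type u) [∀ i, Field (Lf i)] [∀ i, NumberField (Lf i)] [∀ i, Algebra (kf i) (Lf i)]
    [∀ i, Algebra k (Lf i)] [∀ i, IsScalarTower k (kf i) (Lf i)]

theorem exists_coords (hn : 1 ≤ n) (θ : (i : Fin n) → 𝓞 (Lf i)) (a b : (i : Fin n) → kf i)
    (hb : ∀ i, b i ≠ 0)
    (ha : ∀ i, IntermediateField.adjoin k {a i} = ⊤)
    (hdist : ∀ i j, i ≠ j → minpoly k (a i) ≠ minpoly k (a j))
    (hdeg : ∑ i, Module.finrank k (kf i) ≤ 2)
    (hθ : ∀ i, Algebra.adjoin k {((θ i : 𝓞 (Lf i)) : Lf i)} = ⊤)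
    (hθd : ∀ i j, i ≠ j → minpoly (𝓞 k) (θ i) ≠ minpoly (𝓞 k) (θ j))
    (N : ℕ) (hN : (G k θ).natDegree = N) :
    Nonempty (Coords k kf Lf θ a b N) := by
  have hpos : ∀ i, 0 < Module.finrank k (kf i) := fun i => Module.finrank_pos
  have hn2 : n ≤ 2 := by
    calc n = ∑ _i : Fin n, 1 := by simp
      _ ≤ ∑ i, Module.finrank k (kf i) := Finset.sum_le_sum fun i _ => hpos i
      _ ≤ 2 := hdeg
  obtain rfl | rfl : n = 1 ∨ n = 2 := by omega
  · rw [Fin.sum_univ_one] at hdeg
    have h0 := hpos 0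
    obtain h1 | h1 : Module.finrank k (kf 0) = 1 ∨ Module.finrank k (kf 0) = 2 := by omega
    · exact exists_coords_A k kf Lf θ a b hb hθ hθd N hN h1
    · exact exists_coords_B k kf Lf θ a b hb ha hθ hθd N hN h1
  · rw [Fin.sum_univ_two] at hdeg
    have h0 := hpos 0
    have h1 := hpos 1
    refine exists_coords_C k kf Lf θ a b hb hdist hθ hθd N hN ?_
    rw [Fin.forall_fin_two]
    omega

theorem exists_shift (L : Type*) [Field L] [NumberField L] [Algebra k L] (θ : 𝓞 L)
    (hθ : Algebra.adjoin k {(θ : L)} = ⊤) (F : Finset (𝓞 k)[X]) :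
    ∃ θ' : 𝓞 L, Algebra.adjoin k {(θ' : L)} = ⊤ ∧ minpoly (𝓞 k) θ' ∉ F := by
  classical
  have hfin : {m : ℕ | minpoly (𝓞 k) (θ + m) ∈ F}.Finite := by
    have hT : (⋃ f ∈ F, f.rootSet (𝓞 L)).Finite :=
      F.finite_toSet.biUnion fun f _ => f.rootSet_finite (𝓞 L)
    have hinj : Set.InjOn (fun m : ℕ => θ + (m : 𝓞 L)) Set.univ := by
      intro m _ m' _ h
      have h1 : (m : 𝓞 L) = (m' : 𝓞 L) := add_left_cancel h
      exact_mod_cast h1
    refine (hT.preimage (f := fun m : ℕ => θ + (m : 𝓞 L)) (hinj.mono (Set.subset_univ _))).subset ?_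
    intro m hm
    rw [Set.mem_preimage, Set.mem_iUnion₂]
    refine ⟨_, hm, ?_⟩
    rw [mem_rootSet]
    exact ⟨(minpoly_monic _).ne_zero, minpoly.aeval _ _⟩
  obtain ⟨m, hm⟩ := hfin.exists_notMem
  refine ⟨θ + m, ?_, hm⟩
  rw [eq_top_iff, ← hθ]
  refine Algebra.adjoin_singleton_le ?_
  have h1 : (θ : L) = ((θ + m : 𝓞 L) : L) - algebraMap k L (m : k) := by
    have h2 : ((θ + m : 𝓞 L) : L) = (θ : L) + (m : L) :=
      (map_add (algebraMap (𝓞 L) L) θ m).trans (by rw [map_natCast])
    rw [h2, map_natCast]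
    ring
  rw [h1]
  exact sub_mem (Algebra.subset_adjoin rfl) (Subalgebra.algebraMap_mem _ _)

/-- integral primitive elements with pairwise distinct minimal polynomials -/
theorem exists_theta {n : ℕ} (Lf : Fin n → Type u) [∀ i, Field (Lf i)] [∀ i, NumberField (Lf i)]
    [∀ i, Algebra k (Lf i)] : ∃ θ : (i : Fin n) → 𝓞 (Lf i),
    (∀ i, Algebra.adjoin k {((θ i : 𝓞 (Lf i)) : Lf i)} = ⊤) ∧
      ∀ i j, i ≠ j → minpoly (𝓞 k) (θ i) ≠ minpoly (𝓞 k) (θ j) := by
  classical
  have key : ∀ s : Finset (Fin n), ∃ θ : (i : Fin n) → 𝓞 (Lf i),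
      (∀ i, Algebra.adjoin k {((θ i : 𝓞 (Lf i)) : Lf i)} = ⊤) ∧
      ∀ i ∈ s, ∀ j ∈ s, i ≠ j → minpoly (𝓞 k) (θ i) ≠ minpoly (𝓞 k) (θ j) := by
    intro s
    induction s using Finset.induction_on with
    | empty =>
      choose θ hθ using fun i => exists_integral_primitive k (Lf i)
      exact ⟨θ, hθ, fun i hi => absurd hi (Finset.notMem_empty i)⟩
    | insert i₀ s hi₀ ih =>
      obtain ⟨θ, hθ, hθd⟩ := ih
      obtain ⟨θ', hθ', hθ'F⟩ := exists_shift k (Lf i₀) (θ i₀) (hθ i₀)
        (s.image fun j => minpoly (𝓞 k) (θ j))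
      refine ⟨Function.update θ i₀ θ', fun i => ?_, ?_⟩
      · by_cases h : i = i₀
        · subst h
          rw [Function.update_self]
          exact hθ'
        · rw [Function.update_of_ne h]
          exact hθ i
      · have h1 : ∀ j ∈ s, minpoly (𝓞 k) θ' ≠ minpoly (𝓞 k) (θ j) := by
          intro j hj h
          exact hθ'F (Finset.mem_image.2 ⟨j, hj, h.symm⟩)
        intro i hi j hj hij
        rw [Finset.mem_insert] at hi hj
        by_cases hii : i = i₀
        · subst hii
          have hj' := hj.resolve_left (Ne.symm hij)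
          rw [Function.update_self, Function.update_of_ne (Ne.symm hij)]
          exact h1 j hj'
        · have hi' := hi.resolve_left hii
          by_cases hjj : j = i₀
          · subst hjj
            rw [Function.update_self, Function.update_of_ne hij]
            exact (h1 i hi').symm
          · rw [Function.update_of_ne hii, Function.update_of_ne hjj]
            exact hθd i hi' j (hj.resolve_left hjj) hij
  obtain ⟨θ, hθ, hθd⟩ := key Finset.univ
  exact ⟨θ, hθ, fun i j => hθd i (Finset.mem_univ i) j (Finset.mem_univ j)⟩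

end K986.QuadAll
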