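import Groth.Agent.NumberField.K986.Pack
import Groth.Agent.NumberField.K986.Fam

/-!
# Coordinates on the family of norms when the sum of degrees is at most two
-/

set_option autoImplicit false
universe u
open NumberField IsDedekindDomain
open scoped TensorProduct

namespace K986.QuadCoords

open TNorm Coord NormClose StrongApprox Pack Fam

/-- coordinates `(Λ, M)` with `N(x_i) = b_i (Λ - M a_i)` -/
structure Coords (k : Type u) [Field k] [NumberField k] {n : ℕ}
    (kf : Fin n → Type u) [∀ i, Field (kf i)] [∀ i, NumberField (kf i)] [∀ i, Algebra k (kf i)]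
    (Lf : Fin n → Type u) [∀ i, Field (Lf i)] [∀ i, NumberField (Lf i)] [∀ i, Algebra (kf i) (Lf i)]
    [∀ i, Algebra k (Lf i)] [∀ i, IsScalarTower k (kf i) (Lf i)]
    (θ : (i : Fin n) → 𝓞 (Lf i)) (a b : (i : Fin n) → kf i) (N : ℕ) where
  Λ : MvPolynomial (Fin N) k
  M : MvPolynomial (Fin N) k
  eq : ∀ {E : Type u} [CommRing E] [Algebra k E] (y : Fin N → E) (i : Fin n),
    tnorm k E (kf i) (Lf i) (XX k θ y i) = (1 : E) ⊗ₜ[k] b i *
      ((MvPolynomial.aeval y Λ) ⊗ₜ[k] (1 : kf i) - (MvPolynomial.aeval y M) ⊗ₜ[k] a i)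
  uniq : ∀ {E : Type u} [CommRing E] [Algebra k E] (y : Fin N → E) (s : E),
    (∀ i, tnorm k E (kf i) (Lf i) (XX k θ y i) = (1 : E) ⊗ₜ[k] b i *
      (s ⊗ₜ[k] (1 : kf i) - (1 : E) ⊗ₜ[k] a i)) →
    MvPolynomial.aeval y Λ = s ∧ MvPolynomial.aeval y M = 1
  fin : ∀ v : HeightOneSpectrum (𝓞 k),
    (∀ i, ∀ W : HeightOneSpectrum (𝓞 (kf i)), W.asIdeal.LiesOver v.asIdeal →
      W.valuation (kf i) (b i) = 1) →
    (∀ i, ∀ W : HeightOneSpectrum (𝓞 (kf i)), W.asIdeal.LiesOver v.asIdeal →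
      ∃ Q : Ideal (𝓞 (Lf i)), Q.IsPrime ∧ Q.LiesOver W.asIdeal ∧
        Q.ramificationIdx (𝓞 (kf i)) = 1) →
    ∃ P : Fin N → k, v.valuation k (MvPolynomial.aeval P M) ≤ 1 ∧
      ∀ i, ∀ W : HeightOneSpectrum (𝓞 (kf i)), W.asIdeal.LiesOver v.asIdeal →
        W.valuation (kf i) (algebraMap k (kf i) (MvPolynomial.aeval P Λ) -
          algebraMap k (kf i) (MvPolynomial.aeval P M) * a i) = 1
  glob : ∃ P : Fin N → k, MvPolynomial.aeval P M ≠ 0 ∧
    ∀ i, ∑ j : Fin N, P j • ((θ i : 𝓞 (Lf i)) : Lf i) ^ (j : ℕ) ≠ 0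

section Lemmas

variable {k K E : Type*} [Field k] [Field K] [Algebra k K] [CommRing E] [Algebra k E]

theorem norm_eq_of_eq {L : Type*} [Field L] [Algebra K L] [Algebra k L] [IsScalarTower k K L]
    [FiniteDimensional K L] {J : Type*} [Fintype J] (a b : K) (c : J → L) (Λ M : MvPolynomial J k)
    (hP : ∀ (x : J → k), tnorm k k K L (∑ j, x j ⊗ₜ[k] c j) = (1 : k) ⊗ₜ[k] b *
      ((MvPolynomial.aeval x Λ) ⊗ₜ[k] (1 : K) - (MvPolynomial.aeval x M) ⊗ₜ[k] a)) (x : J → k) :
    Algebra.norm K (∑ j, x j • c j) = b * (algebraMap k K (MvPolynomial.aeval x Λ) -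
      algebraMap k K (MvPolynomial.aeval x M) * a) := by
  have h1 := norm_eq_of_poly ![b, -(b * a)] c ![Λ, M] (by
    intro x
    rw [hP, mul_sub, Algebra.TensorProduct.tmul_mul_tmul,
      Algebra.TensorProduct.tmul_mul_tmul, one_mul, one_mul, mul_one, Fin.sum_univ_two]
    simp only [Matrix.cons_val_zero, Matrix.cons_val_one, TensorProduct.tmul_neg, sub_eq_add_neg])
    x
  rw [h1, Fin.sum_univ_two]
  simp only [Matrix.cons_val_zero, Matrix.cons_val_one, Algebra.smul_def]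
  ring

theorem tmul_injective (h : Module.finrank k K = 1) (b : K) (hb : b ≠ 0) {x x' : E}
    (hx : x ⊗ₜ[k] b = x' ⊗ₜ[k] b) : x = x' := by
  obtain ⟨e, he⟩ := exists_basis_one h b hb
  have h1 : ∀ x : E, (Algebra.TensorProduct.basis E e).repr (x ⊗ₜ[k] b) () = x := by
    intro x
    have := repr_tensor e (fun _ : Unit => x) ()
    rwa [Finset.univ_unique, Finset.sum_singleton, show e default = b from he] at this
  rw [← h1 x, hx, h1]

theorem tmul_sub (a : k) (b : K) (s t : E) :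
    (1 : E) ⊗ₜ[k] b * (s ⊗ₜ[k] (1 : K) - t ⊗ₜ[k] algebraMap k K a) =
      (s - t * algebraMap k E a) ⊗ₜ[k] b := by
  have h1 : t ⊗ₜ[k] algebraMap k K a = (t * algebraMap k E a) ⊗ₜ[k] (1 : K) := by
    rw [Algebra.algebraMap_eq_smul_one, ← TensorProduct.smul_tmul, mul_comm, ← Algebra.smul_def]
  rw [h1, ← TensorProduct.sub_tmul, Algebra.TensorProduct.tmul_mul_tmul, one_mul, mul_one]

end Lemmas

section Cases

variable (k : Type u) [Field k] [NumberField k]

/-- one extension of degree one -/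
theorem exists_coords_A
    (kf : Fin 1 → Type u) [∀ i, Field (kf i)] [∀ i, NumberField (kf i)] [∀ i, Algebra k (kf i)]
    (Lf : Fin 1 → Type u) [∀ i, Field (Lf i)] [∀ i, NumberField (Lf i)] [∀ i, Algebra (kf i) (Lf i)]
    [∀ i, Algebra k (Lf i)] [∀ i, IsScalarTower k (kf i) (Lf i)]
    (θ : (i : Fin 1) → 𝓞 (Lf i)) (a b : (i : Fin 1) → kf i) (hb : ∀ i, b i ≠ 0)
    (hθ : ∀ i, Algebra.adjoin k {((θ i : 𝓞 (Lf i)) : Lf i)} = ⊤)
    (hθd : ∀ i j, i ≠ j → minpoly (𝓞 k) (θ i) ≠ minpoly (𝓞 k) (θ j))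
    (N : ℕ) (hN : (G k θ).natDegree = N) (hdeg : Module.finrank k (kf 0) = 1) :
    Nonempty (Coords k kf Lf θ a b N) := by
  obtain ⟨R, hR, hfin⟩ := rank_one (L := Lf 0) hdeg (b 0) (hb 0)
    (fun j : Fin N => ((θ 0 : 𝓞 (Lf 0)) : Lf 0) ^ (j : ℕ))
  obtain ⟨a₀, ha₀⟩ := (Module.Free.bijective_algebraMap_of_finrank_eq_one hdeg).2 (a 0)
  have heq : ∀ {E : Type u} [CommRing E] [Algebra k E] (y : Fin N → E) (i : Fin 1),
      tnorm k E (kf i) (Lf i) (XX k θ y i) = (1 : E) ⊗ₜ[k] b i *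
        ((MvPolynomial.aeval y (R + MvPolynomial.C a₀)) ⊗ₜ[k] (1 : kf i) -
          (MvPolynomial.aeval y (1 : MvPolynomial (Fin N) k)) ⊗ₜ[k] a i) := by
    intro E _ _ y i
    obtain rfl : i = 0 := Subsingleton.elim _ _
    refine (hR y).trans ?_
    rw [← ha₀, tmul_sub, map_add, MvPolynomial.algHom_C, map_one, one_mul, add_sub_cancel_right]
  refine ⟨⟨R + MvPolynomial.C a₀, 1, heq, ?_, ?_, ?_⟩⟩
  · intro E _ _ y s hs
    refine ⟨?_, map_one _⟩
    have h1 := (hR y).symm.trans (hs 0)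
    rw [← ha₀, tmul_sub, one_mul] at h1
    have h2 := tmul_injective hdeg (b 0) (hb 0) h1
    rw [map_add, MvPolynomial.algHom_C, h2]
    ring
  · intro v hbv hunr
    obtain ⟨y, hy, _⟩ := hfin v (hbv 0) (hunr 0) 0
    obtain ⟨P, hP⟩ := exists_global k θ hθ hθd hN
      (fun i => if h : i = 0 then h ▸ (y : Lf 0) else 0)
    have hP0 := hP 0
    simp only [dite_true] at hP0
    refine ⟨P, by rw [map_one, map_one], fun i W hW => ?_⟩
    obtain rfl : i = 0 := Subsingleton.elim _ _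
    have h1 := norm_eq_of_eq (a 0) (b 0) _ _ _ (fun x => heq x 0) P
    rw [hP0] at h1
    have h2 := hy W hW
    rw [h1, map_mul, hbv 0 W hW, one_mul] at h2
    exact h2
  · obtain ⟨P, hP⟩ := exists_global k θ hθ hθd hN (fun i => 1)
    refine ⟨P, by rw [map_one]; exact one_ne_zero, fun i => ?_⟩
    rw [hP]
    exact one_ne_zero

/-- one extension of degree two -/
theorem exists_coords_B
    (kf : Fin 1 → Type u) [∀ i, Field (kf i)] [∀ i, NumberField (kf i)] [∀ i, Algebra k (kf i)]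
    (Lf : Fin 1 → Type u) [∀ i, Field (Lf i)] [∀ i, NumberField (Lf i)] [∀ i, Algebra (kf i) (Lf i)]
    [∀ i, Algebra k (Lf i)] [∀ i, IsScalarTower k (kf i) (Lf i)]
    (θ : (i : Fin 1) → 𝓞 (Lf i)) (a b : (i : Fin 1) → kf i) (hb : ∀ i, b i ≠ 0)
    (ha : ∀ i, IntermediateField.adjoin k {a i} = ⊤)
    (hθ : ∀ i, Algebra.adjoin k {((θ i : 𝓞 (Lf i)) : Lf i)} = ⊤)
    (hθd : ∀ i j, i ≠ j → minpoly (𝓞 k) (θ i) ≠ minpoly (𝓞 k) (θ j))
    (N : ℕ) (hN : (G k θ).natDegree = N) (hdeg : Module.finrank k (kf 0) = 2) :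
    Nonempty (Coords k kf Lf θ a b N) := by
  obtain ⟨Λ, M, heq0, huniq, hfin, z, hz0, hz⟩ := rank_two (L := Lf 0) hdeg (a 0) (ha 0) (b 0)
    (hb 0) (fun j : Fin N => ((θ 0 : 𝓞 (Lf 0)) : Lf 0) ^ (j : ℕ))
  have heq : ∀ {E : Type u} [CommRing E] [Algebra k E] (y : Fin N → E) (i : Fin 1),
      tnorm k E (kf i) (Lf i) (XX k θ y i) = (1 : E) ⊗ₜ[k] b i *
        ((MvPolynomial.aeval y Λ) ⊗ₜ[k] (1 : kf i) -
          (MvPolynomial.aeval y M) ⊗ₜ[k] a i) := by
    intro E _ _ y i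
    obtain rfl : i = 0 := Subsingleton.elim _ _
    exact heq0 y
  refine ⟨⟨Λ, M, heq, ?_, ?_, ?_⟩⟩
  · intro E _ _ y s hs
    exact huniq _ _ _ _ ((heq0 y).symm.trans (hs 0))
  · intro v hbv hunr
    obtain ⟨y, hy, hyM⟩ := hfin v (hbv 0) (hunr 0)
    obtain ⟨P, hP⟩ := exists_global k θ hθ hθd hN
      (fun i => if h : i = 0 then h ▸ (y : Lf 0) else 0)
    have hP0 := hP 0
    simp only [dite_true] at hP0
    refine ⟨P, hyM P hP0, fun i W hW => ?_⟩
    obtain rfl : i = 0 := Subsingleton.elim _ _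
    have h1 := norm_eq_of_eq (a 0) (b 0) _ _ _ (fun x => heq x 0) P
    rw [hP0] at h1
    have h2 := hy W hW
    rw [h1, map_mul, hbv 0 W hW, one_mul] at h2
    exact h2
  · obtain ⟨P, hP⟩ := exists_global k θ hθ hθd hN
      (fun i => if h : i = 0 then h ▸ (algebraMap (kf 0) (Lf 0) z) else 0)
    have hP0 := hP 0
    simp only [dite_true] at hP0
    refine ⟨P, hz P hP0, fun i => ?_⟩
    obtain rfl : i = 0 := Subsingleton.elim _ _
    rw [hP0]
    simpa using hz0

/-- two extensions of degree one -/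
theorem exists_coords_C
    (kf : Fin 2 → Type u) [∀ i, Field (kf i)] [∀ i, NumberField (kf i)] [∀ i, Algebra k (kf i)]
    (Lf : Fin 2 → Type u) [∀ i, Field (Lf i)] [∀ i, NumberField (Lf i)] [∀ i, Algebra (kf i) (Lf i)]
    [∀ i, Algebra k (Lf i)] [∀ i, IsScalarTower k (kf i) (Lf i)]
    (θ : (i : Fin 2) → 𝓞 (Lf i)) (a b : (i : Fin 2) → kf i) (hb : ∀ i, b i ≠ 0)
    (hdist : ∀ i j, i ≠ j → minpoly k (a i) ≠ minpoly k (a j))
    (hθ : ∀ i, Algebra.adjoin k {((θ i : 𝓞 (Lf i)) : Lf i)} = ⊤)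
    (hθd : ∀ i j, i ≠ j → minpoly (𝓞 k) (θ i) ≠ minpoly (𝓞 k) (θ j))
    (N : ℕ) (hN : (G k θ).natDegree = N) (hdeg : ∀ i, Module.finrank k (kf i) = 1) :
    Nonempty (Coords k kf Lf θ a b N) := by
  have hR := fun i => rank_one (L := Lf i) (hdeg i) (b i) (hb i)
    (fun j : Fin N => ((θ i : 𝓞 (Lf i)) : Lf i) ^ (j : ℕ))
  choose R hR hfin using hR
  choose α hα using fun i => (Module.Free.bijective_algebraMap_of_finrank_eq_one (hdeg i)).2 (a i)
  have hα01 : α 0 - α 1 ≠ 0 := by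
    intro h
    apply hdist 0 1 (by decide)
    rw [← hα 0, ← hα 1, minpoly.eq_X_sub_C, minpoly.eq_X_sub_C, sub_eq_zero.1 h]
  let M : MvPolynomial (Fin N) k := MvPolynomial.C (α 0 - α 1)⁻¹ * (R 1 - R 0)
  let Λ : MvPolynomial (Fin N) k := R 0 + MvPolynomial.C (α 0) * M
  have hM : MvPolynomial.C (α 0 - α 1) * M = R 1 - R 0 := by
    simp only [M]
    rw [← mul_assoc, ← map_mul, mul_inv_cancel₀ hα01, map_one, one_mul]
  have hΛM : ∀ i, Λ - MvPolynomial.C (α i) * M = R i := by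
    rw [Fin.forall_fin_two]
    constructor
    · simp only [Λ]
      ring
    · rw [map_sub] at hM
      simp only [Λ]
      linear_combination hM
  have heq : ∀ {E : Type u} [CommRing E] [Algebra k E] (y : Fin N → E) (i : Fin 2),
      tnorm k E (kf i) (Lf i) (XX k θ y i) = (1 : E) ⊗ₜ[k] b i *
        ((MvPolynomial.aeval y Λ) ⊗ₜ[k] (1 : kf i) -
          (MvPolynomial.aeval y M) ⊗ₜ[k] a i) := by
    intro E _ _ y i
    refine (hR i y).trans ?_
    rw [← hα, tmul_sub, ← hΛM i, map_sub, map_mul, MvPolynomial.algHom_C, mul_comm]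
  refine ⟨⟨Λ, M, heq, ?_, ?_, ?_⟩⟩
  · intro E _ _ y s hs
    have h1 : ∀ i, MvPolynomial.aeval y (R i) = s - algebraMap k E (α i) := by
      intro i
      have h2 := (hR i y).symm.trans (hs i)
      rw [← hα, tmul_sub, one_mul] at h2
      exact tmul_injective (hdeg i) (b i) (hb i) h2
    have h2 : MvPolynomial.aeval y M = 1 := by
      simp only [M]
      rw [map_mul, MvPolynomial.algHom_C, map_sub, h1, h1]
      have e1 : s - algebraMap k E (α 1) - (s - algebraMap k E (α 0)) =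
          algebraMap k E (α 0 - α 1) := by
        rw [map_sub]
        ring
      rw [e1, ← map_mul, inv_mul_cancel₀ hα01, map_one]
    refine ⟨?_, h2⟩
    simp only [Λ]
    rw [map_add, map_mul, MvPolynomial.algHom_C, h2, h1]
    ring
  · intro v hbv hunr
    obtain ⟨C, hC⟩ := exists_le_exp (v.valuation k (α 0 - α 1)⁻¹)
    choose y hy hyR using fun i => hfin i v (hbv i) (hunr i) C
    obtain ⟨P, hP⟩ := exists_global k θ hθ hθd hN (fun i => (y i : Lf i))
    refine ⟨P, ?_, fun i W hW => ?_⟩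
    · simp only [M]
      rw [map_mul, map_mul, MvPolynomial.algHom_C, map_sub]
      have h1 : v.valuation k (MvPolynomial.aeval P (R 1) - MvPolynomial.aeval P (R 0)) ≤
          WithZero.exp (-(C : ℤ)) := by
        have e1 : MvPolynomial.aeval P (R 1) - MvPolynomial.aeval P (R 0) =
          (MvPolynomial.aeval P (R 1) - 1) - (MvPolynomial.aeval P (R 0) - 1) := by ring
        rw [e1]
        exact (Valuation.map_sub _ _ _).trans (max_le (hyR 1 P (hP 1)) (hyR 0 P (hP 0)))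
      calc _ ≤ WithZero.exp (C : ℤ) * WithZero.exp (-(C : ℤ)) := mul_le_mul' hC h1
        _ = 1 := by rw [← WithZero.exp_add, add_neg_cancel, WithZero.exp_zero]
    · have h1 := norm_eq_of_eq (a i) (b i) _ _ _ (fun x => heq x i) P
      rw [hP i] at h1
      have h2 := hy i W hW
      rw [h1, map_mul, hbv i W hW, one_mul] at h2
      exact h2
  · -- a global point
    obtain ⟨m, hm0, hm⟩ : ∃ m : k, m ≠ 0 ∧ ∀ P : Fin N → k,
        (∀ i, ∑ j : Fin N, P j • ((θ i : 𝓞 (Lf i)) : Lf i) ^ (j : ℕ) =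
          if i = 0 then 1 else algebraMap k (Lf i) m) → MvPolynomial.aeval P M ≠ 0 := by
      by_contra hcon
      push Not at hcon
      have key : ∀ m : k, m ≠ 0 → algebraMap k (kf 1) m ^ (Module.finrank (kf 1) (Lf 1)) =
          b 1 * algebraMap k (kf 1) (algebraMap k k
            ((Module.Free.bijective_algebraMap_of_finrank_eq_one (hdeg 0)).2 (b 0)⁻¹).choose) := by
        intro m hm
        obtain ⟨P, hP, hPM⟩ := hcon m hm
        have hR01 : MvPolynomial.aeval P (R 1) = MvPolynomial.aeval P (R 0) := by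
          have h1 := congrArg (MvPolynomial.aeval P) hM
          rw [map_mul, hPM, mul_zero, map_sub] at h1
          exact (sub_eq_zero.1 h1.symm)
        have h0 := norm_eq_of_eq (a 0) (b 0) _ _ _ (fun x => heq x 0) P
        have h1 := norm_eq_of_eq (a 1) (b 1) _ _ _ (fun x => heq x 1) P
        have hPM' : ∀ i, algebraMap k (kf i) (MvPolynomial.aeval P Λ) -
            algebraMap k (kf i) (MvPolynomial.aeval P M) * a i =
            algebraMap k (kf i) (MvPolynomial.aeval P (R i)) := by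
          intro i
          rw [hPM, map_zero, zero_mul, sub_zero, ← hΛM i, map_sub, map_mul, hPM, mul_zero, sub_zero]
        rw [hPM', hP 0, if_pos rfl, map_one] at h0
        rw [hPM', hP 1, if_neg (by decide), hR01] at h1
        have h2 : algebraMap k (Lf 1) m = algebraMap (kf 1) (Lf 1) (algebraMap k (kf 1) m) :=
          IsScalarTower.algebraMap_apply _ _ _ _
        rw [h2, Algebra.norm_algebraMap] at h1
        rw [h1]
        congr 2
        apply (algebraMap k (kf 0)).injective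
        rw [Algebra.algebraMap_self_apply,
          ((Module.Free.bijective_algebraMap_of_finrank_eq_one (hdeg 0)).2 (b 0)⁻¹).choose_spec]
        exact (eq_inv_of_mul_eq_one_right h0.symm)
      have h1 := key 1 one_ne_zero
      have h2 := key 2 two_ne_zero
      rw [← h2, map_one, one_pow] at h1
      have h3 : (algebraMap k (kf 1) 2) = 2 := map_ofNat _ 2
      rw [h3] at h1
      have h4 : (1 : ℕ) = 2 ^ (Module.finrank (kf 1) (Lf 1)) := by exact_mod_cast h1
      have h5 : 1 < 2 ^ (Module.finrank (kf 1) (Lf 1)) :=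
        Nat.one_lt_two_pow Module.finrank_pos.ne'
      omega
    obtain ⟨P, hP⟩ := exists_global k θ hθ hθd hN
      (fun i => if i = 0 then 1 else algebraMap k (Lf i) m)
    refine ⟨P, hm P hP, fun i => ?_⟩
    rw [hP i]
    split_ifs
    · exact one_ne_zero
    · simpa using hm0

end Cases

end K986.QuadCoords
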