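import Groth.Agent.NumberField.K986.QuadAll
import Groth.Agent.NumberField.K986.NormApprox
import Groth.Agent.NumberField.K986.LocalRoot
import Groth.Agent.NumberField.K986.InfDegOne
import Groth.Agent.NumberField.K986.DegOnePlace
import Mathlib.FieldTheory.SplittingField.Construction

/-!
# The main argument for values with local splitting, sum of degrees at most two
-/

set_option autoImplicit false
universe u
open NumberField IsDedekindDomain
open scoped TensorProduct

namespace K986.QuadCore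

open TNorm Coord NormClose StrongApprox Pack Fam QuadCoords Primitive Polynomial MulMat

section Aux

theorem aeval_alg {k E : Type*} [Field k] [CommRing E] [Algebra k E] {σ : Type*} (x : σ → k)
    (F : MvPolynomial σ k) : MvPolynomial.aeval (fun j => algebraMap k E (x j)) F =
      algebraMap k E (MvPolynomial.aeval x F) :=
  MvPolynomial.aeval_algebraMap_apply E x F

theorem exists_bad {k : Type*} [Field k] [NumberField k] {σ : Type*} (M : MvPolynomial σ k) :
    ∃ B : Finset (HeightOneSpectrum (𝓞 k)), ∀ v ∉ B, ∀ x : σ → k,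
      (∀ i, v.valuation k (x i) ≤ 1) → v.valuation k (MvPolynomial.aeval x M) ≤ 1 := by
  classical
  induction M using MvPolynomial.induction_on with
  | C a =>
    by_cases ha : a = 0
    · refine ⟨∅, fun v _ x _ => ?_⟩
      rw [ha, map_zero, map_zero, map_zero]
      exact zero_le
    · refine ⟨(finite_valuation_ne_one ha).toFinset, fun v hv x _ => ?_⟩
      rw [MvPolynomial.algHom_C]
      have : v.valuation k a = 1 := by
        by_contra h
        exact hv (by simpa using h)
      exact this.le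
  | add p q hp hq =>
    obtain ⟨B, hB⟩ := hp
    obtain ⟨B', hB'⟩ := hq
    refine ⟨B ∪ B', fun v hv x hx => ?_⟩
    rw [Finset.mem_union, not_or] at hv
    rw [map_add]
    exact (Valuation.map_add _ _ _).trans (max_le (hB v hv.1 x hx) (hB' v hv.2 x hx))
  | mul_X p i hp =>
    obtain ⟨B, hB⟩ := hp
    refine ⟨B, fun v hv x hx => ?_⟩
    rw [map_mul, MvPolynomial.aeval_X, map_mul]
    exact mul_le_one' (hB v hv x hx) (hx i)

theorem isOpen_ratio {k E : Type*} [Field k] [Field E] [Algebra k E] [TopologicalSpace E]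
    [IsTopologicalDivisionRing E] [T1Space E] {N : ℕ} (Λ M : MvPolynomial (Fin N) k) (U : Set E)
    (hU : IsOpen U) : IsOpen {y : Fin N → E | MvPolynomial.aeval y M ≠ 0 ∧
      MvPolynomial.aeval y Λ / MvPolynomial.aeval y M ∈ U} := by
  have h1 : IsOpen {y : Fin N → E | MvPolynomial.aeval y M ≠ 0} :=
    isOpen_ne.preimage (PolyVal.continuous_aeval M)
  have h2 : ContinuousOn (fun y : Fin N → E => MvPolynomial.aeval y Λ / MvPolynomial.aeval y M)
      {y : Fin N → E | MvPolynomial.aeval y M ≠ 0} :=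
    ContinuousOn.div (PolyVal.continuous_aeval Λ).continuousOn
      (PolyVal.continuous_aeval M).continuousOn fun y hy => hy
  exact h2.isOpen_inter_preimage h1 hU

/-- a place where a given polynomial splits -/
theorem exists_split {k : Type u} [Field k] [NumberField k] (g : k[X])
    (S : Finset (HeightOneSpectrum (𝓞 k))) :
    ∃ v ∉ S, (g.map (algebraMap k (v.adicCompletion k))).Splits := by
  let F := g.SplittingField
  have hF : NumberField F := NumberField.of_module_finite k F
  obtain ⟨v, hv, ⟨f⟩⟩ := InfDegOne.exists_place k F S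
  refine ⟨v, hv, ?_⟩
  have h1 := (SplittingField.splits g).map f.toRingHom
  rw [Polynomial.map_map] at h1
  have h2 : f.toRingHom.comp (algebraMap k F) = algebraMap k (v.adicCompletion k) :=
    f.comp_algebraMap
  rwa [h2] at h1

theorem adjoin_eq_top {k K L : Type*} [Field k] [Field K] [Field L] [Algebra k K] [Algebra K L]
    [Algebra k L] [IsScalarTower k K L] (x : L) (h : Algebra.adjoin k {x} = ⊤) :
    Algebra.adjoin K {x} = ⊤ := by
  rw [eq_top_iff]
  intro y _
  have h1 : y ∈ Algebra.adjoin k {x} := h ▸ Algebra.mem_top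
  have h2 : Algebra.adjoin k {x} ≤ (Algebra.adjoin K {x}).restrictScalars k :=
    Algebra.adjoin_le Algebra.subset_adjoin
  exact h2 h1

theorem minpoly_dvd {k K L : Type*} [Field k] [NumberField k] [Field K] [NumberField K]
    [Field L] [NumberField L] [Algebra k K] [Algebra K L] [Algebra k L] [IsScalarTower k K L]
    (θ : 𝓞 L) : minpoly (𝓞 K) θ ∣ (minpoly (𝓞 k) θ).map (algebraMap (𝓞 k) (𝓞 K)) := by
  apply minpoly.isIntegrallyClosed_dvd (Algebra.IsIntegral.isIntegral θ)
  rw [aeval_map_algebraMap, minpoly.aeval]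

/-- splitting over the completion of the base gives embeddings of the extensions -/
theorem nonempty_of_splits {k K L : Type*} [Field k] [NumberField k] [Field K] [NumberField K]
    [Field L] [NumberField L] [Algebra k K] [Algebra K L] [Algebra k L] [IsScalarTower k K L]
    (θ : 𝓞 L) (hθ : Algebra.adjoin k {(θ : L)} = ⊤) (g : (𝓞 k)[X]) (hg : g.Monic)
    (hdvd : minpoly (𝓞 k) θ ∣ g) (v : HeightOneSpectrum (𝓞 k)) (W : HeightOneSpectrum (𝓞 K))
    (hWv : W.asIdeal.LiesOver v.asIdeal)
    (hs : ((g.map (algebraMap (𝓞 k) k)).map (algebraMap k (v.adicCompletion k))).Splits) :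
    Nonempty (L →ₐ[K] W.adicCompletion K) := by
  obtain ⟨f, -, hf⟩ := DegOnePlace.exists_ringHom k K v W hWv
  let h := minpoly (𝓞 K) θ
  let hK := (h.map (algebraMap (𝓞 K) K)).map (algebraMap K (W.adicCompletion K))
  have hcomp : f.comp (algebraMap k (v.adicCompletion k)) =
      (algebraMap K (W.adicCompletion K)).comp (algebraMap k K) := RingHom.ext hf
  have h1 := hs.map f
  rw [Polynomial.map_map, Polynomial.map_map, hcomp] at h1
  have h2 : hK ∣ g.map (((algebraMap K (W.adicCompletion K)).comp (algebraMap k K)).comp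
      (algebraMap (𝓞 k) k)) := by
    have h3 : h ∣ g.map (algebraMap (𝓞 k) (𝓞 K)) :=
      (minpoly_dvd θ).trans (Polynomial.map_dvd _ hdvd)
    have h4 := Polynomial.map_dvd (algebraMap K (W.adicCompletion K))
      (Polynomial.map_dvd (algebraMap (𝓞 K) K) h3)
    have h5 : ((g.map (algebraMap (𝓞 k) (𝓞 K))).map (algebraMap (𝓞 K) K)).map
        (algebraMap K (W.adicCompletion K)) = g.map (((algebraMap K (W.adicCompletion K)).comp
          (algebraMap k K)).comp (algebraMap (𝓞 k) k)) := by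
      rw [Polynomial.map_map, Polynomial.map_map]
      rfl
    rw [h5] at h4
    exact h4
  have hg0 : g.map (((algebraMap K (W.adicCompletion K)).comp (algebraMap k K)).comp
      (algebraMap (𝓞 k) k)) ≠ 0 := (hg.map _).ne_zero
  have h3 : hK.Splits := h1.of_dvd hg0 h2
  have hm : h.Monic := minpoly_monic θ
  have hdeg : hK.degree ≠ 0 := by
    rw [(hm.map _).degree_map, hm.degree_map]
    have := minpoly.degree_pos (Algebra.IsIntegral.isIntegral (R := 𝓞 K) θ)
    exact this.ne'
  obtain ⟨ρ, hρ⟩ := h3.exists_eval_eq_zero hdeg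
  exact nonempty_algHom θ (adjoin_eq_top _ hθ) ρ hρ

end Aux

section Main

variable (k : Type u) [Field k] [NumberField k] {n : ℕ}
    (kf : Fin n → Type u) [∀ i, Field (kf i)] [∀ i, NumberField (kf i)] [∀ i, Algebra k (kf i)]
    (Lf : Fin n → Type u) [∀ i, Field (Lf i)] [∀ i, NumberField (Lf i)] [∀ i, Algebra (kf i) (Lf i)]
    [∀ i, Algebra k (Lf i)] [∀ i, IsScalarTower k (kf i) (Lf i)]

/-- points over the completions -/
theorem exists_point (θ : (i : Fin n) → 𝓞 (Lf i)) (a b : (i : Fin n) → kf i)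
    (hθ : ∀ i, Algebra.adjoin k {((θ i : 𝓞 (Lf i)) : Lf i)} = ⊤)
    (hθd : ∀ i j, i ≠ j → minpoly (𝓞 k) (θ i) ≠ minpoly (𝓞 k) (θ j))
    {N : ℕ} (hN : (G k θ).natDegree = N) (c : Coords k kf Lf θ a b N)
    {E : Type u} [Field E] [Algebra k E] (t : E)
    (ht : ∀ i, ∃ x : E ⊗[k] Lf i, IsUnit x ∧ tnorm k E (kf i) (Lf i) x =
      (1 : E) ⊗ₜ[k] b i * (t ⊗ₜ[k] (1 : kf i) - (1 : E) ⊗ₜ[k] a i)) :
    ∃ y : Fin N → E, MvPolynomial.aeval y c.Λ = t ∧ MvPolynomial.aeval y c.M = 1 ∧
      (mulMat N (((G k θ).map (algebraMap (𝓞 k) k)).map (algebraMap k E)) (toPoly y)).det ≠ 0 := by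
  choose x hx hxn using ht
  obtain ⟨y, hy⟩ := exists_tensor k θ hθ hθd hN x
  obtain ⟨h1, h2⟩ := c.uniq y t (fun i => by rw [hy i, hxn i])
  refine ⟨y, h1, h2, det_ne_zero k θ hθ hN y fun i => ?_⟩
  rw [hy i]
  exact hx i

theorem valuation_b_eq_one (b : (i : Fin n) → kf i)
    (Sf : Finset (HeightOneSpectrum (𝓞 k)))
    (hSb : ∀ i, ∀ W : HeightOneSpectrum (𝓞 (kf i)),
      W.valuation (kf i) (b i) ≠ 1 → ∃ v ∈ Sf, W.asIdeal.LiesOver v.asIdeal)
    (v : HeightOneSpectrum (𝓞 k)) (hv : v ∉ Sf) (i : Fin n) (W : HeightOneSpectrum (𝓞 (kf i)))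
    (hW : W.asIdeal.LiesOver v.asIdeal) : W.valuation (kf i) (b i) = 1 := by
  by_contra h
  obtain ⟨v', hv', hWv'⟩ := hSb i W h
  have h1 := (liesOver_iff v W).1 hW
  have h2 := (liesOver_iff v' W).1 hWv'
  rw [← h1, h2] at hv
  exact hv hv'

theorem exists_unramified
    (Sf : Finset (HeightOneSpectrum (𝓞 k)))
    (hSram : ∀ i, ∀ Q : Ideal (𝓞 (Lf i)), Q.IsPrime → Q ≠ ⊥ →
      Q.ramificationIdx (𝓞 (kf i)) ≠ 1 → ∃ v ∈ Sf, Q.LiesOver v.asIdeal)
    (v : HeightOneSpectrum (𝓞 k)) (hv : v ∉ Sf) (i : Fin n) (W : HeightOneSpectrum (𝓞 (kf i)))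
    (hW : W.asIdeal.LiesOver v.asIdeal) :
    ∃ Q : Ideal (𝓞 (Lf i)), Q.IsPrime ∧ Q.LiesOver W.asIdeal ∧
      Q.ramificationIdx (𝓞 (kf i)) = 1 := by
  obtain ⟨⟨Q, hQ, hQW⟩⟩ := Ideal.nonempty_primesOver (S := 𝓞 (Lf i)) W.asIdeal
  have hQ0 : Q ≠ ⊥ := by
    rintro rfl
    apply W.ne_bot
    rw [hQW.over, Ideal.under_bot]
  refine ⟨Q, hQ, hQW, ?_⟩
  by_contra he
  obtain ⟨v', hv', hQv'⟩ := hSram i Q hQ hQ0 he
  apply hv
  have h1 : v.asIdeal = v'.asIdeal := by
    rw [hQv'.over, ← Ideal.under_under (B := 𝓞 (kf i)), ← hQW.over, hW.over]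
  rwa [HeightOneSpectrum.ext h1]

open Classical in
theorem core (θ : (i : Fin n) → 𝓞 (Lf i)) (a b : (i : Fin n) → kf i)
    (hθ : ∀ i, Algebra.adjoin k {((θ i : 𝓞 (Lf i)) : Lf i)} = ⊤)
    (hθd : ∀ i j, i ≠ j → minpoly (𝓞 k) (θ i) ≠ minpoly (𝓞 k) (θ j))
    {N : ℕ} (hN0 : 0 < N) (hN : (G k θ).natDegree = N) (c : Coords k kf Lf θ a b N)
    (Sf : Finset (HeightOneSpectrum (𝓞 k)))
    (Si : Finset (InfinitePlace k))
    (hSb : ∀ i, ∀ W : HeightOneSpectrum (𝓞 (kf i)),
      W.valuation (kf i) (b i) ≠ 1 → ∃ v ∈ Sf, W.asIdeal.LiesOver v.asIdeal)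
    (hSram : ∀ i, ∀ Q : Ideal (𝓞 (Lf i)), Q.IsPrime → Q ≠ ⊥ →
      Q.ramificationIdx (𝓞 (kf i)) ≠ 1 → ∃ v ∈ Sf, Q.LiesOver v.asIdeal)
    (tf : (v : HeightOneSpectrum (𝓞 k)) → v.adicCompletion k)
    (ti : (w : InfinitePlace k) → w.Completion)
    (htf : ∀ i, ∀ v ∈ Sf, ∃ x : (v.adicCompletion k) ⊗[k] Lf i, IsUnit x ∧
      tnorm k (v.adicCompletion k) (kf i) (Lf i) x =
          (1 : v.adicCompletion k) ⊗ₜ[k] b i *
            (tf v ⊗ₜ[k] (1 : kf i) - (1 : v.adicCompletion k) ⊗ₜ[k] a i))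
    (hti : ∀ i, ∀ w ∈ Si, ∃ x : w.Completion ⊗[k] Lf i, IsUnit x ∧
      tnorm k w.Completion (kf i) (Lf i) x =
          (1 : w.Completion) ⊗ₜ[k] b i *
            (ti w ⊗ₜ[k] (1 : kf i) - (1 : w.Completion) ⊗ₜ[k] a i))
    (Uf : (v : HeightOneSpectrum (𝓞 k)) → Set (v.adicCompletion k))
    (hUf : ∀ v ∈ Sf, IsOpen (Uf v) ∧ tf v ∈ Uf v)
    (Ui : (w : InfinitePlace k) → Set w.Completion)
    (hUi : ∀ w ∈ Si, IsOpen (Ui w) ∧ ti w ∈ Ui w) :
    ∃ t₀ : k, (∀ v ∈ Sf, algebraMap k (v.adicCompletion k) t₀ ∈ Uf v) ∧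
      (∀ w ∈ Si, algebraMap k w.Completion t₀ ∈ Ui w) ∧
      ∀ i, ∀ W : HeightOneSpectrum (𝓞 (kf i)),
        W.valuation (kf i) (algebraMap k (kf i) t₀ - a i) < 1 →
          (∃ v ∈ Sf, W.asIdeal.LiesOver v.asIdeal) ∨
            Nonempty (Lf i →ₐ[kf i] W.adicCompletion (kf i)) := by
  -- the polynomial
  let g := G k θ
  have hg : g.Monic := G_monic k θ
  have hsep := G_separable k θ hθd
  obtain ⟨A, B, c₀, hc0, hAB⟩ := exists_bezout g hsep
  obtain ⟨BM, hBM⟩ := exists_bad c.M
  obtain ⟨v₀, hv₀, hsplit⟩ := exists_split (g.map (algebraMap (𝓞 k) k))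
    (Sf ∪ (finite_mem hc0).toFinset ∪ BM)
  let S' : Finset (HeightOneSpectrum (𝓞 k)) :=
    insert v₀ (Sf ∪ (finite_mem hc0).toFinset ∪ BM)
  have hSfS' : ∀ v ∈ Sf, v ∈ S' := fun v hv =>
    Finset.mem_insert_of_mem (Finset.mem_union_left _ (Finset.mem_union_left _ hv))
  -- points at the finite places of `Sf`
  have hyf : ∀ v : HeightOneSpectrum (𝓞 k), ∃ y : Fin N → v.adicCompletion k, v ∈ Sf →
      (MvPolynomial.aeval y c.Λ = tf v ∧ MvPolynomial.aeval y c.M = 1) := by
    intro v
    by_cases hv : v ∈ Sf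
    · obtain ⟨y, h1, h2, -⟩ := exists_point k kf Lf θ a b hθ hθd hN c (tf v)
        (fun i => htf i v hv)
      exact ⟨y, fun _ => ⟨h1, h2⟩⟩
    · exact ⟨0, fun h => absurd h hv⟩
  choose yf hyf using hyf
  -- points at the other finite places
  have hPf : ∀ v : HeightOneSpectrum (𝓞 k), ∃ P : Fin N → k, v ∉ Sf →
      (v.valuation k (MvPolynomial.aeval P c.M) ≤ 1 ∧
      ∀ i, ∀ W : HeightOneSpectrum (𝓞 (kf i)), W.asIdeal.LiesOver v.asIdeal →
        W.valuation (kf i) (algebraMap k (kf i) (MvPolynomial.aeval P c.Λ) -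
          algebraMap k (kf i) (MvPolynomial.aeval P c.M) * a i) = 1) := by
    intro v
    by_cases hv : v ∈ Sf
    · exact ⟨0, fun h => absurd hv h⟩
    · obtain ⟨P, hP⟩ := c.fin v (valuation_b_eq_one k kf b Sf hSb v hv)
        (exists_unramified k kf Lf Sf hSram v hv)
      exact ⟨P, fun _ => hP⟩
  choose Pf hPf using hPf
  -- radii
  have hs : ∀ v : HeightOneSpectrum (𝓞 k), ∃ s : ℕ, ∀ i, ∀ W : HeightOneSpectrum (𝓞 (kf i)),
      W.asIdeal.LiesOver v.asIdeal → W.valuation (kf i) (a i) ≤ WithZero.exp (s : ℤ) := by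
    intro v
    have : ∀ i, Finite {W : HeightOneSpectrum (𝓞 (kf i)) | W.asIdeal.LiesOver v.asIdeal} :=
      fun i => finite_over v
    obtain ⟨C, hC⟩ := exists_le_exp_of_finite
      (fun p : (i : Fin n) × {W : HeightOneSpectrum (𝓞 (kf i)) | W.asIdeal.LiesOver v.asIdeal} =>
        p.2.1.valuation (kf p.1) (a p.1))
    exact ⟨C, fun i W hW => hC ⟨i, ⟨W, hW⟩⟩⟩
  choose s hs using hs
  -- points at the infinite places
  obtain ⟨Pg, hPgM, hPg⟩ := c.glob
  have hyi : ∀ w : InfinitePlace k, ∃ y : Fin N → w.Completion,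
      MvPolynomial.aeval y c.M ≠ 0 ∧
      (mulMat N ((g.map (algebraMap (𝓞 k) k)).map (algebraMap k w.Completion)) (toPoly y)).det ≠ 0 ∧
      (w ∈ Si → MvPolynomial.aeval y c.Λ / MvPolynomial.aeval y c.M = ti w) := by
    intro w
    by_cases hw : w ∈ Si
    · obtain ⟨y, h1, h2, h3⟩ := exists_point k kf Lf θ a b hθ hθd hN c (ti w)
        (fun i => hti i w hw)
      refine ⟨y, by rw [h2]; exact one_ne_zero, h3, fun _ => ?_⟩
      rw [h1, h2, div_one]
    · refine ⟨fun j => algebraMap k w.Completion (Pg j), ?_, ?_, fun h => absurd h hw⟩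
      · rw [aeval_alg]
        exact (_root_.map_ne_zero _).2 hPgM
      · refine det_ne_zero k θ hθ hN _ fun i => ?_
        have h1 := XX_algebraMap k θ Pg (1 : w.Completion) i
        simp only [one_mul] at h1
        rw [h1]
        exact (IsUnit.mk0 _ (hPg i)).map
          (Algebra.TensorProduct.includeRight (R := k) (A := w.Completion) (B := Lf i))
  choose yi hyiM hyidet hyi using hyi
  -- approximation
  obtain ⟨x, hx1, hx2, hx3⟩ := NormApprox.norm_approx hN0 g hg hN hsep v₀ S'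
    (Finset.mem_insert_self _ _)
    (fun v => if v ∈ Sf then yf v else fun j => algebraMap k (v.adicCompletion k) (Pf v j))
    (fun v => if v ∈ Sf then
      {y | MvPolynomial.aeval y c.M ≠ 0 ∧
        MvPolynomial.aeval y c.Λ / MvPolynomial.aeval y c.M ∈ Uf v}
      else {y | Valued.v (MvPolynomial.aeval y c.Λ -
          algebraMap k (v.adicCompletion k) (MvPolynomial.aeval (Pf v) c.Λ)) ≤
            WithZero.exp (-((s v + 1 : ℕ) : ℤ)) ∧
          Valued.v (MvPolynomial.aeval y c.M -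
          algebraMap k (v.adicCompletion k) (MvPolynomial.aeval (Pf v) c.M)) ≤
            WithZero.exp (-((s v + 1 : ℕ) : ℤ))})
    (by
      intro v hv hv0
      by_cases hvS : v ∈ Sf
      · simp only [if_pos hvS]
        refine ⟨isOpen_ratio c.Λ c.M (Uf v) (hUf v hvS).1, ?_⟩
        obtain ⟨h1, h2⟩ := hyf v hvS
        refine ⟨by rw [h2]; exact one_ne_zero, ?_⟩
        rw [h1, h2, div_one]
        exact (hUf v hvS).2
      · simp only [if_neg hvS]
        refine ⟨IsOpen.inter ?_ ?_, ?_, ?_⟩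
        · exact (isOpen_closedBall v _ WithZero.exp_ne_zero).preimage (PolyVal.continuous_aeval c.Λ)
        · exact (isOpen_closedBall v _ WithZero.exp_ne_zero).preimage (PolyVal.continuous_aeval c.M)
        · rw [aeval_alg, sub_self, map_zero]
          exact zero_le
        · rw [aeval_alg, sub_self, map_zero]
          exact zero_le)
    yi hyidet
    (fun w => if w ∈ Si then {y | MvPolynomial.aeval y c.M ≠ 0 ∧
        MvPolynomial.aeval y c.Λ / MvPolynomial.aeval y c.M ∈ Ui w}
      else {y | MvPolynomial.aeval y c.M ≠ 0})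
    (by
      intro w
      by_cases hw : w ∈ Si
      · simp only [if_pos hw]
        refine ⟨isOpen_ratio c.Λ c.M (Ui w) (hUi w hw).1, hyiM w, ?_⟩
        rw [hyi w hw]
        exact (hUi w hw).2
      · simp only [if_neg hw]
        exact ⟨isOpen_ne.preimage (PolyVal.continuous_aeval c.M), hyiM w⟩)
  set Λx := MvPolynomial.aeval x c.Λ with hΛx
  set Mx := MvPolynomial.aeval x c.M with hMx
  have hMx0 : Mx ≠ 0 := by
    obtain ⟨w⟩ : Nonempty (InfinitePlace k) := inferInstance
    have h1 := hx3 w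
    intro h0
    have h2 : MvPolynomial.aeval (fun i => algebraMap k w.Completion (x i)) c.M ≠ 0 := by
      by_cases hw : w ∈ Si
      · simp only [if_pos hw] at h1
        exact h1.1
      · simp only [if_neg hw] at h1
        exact h1
    rw [aeval_alg, ← hMx, h0, map_zero] at h2
    exact h2 rfl
  refine ⟨Λx / Mx, ?_, ?_, ?_⟩
  · intro v hv
    have hv0 : v ≠ v₀ := by
      rintro rfl
      exact hv₀ (Finset.mem_union_left _ (Finset.mem_union_left _ hv))
    have h1 := hx2 v (hSfS' v hv) hv0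
    simp only [if_pos hv] at h1
    have h2 := h1.2
    rw [aeval_alg, aeval_alg, ← map_div₀] at h2
    exact h2
  · intro w hw
    have h1 := hx3 w
    simp only [if_pos hw] at h1
    have h2 := h1.2
    rw [aeval_alg, aeval_alg, ← map_div₀] at h2
    exact h2
  · intro i W hWt
    let v := W.under (𝓞 k)
    have hWv : W.asIdeal.LiesOver v.asIdeal := under_liesOver W
    by_cases hvS : v ∈ Sf
    · exact Or.inl ⟨v, hvS, hWv⟩
    right
    have hMK : algebraMap k (kf i) Mx ≠ 0 := (_root_.map_ne_zero _).2 hMx0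
    set D := algebraMap k (kf i) Λx - algebraMap k (kf i) Mx * a i with hD
    have hDt : algebraMap k (kf i) (Λx / Mx) - a i = D / algebraMap k (kf i) Mx := by
      rw [map_div₀, hD, sub_div, mul_div_cancel_left₀ _ hMK]
    by_cases hv0 : v = v₀
    · exact nonempty_of_splits (θ i) (hθ i) g hg (minpoly_dvd_G k θ i) v₀ W (hv0 ▸ hWv) hsplit
    by_cases hvS' : v ∈ S'
    · exfalso
      have h1 := hx2 v hvS' hv0
      simp only [if_neg hvS] at h1
      obtain ⟨h2, h3⟩ := h1
      rw [aeval_alg, ← map_sub, valued_algebraMap] at h2 h3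
      obtain ⟨h4, h5⟩ := hPf v hvS
      have h6 := h5 i W hWv
      have h7 := val_le v W hWv _ _ h2
      have h8 := val_le v W hWv _ _ h3
      have hD1 : W.valuation (kf i) D = 1 := by
        have e1 : D = (algebraMap k (kf i) (MvPolynomial.aeval (Pf v) c.Λ) -
            algebraMap k (kf i) (MvPolynomial.aeval (Pf v) c.M) * a i) +
            (algebraMap k (kf i) (Λx - MvPolynomial.aeval (Pf v) c.Λ) -
              algebraMap k (kf i) (Mx - MvPolynomial.aeval (Pf v) c.M) * a i) := by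
          rw [hD, map_sub, map_sub]
          ring
        rw [e1, Valuation.map_add_eq_of_lt_left, h6]
        rw [h6]
        refine (Valuation.map_sub _ _ _).trans_lt (max_lt (h7.trans_lt ?_) ?_)
        · rw [← WithZero.exp_zero, WithZero.exp_lt_exp]
          push_cast
          omega
        · rw [map_mul]
          refine (mul_le_mul' h8 (hs v i W hWv)).trans_lt ?_
          rw [← WithZero.exp_add, ← WithZero.exp_zero, WithZero.exp_lt_exp]
          push_cast
          omega
      have hM1 : W.valuation (kf i) (algebraMap k (kf i) Mx) ≤ 1 := by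
        apply val_le_one v W hWv
        have e1 : Mx = (Mx - MvPolynomial.aeval (Pf v) c.M) + MvPolynomial.aeval (Pf v) c.M := by
          ring
        rw [e1]
        refine (Valuation.map_add _ _ _).trans (max_le (h3.trans ?_) h4)
        rw [← WithZero.exp_zero, WithZero.exp_le_exp]
        push_cast
        omega
      rw [hDt, map_div₀, hD1, one_div] at hWt
      have hpos : 0 < W.valuation (kf i) (algebraMap k (kf i) Mx) :=
        zero_lt_iff.2 ((Valuation.ne_zero_iff _).2 hMK)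
      exact absurd hWt (not_lt.2 ((one_le_inv₀ hpos).2 hM1))
    · -- good places
      have hxv := hx1 v hvS'
      have hvBM : v ∉ BM := fun h => hvS' (Finset.mem_insert_of_mem (Finset.mem_union_right _ h))
      have hcv : v.valuation k (c₀ : k) = 1 := by
        rw [HeightOneSpectrum.valuation_eq_one_iff_notMem]
        intro h2
        apply hvS'
        refine Finset.mem_insert_of_mem (Finset.mem_union_left _ (Finset.mem_union_right _ ?_))
        simpa using h2
      have hM1 : W.valuation (kf i) (algebraMap k (kf i) Mx) ≤ 1 :=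
        val_le_one v W hWv _ (hBM v hvBM x hxv.1)
      have hDlt : W.valuation (kf i) D < 1 := by
        have e1 : D = (algebraMap k (kf i) (Λx / Mx) - a i) * algebraMap k (kf i) Mx := by
          rw [hDt, div_mul_cancel₀ _ hMK]
        rw [e1, map_mul]
        exact mul_lt_one_of_nonneg_of_lt_one_left zero_le hWt hM1
      let h := minpoly (𝓞 (kf i)) (θ i)
      have hh : h.Monic := minpoly_monic (θ i)
      have hθK := adjoin_eq_top (K := kf i) _ (hθ i)
      obtain ⟨β, hβ⟩ := exists_basis (k := kf i) (θ i) hθK rfl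
      have hnorm : (mulMat h.natDegree (h.map (algebraMap (𝓞 (kf i)) (kf i)))
          (toPoly fun j => algebraMap k (kf i) (x j))).det = b i * D := by
        have hroot : aeval ((θ i : 𝓞 (Lf i)) : Lf i) (h.map (algebraMap (𝓞 (kf i)) (kf i))) = 0 := by
          rw [minpoly_map, minpoly.aeval]
        rw [← norm_eq_det (hh.map _) (hh.natDegree_map _) β _ hβ hroot]
        have e1 : aeval ((θ i : 𝓞 (Lf i)) : Lf i) (toPoly fun j => algebraMap k (kf i) (x j)) =
            ∑ j : Fin N, x j • ((θ i : 𝓞 (Lf i)) : Lf i) ^ (j : ℕ) := by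
          unfold toPoly
          rw [map_sum]
          refine Finset.sum_congr rfl fun j _ => ?_
          rw [map_mul, aeval_C, map_pow, aeval_X, Algebra.smul_def,
            ← IsScalarTower.algebraMap_apply]
        rw [e1]
        exact norm_eq_of_eq (a i) (b i) _ _ _ (fun x => c.eq x i) x
      have hbi := valuation_b_eq_one k kf b Sf hSb v hvS i W hWv
      obtain ⟨ρ, hρ⟩ := LocalRoot.exists_root_completion v W (val_le_one v W hWv) hg hN hh rfl
        ((minpoly_dvd (θ i)).trans (Polynomial.map_dvd _ (minpoly_dvd_G k θ i)))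
        A B c₀ hcv hAB x hxv.1 hxv.2 (by
          rw [hnorm, map_mul, hbi, one_mul]
          exact hDlt.ne)
      exact nonempty_algHom (θ i) hθK ρ hρ

end Main

end K986.QuadCore
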