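import Mathlib.RingTheory.Norm.Basic
import Mathlib.RingTheory.Trace.Basic
import Mathlib.RingTheory.Trace.Quotient
import Mathlib.RingTheory.NormTrace
import Mathlib.FieldTheory.Finite.GaloisField
import Mathlib.FieldTheory.Perfect
import Mathlib.RingTheory.RamificationInertia.Ramification

/-!
# Norms and traces on residue rings
-/

set_option autoImplicit false

namespace K986.ResNorm

theorem exists_algEquiv {F C : Type*} [Field F] [CommRing C] [Algebra F C] (Q J : Ideal C)
    (hinf : Q ⊓ J = ⊥) (hsup : Q ⊔ J = ⊤) :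
    ∃ e : C ≃ₐ[F] (C ⧸ Q) × (C ⧸ J),
      ∀ x, e x = (Ideal.Quotient.mk Q x, Ideal.Quotient.mk J x) := by
  let f : C →ₐ[F] (C ⧸ Q) × (C ⧸ J) :=
    (Ideal.Quotient.mkₐ F Q).prod (Ideal.Quotient.mkₐ F J)
  have hf : ∀ x, f x = (Ideal.Quotient.mk Q x, Ideal.Quotient.mk J x) := fun x => rfl
  refine ⟨AlgEquiv.ofBijective f ⟨?_, ?_⟩, hf⟩
  · rw [injective_iff_map_eq_zero]
    intro x hx
    rw [hf, Prod.mk_eq_zero, Ideal.Quotient.eq_zero_iff_mem, Ideal.Quotient.eq_zero_iff_mem] at hx
    have : x ∈ Q ⊓ J := hx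
    rwa [hinf, Ideal.mem_bot] at this
  · rintro ⟨x, y⟩
    obtain ⟨x, rfl⟩ := Ideal.Quotient.mk_surjective x
    obtain ⟨y, rfl⟩ := Ideal.Quotient.mk_surjective y
    obtain ⟨a, ha, b, hb, hab⟩ := Submodule.mem_sup.1
      (show (1 : C) ∈ Q ⊔ J by rw [hsup]; exact Submodule.mem_top)
    refine ⟨x * b + y * a, ?_⟩
    rw [hf, Prod.mk.injEq, Ideal.Quotient.eq, Ideal.Quotient.eq]
    constructor
    · have e : x * b + y * a - x = (y - x) * a := by linear_combination x * hab
      rw [e]
      exact Q.mul_mem_left _ ha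
    · have e : x * b + y * a - y = (x - y) * b := by linear_combination y * hab
      rw [e]
      exact J.mul_mem_left _ hb

theorem norm_prod {F A B : Type*} [Field F] [CommRing A] [CommRing B] [Algebra F A] [Algebra F B]
    [Module.Finite F A] [Module.Finite F B] (x : A × B) :
    Algebra.norm F x = Algebra.norm F x.1 * Algebra.norm F x.2 := by
  rw [Algebra.norm_apply, Algebra.norm_apply, Algebra.norm_apply, ← LinearMap.det_prodMap]
  congr 1

theorem norm_surj {F C : Type*} [Field F] [Finite F] [CommRing C] [Algebra F C] [Module.Finite F C]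
    (Q J : Ideal C) (hQ : Q.IsMaximal) (hinf : Q ⊓ J = ⊥) (hsup : Q ⊔ J = ⊤) (u : F) :
    ∃ y : C, Algebra.norm F y = u := by
  obtain ⟨e, he⟩ := exists_algEquiv (F := F) Q J hinf hsup
  let _ : Field (C ⧸ Q) := Ideal.Quotient.field Q
  have : Finite (C ⧸ Q) := Module.finite_of_finite F
  obtain ⟨z, hz⟩ := FiniteField.norm_surjective F (C ⧸ Q) u
  refine ⟨e.symm (z, 1), ?_⟩
  rw [← Algebra.norm_eq_of_algEquiv e, e.apply_symm_apply, norm_prod, map_one, mul_one]
  exact hz

theorem trace_surj {F C : Type*} [Field F] [Finite F] [CommRing C] [Algebra F C]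
    [Module.Finite F C]
    (Q J : Ideal C) (hQ : Q.IsMaximal) (hinf : Q ⊓ J = ⊥) (hsup : Q ⊔ J = ⊤) (u : F) :
    ∃ y : C, Algebra.trace F C y = u := by
  obtain ⟨e, he⟩ := exists_algEquiv (F := F) Q J hinf hsup
  let _ : Field (C ⧸ Q) := Ideal.Quotient.field Q
  have : Finite (C ⧸ Q) := Module.finite_of_finite F
  obtain ⟨z, hz⟩ := Algebra.trace_surjective F (C ⧸ Q) u
  refine ⟨e.symm (z, 0), ?_⟩
  rw [← Algebra.trace_eq_of_algEquiv e, e.apply_symm_apply, Algebra.trace_prod_apply, map_zero,
    add_zero]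
  exact hz

/-! ### the norm modulo the maximal ideal -/

open IsLocalRing FiniteDimensional Module Submodule IsLocalization.AtPrime nonZeroDivisors

section IsLocalRing

variable {R S : Type*} [CommRing R] [CommRing S] [Algebra R S]

local notation "p" => maximalIdeal R
local notation "pS" => Ideal.map (algebraMap R S) p

variable [Module.Free R S] [Module.Finite R S]

attribute [local instance] Ideal.Quotient.field

theorem norm_quotient_mk [IsLocalRing R] (x : S) :
    Algebra.norm (R ⧸ p) (Ideal.Quotient.mk pS x) =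
      Ideal.Quotient.mk p (Algebra.norm R x) := by
  classical
  let ι := Module.Free.ChooseBasisIndex R S
  let b : Module.Basis ι R S := Module.Free.chooseBasis R S
  rw [Algebra.norm_eq_matrix_det b, Algebra.norm_eq_matrix_det (basisQuotient b), RingHom.map_det]
  congr 1
  ext i j
  simp only [Algebra.leftMulMatrix_apply, Algebra.coe_lmul_eq_mul, LinearMap.toMatrix_apply,
    basisQuotient_apply, LinearMap.mul_apply', RingHom.mapMatrix_apply, Matrix.map_apply,
    ← map_mul, basisQuotient_repr]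

end IsLocalRing

section IsDedekindDomain

variable {R : Type*} [CommRing R] (S : Type*) [CommRing S] [Algebra R S]
variable (p : Ideal R) [p.IsMaximal]
variable (Rₚ Sₚ : Type*) [CommRing Rₚ] [CommRing Sₚ] [Algebra R Rₚ] [IsLocalization.AtPrime Rₚ p]
variable [IsLocalRing Rₚ] [Algebra S Sₚ] [Algebra R Sₚ] [Algebra Rₚ Sₚ]
variable [IsLocalization (Algebra.algebraMapSubmonoid S p.primeCompl) Sₚ]
variable [IsScalarTower R S Sₚ] [IsScalarTower R Rₚ Sₚ]

attribute [local instance] Ideal.Quotient.field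

local notation "pS" => Ideal.map (algebraMap R S) p
local notation "pSₚ" => Ideal.map (algebraMap Rₚ Sₚ) (maximalIdeal Rₚ)

theorem norm_quotient_eq_norm_localization_quotient (x) :
    Algebra.norm (R ⧸ p) (Ideal.Quotient.mk pS x) =
      (equivQuotMaximalIdeal p Rₚ).symm
        (Algebra.norm (Rₚ ⧸ maximalIdeal Rₚ) (algebraMap S (Sₚ ⧸ pSₚ) x)) := by
  have : IsScalarTower R (Rₚ ⧸ maximalIdeal Rₚ) (Sₚ ⧸ pSₚ) := by
    apply IsScalarTower.of_algebraMap_eq'
    rw [IsScalarTower.algebraMap_eq R Rₚ (Rₚ ⧸ _), IsScalarTower.algebraMap_eq R Rₚ (Sₚ ⧸ _),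
      ← RingHom.comp_assoc, ← IsScalarTower.algebraMap_eq Rₚ]
  rw [Algebra.norm_eq_of_equiv_equiv (equivQuotMaximalIdeal p Rₚ)
    (equivQuotientMapMaximalIdeal S p Rₚ Sₚ)]
  · congr
  · ext x
    simp only [equivQuotMaximalIdeal, RingHom.quotientKerEquivOfSurjective,
      RingEquiv.coe_ringHom_trans, RingHom.coe_comp, RingHom.coe_coe, Function.comp_apply,
      Ideal.quotEquivOfEq_mk, RingHom.quotientKerEquivOfRightInverse.apply, RingHom.kerLift_mk,
      equivQuotientMapMaximalIdeal, Ideal.Quotient.algebraMap_quotient_map_quotient]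
    rw [← IsScalarTower.algebraMap_apply, ← IsScalarTower.algebraMap_apply]

/-- The norm map on `B → A` coincides with the norm map on `B⧸pB → A⧸p`. -/
theorem norm_quotient_eq_of_isDedekindDomain (x) [IsDedekindDomain R] [IsDomain S]
    [Module.IsTorsionFree R S] [Module.Finite R S] [IsIntegrallyClosed S] :
    Algebra.norm (R ⧸ p) (Ideal.Quotient.mk pS x) =
      Ideal.Quotient.mk p (Algebra.intNorm R S x) := by
  let Rₚ := Localization.AtPrime p
  let Sₚ := Localization (Algebra.algebraMapSubmonoid S p.primeCompl)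
  let : Algebra Rₚ Sₚ := localizationAlgebra p.primeCompl S
  have : IsScalarTower R Rₚ Sₚ := IsScalarTower.of_algebraMap_eq'
    (by rw [RingHom.algebraMap_toAlgebra, IsLocalization.map_comp, ← IsScalarTower.algebraMap_eq])
  have : IsLocalization (Submonoid.map (algebraMap R S) (Ideal.primeCompl p)) Sₚ :=
    inferInstanceAs (IsLocalization (Algebra.algebraMapSubmonoid S p.primeCompl) Sₚ)
  have e : Algebra.algebraMapSubmonoid S p.primeCompl ≤ S⁰ :=
    Submonoid.map_le_of_le_comap _ <| p.primeCompl_le_nonZeroDivisors.trans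
      (nonZeroDivisors_le_comap_nonZeroDivisors_of_injective _
        (FaithfulSMul.algebraMap_injective _ _))
  have : IsDomain Sₚ := IsLocalization.isDomain_of_le_nonZeroDivisors _ e
  have : IsTorsionFree Rₚ Sₚ := by
    rw [isTorsionFree_iff_algebraMap_injective, RingHom.injective_iff_ker_eq_bot,
      RingHom.ker_eq_bot_iff_eq_zero]
    simp
  have : Module.Finite Rₚ Sₚ := .of_isLocalization R S p.primeCompl
  have : IsIntegrallyClosed Sₚ := isIntegrallyClosed_of_isLocalization _ _ e
  have : IsPrincipalIdealRing Rₚ := by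
    by_cases hp : p = ⊥
    · infer_instance
    · have := (IsDedekindDomain.isDedekindDomainDvr R).2 p hp inferInstance
      infer_instance
  have : Module.Free Rₚ Sₚ := Module.free_of_finite_type_torsion_free'
  apply (equivQuotMaximalIdeal p Rₚ).injective
  rw [norm_quotient_eq_norm_localization_quotient S p Rₚ Sₚ, IsScalarTower.algebraMap_eq S Sₚ,
    RingHom.comp_apply, Ideal.Quotient.algebraMap_eq, norm_quotient_mk,
    RingEquiv.apply_symm_apply, ← Algebra.intNorm_eq_norm,
    ← Algebra.intNorm_eq_of_isLocalization (A := R) (B := S) p.primeCompl (Aₘ := Rₚ) (Bₘ := Sₚ) x,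
    ← Ideal.Quotient.algebraMap_eq, ← IsScalarTower.algebraMap_apply]
  simp only [equivQuotMaximalIdeal, RingHom.quotientKerEquivOfSurjective, RingEquiv.coe_trans,
    Function.comp_apply, Ideal.quotEquivOfEq_mk, RingHom.quotientKerEquivOfRightInverse.apply,
    RingHom.kerLift_mk]

/-- the norm of `1 + a x` -/
theorem intNorm_one_add (a : R) (x : S) [IsDedekindDomain R] [IsDomain S]
    [Module.IsTorsionFree R S] [Module.Finite R S] [IsIntegrallyClosed S] :
    ∃ s ∉ p, ∃ r : R, s * (Algebra.intNorm R S (1 + algebraMap R S a * x) - 1 -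
      Algebra.intTrace R S x * a) = r * a ^ 2 := by
  let Rₚ := Localization.AtPrime p
  let Sₚ := Localization (Algebra.algebraMapSubmonoid S p.primeCompl)
  let : Algebra Rₚ Sₚ := localizationAlgebra p.primeCompl S
  have : IsScalarTower R Rₚ Sₚ := IsScalarTower.of_algebraMap_eq'
    (by rw [RingHom.algebraMap_toAlgebra, IsLocalization.map_comp, ← IsScalarTower.algebraMap_eq])
  have : IsLocalization (Submonoid.map (algebraMap R S) (Ideal.primeCompl p)) Sₚ :=
    inferInstanceAs (IsLocalization (Algebra.algebraMapSubmonoid S p.primeCompl) Sₚ)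
  have e : Algebra.algebraMapSubmonoid S p.primeCompl ≤ S⁰ :=
    Submonoid.map_le_of_le_comap _ <| p.primeCompl_le_nonZeroDivisors.trans
      (nonZeroDivisors_le_comap_nonZeroDivisors_of_injective _
        (FaithfulSMul.algebraMap_injective _ _))
  have : IsDomain Sₚ := IsLocalization.isDomain_of_le_nonZeroDivisors _ e
  have : IsTorsionFree Rₚ Sₚ := by
    rw [isTorsionFree_iff_algebraMap_injective, RingHom.injective_iff_ker_eq_bot,
      RingHom.ker_eq_bot_iff_eq_zero]
    simp
  have : Module.Finite Rₚ Sₚ := .of_isLocalization R S p.primeCompl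
  have : IsIntegrallyClosed Sₚ := isIntegrallyClosed_of_isLocalization _ _ e
  have : IsPrincipalIdealRing Rₚ := by
    by_cases hp : p = ⊥
    · infer_instance
    · have := (IsDedekindDomain.isDedekindDomainDvr R).2 p hp inferInstance
      infer_instance
  have : Module.Free Rₚ Sₚ := Module.free_of_finite_type_torsion_free'
  obtain ⟨r, hr⟩ := Algebra.norm_one_add_smul (algebraMap R Rₚ a) (algebraMap S Sₚ x)
  have h1 : (1 : Sₚ) + algebraMap R Rₚ a • algebraMap S Sₚ x =
      algebraMap S Sₚ (1 + algebraMap R S a * x) := by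
    rw [map_add, map_one, map_mul, Algebra.smul_def, ← IsScalarTower.algebraMap_apply R Rₚ Sₚ,
      ← IsScalarTower.algebraMap_apply R S Sₚ]
  rw [h1, ← Algebra.intNorm_eq_norm, ← Algebra.intTrace_eq_trace,
    ← Algebra.intNorm_eq_of_isLocalization (A := R) (B := S) p.primeCompl (Aₘ := Rₚ) (Bₘ := Sₚ),
    ← Algebra.intTrace_eq_of_isLocalization R S p.primeCompl (Aₘ := Rₚ) (Bₘ := Sₚ) x] at hr
  obtain ⟨r', s, rfl⟩ := IsLocalization.exists_mk'_eq p.primeCompl r
  refine ⟨s, s.2, r', ?_⟩
  apply IsLocalization.injective Rₚ p.primeCompl_le_nonZeroDivisors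
  have h2 := IsLocalization.mk'_spec' Rₚ r' s
  rw [map_mul, map_sub, map_sub, map_one, map_mul, map_mul, map_pow, hr]
  linear_combination (algebraMap R Rₚ a) ^ 2 * h2

end IsDedekindDomain

end K986.ResNorm
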