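import Mathlib.NumberTheory.NumberField.Basic
import Mathlib.NumberTheory.NumberField.ClassNumber
import Mathlib.NumberTheory.NumberField.CanonicalEmbedding.ConvexBody
import Mathlib.RingTheory.DedekindDomain.AdicValuation

/-!
# Small `{v₀}`-integers, and the covering radius of the ring of integers
-/

set_option autoImplicit false
universe u
open NumberField IsDedekindDomain
open scoped NNReal ENNReal

namespace K986.SmallElt

variable {k : Type u} [Field k] [NumberField k]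

/-- a power of a prime of a number field is principal -/
theorem exists_span_eq_pow (v₀ : HeightOneSpectrum (𝓞 k)) :
    ∃ (π : 𝓞 k) (h : ℕ), 0 < h ∧ Ideal.span {π} = v₀.asIdeal ^ h := by
  classical
  have h0 : v₀.asIdeal ∈ nonZeroDivisors (Ideal (𝓞 k)) :=
    mem_nonZeroDivisors_of_ne_zero v₀.ne_bot
  have h1 : (ClassGroup.mk0 ⟨v₀.asIdeal, h0⟩) ^ (Fintype.card (ClassGroup (𝓞 k))) = 1 :=
    pow_card_eq_one
  rw [← map_pow, ClassGroup.mk0_eq_one_iff] at h1
  obtain ⟨π, hπ⟩ := h1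
  refine ⟨π, Fintype.card (ClassGroup (𝓞 k)), Fintype.card_pos, ?_⟩
  rw [Ideal.submodule_span_eq] at hπ
  rw [← hπ]
  rfl

/-- an element of `𝓞 k` supported only at `v₀`, with norm of absolute value at least two -/
theorem exists_local_gen (v₀ : HeightOneSpectrum (𝓞 k)) :
    ∃ π : 𝓞 k, π ≠ 0 ∧ (∀ v : HeightOneSpectrum (𝓞 k), v ≠ v₀ → v.valuation k (π : k) = 1) ∧
      (1 : ℝ) < ((|Algebra.norm ℚ (π : k)| : ℚ) : ℝ) := by
  obtain ⟨π, h, hh, hπ⟩ := exists_span_eq_pow v₀
  have hπ0 : π ≠ 0 := by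
    rintro rfl
    have : v₀.asIdeal ^ h = ⊥ := by rw [← hπ]; simp
    exact v₀.ne_bot (pow_eq_zero_iff hh.ne' |>.1 this)
  refine ⟨π, hπ0, fun v hv => ?_, ?_⟩
  · rw [HeightOneSpectrum.valuation_eq_one_iff_notMem]
    intro hmem
    have h1 : v₀.asIdeal ^ h ≤ v.asIdeal := by
      rw [← hπ, Ideal.span_singleton_le_iff_mem]
      exact hmem
    have h2 : v₀.asIdeal ≤ v.asIdeal := v.isPrime.le_of_pow_le h1
    have h3 : v₀.asIdeal = v.asIdeal := (v₀.isMaximal).eq_of_le v.isPrime.ne_top h2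
    exact hv (HeightOneSpectrum.ext h3.symm)
  · have h1 : Ideal.absNorm (Ideal.span {π}) ≠ 1 := by
      rw [Ne, Ideal.absNorm_eq_one_iff, hπ]
      intro h
      have := v₀.isPrime.ne_top
      apply this
      rw [eq_top_iff, ← h]
      exact Ideal.pow_le_self hh.ne'
    have h2 : Ideal.absNorm (Ideal.span {π}) ≠ 0 := by
      rw [Ne, Ideal.absNorm_eq_zero_iff]
      simpa using hπ0
    have h3 : ((|Algebra.norm ℚ (π : k)| : ℚ) : ℝ) = (Ideal.absNorm (Ideal.span {π}) : ℝ) := by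
      rw [Ideal.absNorm_span_singleton]
      have h4 : Algebra.norm ℚ (π : k) = ((Algebra.norm ℤ π : ℤ) : ℚ) :=
        (Algebra.coe_norm_int π).symm
      rw [h4, ← Int.cast_abs]
      push_cast [Nat.cast_natAbs]
      rfl
    rw [h3]
    have h5 : 1 < Ideal.absNorm (Ideal.span {π}) := by omega
    exact_mod_cast h5

/-- small nonzero elements integral away from `v₀` -/
theorem exists_small (v₀ : HeightOneSpectrum (𝓞 k)) {ε : ℝ} (hε : 0 < ε) :
    ∃ μ : k, μ ≠ 0 ∧ (∀ w : InfinitePlace k, w μ < ε) ∧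
      ∀ v : HeightOneSpectrum (𝓞 k), v ≠ v₀ → v.valuation k μ ≤ 1 := by
  classical
  obtain ⟨π, hπ0, hπv, hπN⟩ := exists_local_gen v₀
  have hπk : (π : k) ≠ 0 := RingOfIntegers.coe_ne_zero_iff.2 hπ0
  -- the lattice bound
  obtain ⟨b, hb⟩ : ∃ b : ℝ≥0, (b : ℝ≥0∞) = mixedEmbedding.minkowskiBound k 1 :=
    ⟨_, ENNReal.coe_toNNReal (mixedEmbedding.minkowskiBound_lt_top k 1).ne⟩
  let ε' : ℝ≥0 := ⟨ε, hε.le⟩
  have hε' : 0 < ε' := hε
  let p : InfinitePlace k → ℝ≥0 := fun w => ⟨w (π : k), apply_nonneg _ _⟩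
  let E : ℝ≥0 := ∏ w : InfinitePlace k, ε' ^ w.mult
  have hE : 0 < E := Finset.prod_pos fun w _ => pow_pos hε' _
  let P : ℝ≥0 := ∏ w : InfinitePlace k, p w ^ w.mult
  have hP : 1 < P := by
    rw [← NNReal.coe_lt_coe]
    have : (P : ℝ) = ((|Algebra.norm ℚ (π : k)| : ℚ) : ℝ) := by
      rw [← InfinitePlace.prod_eq_abs_norm]
      simp only [P, p, NNReal.coe_prod]
      rfl
    rw [this, NNReal.coe_one]
    exact hπN
  obtain ⟨N, hN⟩ := pow_unbounded_of_one_lt (b / E) hP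
  let f : InfinitePlace k → ℝ≥0 := fun w => ε' * p w ^ N
  have hf : ∏ w, f w ^ w.mult = E * P ^ N := by
    simp only [f, E, P, mul_pow, Finset.prod_mul_distrib, ← Finset.prod_pow]
    congr 1
    refine Finset.prod_congr rfl fun w _ => ?_
    rw [← pow_mul, ← pow_mul, mul_comm]
  have hlt : mixedEmbedding.minkowskiBound k 1 <
      MeasureTheory.volume (mixedEmbedding.convexBodyLT k f) := by
    rw [mixedEmbedding.convexBodyLT_volume, hf, ← hb, ← ENNReal.coe_mul, ENNReal.coe_lt_coe]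
    have h1 : b < E * P ^ N := by
      rw [div_lt_iff₀ hE] at hN
      rwa [mul_comm] at hN
    exact lt_of_lt_of_le h1 (le_mul_of_one_le_left zero_le
      (mixedEmbedding.one_le_convexBodyLTFactor k))
  obtain ⟨a, ha0, ha⟩ := mixedEmbedding.exists_ne_zero_mem_ringOfIntegers_lt k hlt
  refine ⟨(a : k) / (π : k) ^ N, div_ne_zero (RingOfIntegers.coe_ne_zero_iff.2 ha0)
    (pow_ne_zero _ hπk), fun w => ?_, fun v hv => ?_⟩
  · rw [map_div₀, map_pow, div_lt_iff₀ (pow_pos (by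
      rw [InfinitePlace.pos_iff]; exact hπk) _)]
    exact ha w
  · rw [map_div₀, map_pow, hπv v hv, one_pow, div_one]
    exact v.valuation_le_one a

/-- the covering radius of the ring of integers -/
theorem exists_covering_radius (k : Type u) [Field k] [NumberField k] :
    ∃ C : ℝ, 0 < C ∧ ∀ t : k, ∃ m : 𝓞 k, ∀ w : InfinitePlace k, w (t - m) ≤ C := by
  classical
  let b := integralBasis k
  refine ⟨∑ w : InfinitePlace k, ∑ i, w (b i) + 1, ?_, fun t => ?_⟩
  · have : 0 ≤ ∑ w : InfinitePlace k, ∑ i, w (b i) :=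
      Finset.sum_nonneg fun w _ => Finset.sum_nonneg fun i _ => apply_nonneg _ _
    linarith
  refine ⟨∑ i, (⌊b.repr t i⌋ : 𝓞 k) * RingOfIntegers.basis k i, fun w => ?_⟩
  have h1 : t - algebraMap (𝓞 k) k (∑ i, (⌊b.repr t i⌋ : 𝓞 k) * RingOfIntegers.basis k i) =
      ∑ i, ((b.repr t i - ⌊b.repr t i⌋ : ℚ) : k) * b i := by
    have h2 : t = ∑ i, ((b.repr t i : ℚ) : k) * b i := by
      conv_lhs => rw [← b.sum_repr t]
      refine Finset.sum_congr rfl fun i _ => ?_
      rw [Rat.smul_def]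
    have h3 : algebraMap (𝓞 k) k (∑ i, (⌊b.repr t i⌋ : 𝓞 k) * RingOfIntegers.basis k i) =
        ∑ i, ((⌊b.repr t i⌋ : ℚ) : k) * b i := by
      rw [map_sum]
      refine Finset.sum_congr rfl fun i _ => ?_
      rw [map_mul, map_intCast, integralBasis_apply]
      simp
    rw [h3]
    nth_rewrite 1 [h2]
    rw [← Finset.sum_sub_distrib]
    refine Finset.sum_congr rfl fun i _ => ?_
    push_cast
    ring
  have h1' : t - ((∑ i, (⌊b.repr t i⌋ : 𝓞 k) * RingOfIntegers.basis k i : 𝓞 k) : k) =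
      ∑ i, ((b.repr t i - ⌊b.repr t i⌋ : ℚ) : k) * b i := h1
  rw [h1']
  have h4 : w (∑ i, ((b.repr t i - ⌊b.repr t i⌋ : ℚ) : k) * b i) ≤ ∑ i, w (b i) := by
    refine (w.1.sum_le _ _).trans (Finset.sum_le_sum fun i _ => ?_)
    change w (((b.repr t i - ⌊b.repr t i⌋ : ℚ) : k) * b i) ≤ _
    rw [map_mul]
    refine mul_le_of_le_one_left (apply_nonneg _ _) ?_
    have h5 : w (((b.repr t i - ⌊b.repr t i⌋ : ℚ) : k)) = |(((b.repr t i - ⌊b.repr t i⌋ : ℚ)) : ℝ)| := by
      rw [← InfinitePlace.norm_embedding_eq, map_ratCast, Complex.norm_ratCast]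
    rw [h5]
    have h6 : 0 ≤ b.repr t i - ⌊b.repr t i⌋ := sub_nonneg.2 (Int.floor_le _)
    have h7 : b.repr t i - ⌊b.repr t i⌋ ≤ 1 := by
      have := Int.lt_floor_add_one (b.repr t i)
      linarith
    rw [abs_of_nonneg (by exact_mod_cast h6)]
    exact_mod_cast h7
  have h5 : ∑ i, w (b i) ≤ ∑ w : InfinitePlace k, ∑ i, w (b i) :=
    Finset.single_le_sum (f := fun w : InfinitePlace k => ∑ i, w (b i))
      (fun w _ => Finset.sum_nonneg fun i _ => apply_nonneg _ _) (Finset.mem_univ w)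
  linarith

/-- `{v₀}`-integers divisible by `c` are dense at the infinite places -/
theorem exists_near_of_small (v₀ : HeightOneSpectrum (𝓞 k)) (c : 𝓞 k) (hc : c ≠ 0) (t : k)
    {ε : ℝ} (hε : 0 < ε) :
    ∃ z : k, (∀ w : InfinitePlace k, w (z - t) < ε) ∧
      ∀ v : HeightOneSpectrum (𝓞 k), v ≠ v₀ → v.valuation k z ≤ v.valuation k (c : k) := by
  obtain ⟨C, hC0, hC⟩ := exists_covering_radius k
  have hck : (c : k) ≠ 0 := RingOfIntegers.coe_ne_zero_iff.2 hc
  -- bound for `c`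
  let D : ℝ := ∑ w : InfinitePlace k, w (c : k) + 1
  have hD : ∀ w : InfinitePlace k, w (c : k) < D := fun w => by
    have : w (c : k) ≤ ∑ w : InfinitePlace k, w (c : k) :=
      Finset.single_le_sum (f := fun w : InfinitePlace k => w (c : k))
      (fun w _ => apply_nonneg _ _) (Finset.mem_univ w)
    simp only [D]
    linarith
  have hD0 : 0 < D := by
    obtain ⟨w⟩ : Nonempty (InfinitePlace k) := inferInstance
    exact lt_of_le_of_lt (apply_nonneg w (c : k)) (hD w)
  obtain ⟨μ, hμ0, hμ, hμv⟩ := exists_small v₀ (ε := ε / (C * D)) (by positivity)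
  obtain ⟨m, hm⟩ := hC (t / ((c : k) * μ))
  refine ⟨(c : k) * μ * m, fun w => ?_, fun v hv => ?_⟩
  · have h1 : (c : k) * μ * m - t = - (((c : k) * μ) * (t / ((c : k) * μ) - m)) := by
      have : (c : k) * μ ≠ 0 := mul_ne_zero hck hμ0
      field_simp
      ring
    have h2 : w ((c : k) * μ * m - t) = w (c : k) * w μ * w (t / ((c : k) * μ) - m) := by
      rw [h1, ← map_mul, ← map_mul]
      exact w.1.map_neg _
    rw [h2]
    have h3 : w (c : k) * w μ < D * (ε / (C * D)) :=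
      mul_lt_mul'' (hD w) (hμ w) (apply_nonneg _ _) (apply_nonneg _ _)
    calc w (c : k) * w μ * w (t / ((c : k) * μ) - m) ≤ w (c : k) * w μ * C :=
          mul_le_mul_of_nonneg_left (hm w) (mul_nonneg (apply_nonneg _ _) (apply_nonneg _ _))
      _ < D * (ε / (C * D)) * C := mul_lt_mul_of_pos_right h3 hC0
      _ = ε := by field_simp
  · rw [map_mul, map_mul]
    have h1 := hμv v hv
    have h2 : v.valuation k (m : k) ≤ 1 := v.valuation_le_one m
    calc v.valuation k (c : k) * v.valuation k μ * v.valuation k (m : k)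
        ≤ v.valuation k (c : k) * 1 * 1 := by gcongr
      _ = v.valuation k (c : k) := by simp

end K986.SmallElt
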