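import Mathlib.RingTheory.Norm.Basic
import Mathlib.RingTheory.TensorProduct.Maps
import Mathlib.LinearAlgebra.TensorProduct.Pi
import Mathlib.RingTheory.TensorProduct.Free
import Mathlib.Algebra.MvPolynomial.Eval
import Mathlib.LinearAlgebra.TensorProduct.Finiteness

/-!
# The relative norm after base change
-/

set_option autoImplicit false
open scoped TensorProduct

namespace K986.TNorm

section Basic

variable (k E K L : Type*) [Field k] [CommRing E] [Algebra k E] [Field K] [Field L] [Algebra k K]
  [Algebra K L] [Algebra k L] [IsScalarTower k K L]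

/-- `E ⊗ L` is an algebra over `E ⊗ K` -/
noncomputable abbrev alg : Algebra (E ⊗[k] K) (E ⊗[k] L) :=
  (Algebra.TensorProduct.map (AlgHom.id k E) (IsScalarTower.toAlgHom k K L)).toRingHom.toAlgebra

/-- the norm from `E ⊗ L` to `E ⊗ K` -/
noncomputable def tnorm : E ⊗[k] L →* E ⊗[k] K :=
  letI := alg k E K L
  Algebra.norm (E ⊗[k] K)

variable {K L}

theorem alg_smul (a b : E) (x : K) (y : L) :
    letI := alg k E K L
    (a ⊗ₜ[k] x) • (b ⊗ₜ[k] y) = (a * b) ⊗ₜ[k] (x • y) := by
  letI := alg k E K L
  change (algebraMap (E ⊗[k] K) (E ⊗[k] L) (a ⊗ₜ[k] x)) * (b ⊗ₜ[k] y) = _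
  have h : algebraMap (E ⊗[k] K) (E ⊗[k] L) (a ⊗ₜ[k] x) = a ⊗ₜ[k] algebraMap K L x := rfl
  rw [h, Algebra.TensorProduct.tmul_mul_tmul, Algebra.smul_def]

variable {ι : Type*} [Fintype ι] [DecidableEq ι]

/-- coordinates -/
noncomputable def coordE (β : Module.Basis ι K L) : (E ⊗[k] L) ≃ₗ[E] (ι → E ⊗[k] K) :=
  (TensorProduct.AlgebraTensorModule.congr (LinearEquiv.refl E E)
    (β.equivFun.restrictScalars k)).trans (TensorProduct.piRight k E E (fun _ : ι => K))

theorem coordE_tmul (β : Module.Basis ι K L) (a : E) (y : L) (i : ι) :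
    coordE k E β (a ⊗ₜ[k] y) i = a ⊗ₜ[k] (β.repr y i) := rfl

/-- coordinates -/
noncomputable def coord (β : Module.Basis ι K L) :
    letI := alg k E K L
    (E ⊗[k] L) ≃ₗ[E ⊗[k] K] (ι → E ⊗[k] K) :=
  letI := alg k E K L
  { coordE k E β with
    map_smul' := by
      intro r z
      ext i
      change coordE k E β (r • z) i = r * coordE k E β z i
      induction r using TensorProduct.induction_on with
      | zero => rw [zero_smul, zero_mul, map_zero]; rfl
      | add r s hr hs => rw [add_smul, map_add, Pi.add_apply, hr, hs, add_mul]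
      | tmul a x =>
        induction z using TensorProduct.induction_on with
        | zero => rw [smul_zero, map_zero]; simp
        | add z w hz hw => rw [smul_add, map_add, map_add, Pi.add_apply, Pi.add_apply, hz, hw,
            mul_add]
        | tmul b y =>
          rw [alg_smul, coordE_tmul, coordE_tmul, Algebra.TensorProduct.tmul_mul_tmul, map_smul]
          rfl }

/-- the base changed basis -/
noncomputable def basis (β : Module.Basis ι K L) :
    letI := alg k E K L
    Module.Basis ι (E ⊗[k] K) (E ⊗[k] L) :=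
  letI := alg k E K L
  Module.Basis.ofEquivFun (coord k E β)

theorem basis_repr (β : Module.Basis ι K L) (z : E ⊗[k] L) (i : ι) :
    letI := alg k E K L
    (basis k E β).repr z i = coordE k E β z i := rfl

theorem basis_apply (β : Module.Basis ι K L) (i : ι) :
    letI := alg k E K L
    basis k E β i = 1 ⊗ₜ[k] β i := by
  letI := alg k E K L
  apply (basis k E β).repr.injective
  ext j
  rw [Module.Basis.repr_self, basis_repr, coordE_tmul, Module.Basis.repr_self]
  by_cases h : i = j
  · subst h
    simp only [Finsupp.single_eq_same]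
    rfl
  · rw [Finsupp.single_eq_of_ne' h, Finsupp.single_eq_of_ne' h, TensorProduct.tmul_zero]

theorem leftMulMatrix_tmul (β : Module.Basis ι K L) (a : E) (y : L) :
    letI := alg k E K L
    Algebra.leftMulMatrix (basis k E β) (a ⊗ₜ[k] y) =
      Matrix.of fun i j => a ⊗ₜ[k] (Algebra.leftMulMatrix β y i j) := by
  letI := alg k E K L
  ext i j
  rw [Algebra.leftMulMatrix_eq_repr_mul, basis_apply, Algebra.TensorProduct.tmul_mul_tmul, mul_one,
    basis_repr, coordE_tmul, Matrix.of_apply, Algebra.leftMulMatrix_eq_repr_mul]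

theorem tnorm_eq (β : Module.Basis ι K L) {J : Type*} [Fintype J] (x : J → E) (c : J → L) :
    tnorm k E K L (∑ j, x j ⊗ₜ[k] c j) =
      Matrix.det (Matrix.of fun i i' => ∑ j, x j ⊗ₜ[k] (Algebra.leftMulMatrix β (c j) i i')) := by
  letI := alg k E K L
  change Algebra.norm (E ⊗[k] K) _ = _
  rw [Algebra.norm_eq_matrix_det (basis k E β)]
  congr 1
  rw [map_sum]
  ext i i'
  rw [Matrix.sum_apply, Matrix.of_apply]
  refine Finset.sum_congr rfl fun j _ => ?_
  rw [leftMulMatrix_tmul, Matrix.of_apply]

end Basic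

section Field

variable (k E K L : Type*) [Field k] [CommRing E] [Algebra k E] [Field K] [Field L] [Algebra k K]
  [Algebra K L] [Algebra k L] [IsScalarTower k K L] [FiniteDimensional K L]

/-- compatibility with the norm of fields -/
theorem tnorm_one_tmul (y : L) :
    tnorm k E K L (1 ⊗ₜ[k] y) = 1 ⊗ₜ[k] (Algebra.norm K y) := by
  classical
  let β := Module.finBasis K L
  have h := tnorm_eq k E β (fun _ : Unit => (1 : E)) (fun _ => y)
  rw [Finset.univ_unique, Finset.sum_singleton] at h
  rw [h, Algebra.norm_eq_matrix_det β]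
  have h2 : (1 : E) ⊗ₜ[k] (Algebra.leftMulMatrix β y).det =
      Algebra.TensorProduct.includeRight (R := k) (A := E) (B := K)
        (Algebra.leftMulMatrix β y).det := rfl
  rw [h2, AlgHom.map_det]
  congr 1

variable {k E K L}

/-- base change -/
theorem tnorm_map {E' : Type*} [CommRing E'] [Algebra k E'] (φ : E →ₐ[k] E') (z : E ⊗[k] L) :
    tnorm k E' K L (Algebra.TensorProduct.map φ (AlgHom.id k L) z) =
      Algebra.TensorProduct.map φ (AlgHom.id k K) (tnorm k E K L z) := by
  classical
  let β := Module.finBasis K L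
  obtain ⟨s, hs⟩ := TensorProduct.exists_finset z
  have h1 : z = ∑ j : s, (j : E × L).1 ⊗ₜ[k] (j : E × L).2 := by
    rw [hs]
    exact (Finset.sum_coe_sort s (fun j : E × L => j.1 ⊗ₜ[k] j.2)).symm
  rw [h1, map_sum]
  have h2 : ∀ j : s, (Algebra.TensorProduct.map φ (AlgHom.id k L)) ((j : E × L).1 ⊗ₜ[k] (j : E × L).2) =
      (φ (j : E × L).1) ⊗ₜ[k] (j : E × L).2 := fun j => rfl
  rw [Finset.sum_congr rfl (fun j _ => h2 j), tnorm_eq k E' β, tnorm_eq k E β, AlgHom.map_det]
  congr 1
  ext i i'
  simp [map_sum]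

end Field

section Poly

variable {k K L : Type*} [Field k] [Field K] [Field L] [Algebra k K]
  [Algebra K L] [Algebra k L] [IsScalarTower k K L] [FiniteDimensional K L]

/-- the relative norm is given by polynomials -/
theorem exists_poly {I J : Type*} [Fintype I] [Fintype J] (e : Module.Basis I k K) (c : J → L) :
    ∃ P : I → MvPolynomial J k, ∀ {E : Type*} [CommRing E] [Algebra k E] (x : J → E),
      tnorm k E K L (∑ j, x j ⊗ₜ[k] c j) = ∑ i, (MvPolynomial.aeval x (P i)) ⊗ₜ[k] e i := by
  classical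
  let E₀ := MvPolynomial J k
  let bE := Algebra.TensorProduct.basis E₀ e
  let z : E₀ ⊗[k] L := ∑ j, (MvPolynomial.X j : E₀) ⊗ₜ[k] c j
  refine ⟨fun i => bE.repr (tnorm k E₀ K L z) i, ?_⟩
  intro E _ _ x
  have h1 := tnorm_map (K := K) (MvPolynomial.aeval (R := k) x) z
  have h2 : Algebra.TensorProduct.map (MvPolynomial.aeval (R := k) x) (AlgHom.id k L) z =
      ∑ j, x j ⊗ₜ[k] c j := by
    simp only [z, map_sum]
    refine Finset.sum_congr rfl fun j _ => ?_
    rw [Algebra.TensorProduct.map_tmul, MvPolynomial.aeval_X]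
    rfl
  rw [h2] at h1
  rw [h1]
  conv_lhs => rw [← bE.sum_repr (tnorm k E₀ K L z)]
  rw [map_sum]
  refine Finset.sum_congr rfl fun i _ => ?_
  rw [Algebra.TensorProduct.basis_apply, TensorProduct.smul_tmul', smul_eq_mul, mul_one,
    Algebra.TensorProduct.map_tmul]
  rfl

end Poly

end K986.TNorm
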