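import Groth.Agent.NumberField.K986.Coord
import Groth.Agent.NumberField.K986.TNorm
import Groth.Agent.NumberField.K986.PolyVal

/-!
# Units are norms at unramified places
-/

set_option autoImplicit false
open NumberField IsDedekindDomain
open scoped TensorProduct

namespace K986.UnitNorm

open StrongApprox LocNorm NormClose Coord TNorm Filter Topology

section Compact

variable {k : Type*} [Field k] [NumberField k]

/-- the ring of integers of a completion is compact -/
theorem isCompact_integers (v : HeightOneSpectrum (𝓞 k)) :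
    IsCompact {x : v.adicCompletion k | Valued.v x ≤ 1} := by
  refine TotallyBounded.isCompact_of_isComplete ?_ ?_
  · rw [totallyBounded_iff_subset_finite_iUnion_nhds_zero]
    intro U hU
    obtain ⟨V, hVU, hVo, hV0⟩ := mem_nhds_iff.1 hU
    obtain ⟨m, hm⟩ := exists_ball_subset v hVo hV0
    have hfin : Finite (𝓞 k ⧸ v.asIdeal ^ m) :=
      Ring.HasFiniteQuotients.finiteQuotient (pow_ne_zero m v.ne_bot)
    let rep : 𝓞 k ⧸ v.asIdeal ^ m → 𝓞 k := fun c => (Ideal.Quotient.mk_surjective c).choose
    have hrep : ∀ c, Ideal.Quotient.mk (v.asIdeal ^ m) (rep c) = c := fun c =>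
      (Ideal.Quotient.mk_surjective c).choose_spec
    refine ⟨Set.range fun c => algebraMap k (v.adicCompletion k) (rep c : k), Set.finite_range _, ?_⟩
    intro x hx
    have hx' : Valued.v x ≤ 1 := hx
    -- approximate by a global element
    obtain ⟨y, hy⟩ : ∃ y : k, Valued.v (x - algebraMap k (v.adicCompletion k) y) <
        WithZero.exp (-(m : ℤ)) := by
      have h1 : IsOpen {z : v.adicCompletion k | Valued.v (z - x) < WithZero.exp (-(m : ℤ))} :=
        isOpen_ball v x _
      obtain ⟨y, hy⟩ := (HeightOneSpectrum.denseRange_algebraMap (K := k) v).exists_mem_open h1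
        ⟨x, by simp⟩
      refine ⟨y, ?_⟩
      rw [Valuation.map_sub_swap]
      exact hy
    have hle : WithZero.exp (-(m : ℤ)) ≤ (1 : WithZero (Multiplicative ℤ)) := by
      rw [← WithZero.exp_zero, WithZero.exp_le_exp]
      omega
    have hy1 : v.valuation k y ≤ 1 := by
      rw [← valued_algebraMap]
      have e : algebraMap k (v.adicCompletion k) y = x - (x - algebraMap k _ y) := by ring
      rw [e]
      exact (Valuation.map_sub _ _ _).trans (max_le hx' (hy.le.trans hle))
    obtain ⟨a, ha⟩ := v.exists_valuation_sub_lt_of_integer hy1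
      (Units.mk0 (WithZero.exp (-(m : ℤ))) WithZero.exp_ne_zero)
    have ha' : v.valuation k ((a : k) - y) < WithZero.exp (-(m : ℤ)) := ha
    have h2 : a - rep (Ideal.Quotient.mk _ a) ∈ v.asIdeal ^ m := by
      rw [← Ideal.Quotient.eq, hrep]
    have h3 : v.valuation k ((a - rep (Ideal.Quotient.mk _ a) : 𝓞 k) : k) ≤
        WithZero.exp (-(m : ℤ)) := by
      have h4 : v.valuation k ((a - rep (Ideal.Quotient.mk _ a) : 𝓞 k) : k) =
        v.intValuation (a - rep (Ideal.Quotient.mk _ a)) := v.valuation_of_algebraMap _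
      rw [h4]
      exact (v.intValuation_le_pow_iff_mem _ m).2 h2
    rw [Set.mem_iUnion₂]
    refine ⟨_, ⟨Ideal.Quotient.mk _ a, rfl⟩, ?_⟩
    refine ⟨x - algebraMap k (v.adicCompletion k) (rep (Ideal.Quotient.mk _ a) : k), ?_, ?_⟩
    · apply hVU
      apply hm
      rw [sub_zero]
      have e : x - algebraMap k (v.adicCompletion k) (rep (Ideal.Quotient.mk _ a) : k) =
          (x - algebraMap k _ y) - algebraMap k _ ((a : k) - y) +
            algebraMap k _ ((a - rep (Ideal.Quotient.mk _ a) : 𝓞 k) : k) := by
        have e1 : ((a - rep (Ideal.Quotient.mk _ a) : 𝓞 k) : k) =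
          (a : k) - (rep (Ideal.Quotient.mk _ a) : k) := map_sub _ _ _
        rw [e1, map_sub, map_sub]
        ring
      rw [e]
      refine (Valuation.map_add _ _ _).trans (max_le ((Valuation.map_sub _ _ _).trans
        (max_le hy.le ?_)) ?_)
      · rw [valued_algebraMap]
        exact ha'.le
      · rw [valued_algebraMap]
        exact h3
    · change algebraMap k (v.adicCompletion k) (rep (Ideal.Quotient.mk _ a) : k) +
        (x - algebraMap k (v.adicCompletion k) (rep (Ideal.Quotient.mk _ a) : k)) = x
      ring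
  · apply IsClosed.isComplete
    rw [← isOpen_compl_iff, isOpen_iff_forall_mem_open]
    intro x hx
    have hx' : ¬ Valued.v x ≤ 1 := hx
    push Not at hx'
    refine ⟨{y | Valued.v (y - x) < Valued.v x}, ?_, isOpen_ball v x _, ?_⟩
    · intro y hy h1
      have hy' : Valued.v (y - x) < Valued.v x := hy
      have h2 : Valued.v y = Valued.v x := by
        have e : y = x + (y - x) := by ring
        rw [e]
        exact Valuation.map_add_eq_of_lt_left _ hy'
      have h3 : Valued.v y ≤ 1 := h1
      rw [h2] at h3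
      exact absurd h3 (not_le.2 hx')
    · change Valued.v (x - x) < Valued.v x
      rw [sub_self, map_zero]
      exact lt_trans zero_lt_one hx'

theorem isCompact_closedBall (v : HeightOneSpectrum (𝓞 k)) (C : ℕ) :
    IsCompact {x : v.adicCompletion k | Valued.v x ≤ WithZero.exp (C : ℤ)} := by
  obtain ⟨c, hc⟩ := v.valuedAdicCompletion_surjective k (WithZero.exp (C : ℤ))
  have hc0 : c ≠ 0 := by
    rintro rfl
    rw [map_zero] at hc
    exact WithZero.exp_ne_zero hc.symm
  have h1 := (isCompact_integers v).image (continuous_const_mul c)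
  convert h1 using 1
  ext x
  simp only [Set.mem_image, Set.mem_setOf_eq]
  constructor
  · intro hx
    refine ⟨c⁻¹ * x, ?_, by rw [mul_inv_cancel_left₀ hc0]⟩
    rw [map_mul, map_inv₀, hc]
    calc _ ≤ (WithZero.exp (C : ℤ))⁻¹ * WithZero.exp (C : ℤ) := mul_le_mul' le_rfl hx
      _ = 1 := inv_mul_cancel₀ WithZero.exp_ne_zero
  · rintro ⟨y, hy, rfl⟩
    rw [map_mul, hc]
    exact mul_le_of_le_one_right' hy

end Compact

section Unit

variable (k E K L : Type*) [Field k] [CommRing E] [Algebra k E] [Field K] [Field L] [Algebra k K]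
  [Algebra K L] [Algebra k L] [IsScalarTower k K L] [FiniteDimensional K L]

theorem isUnit_of_tnorm {x : E ⊗[k] L} (hx : IsUnit (tnorm k E K L x)) : IsUnit x := by
  classical
  let _ := alg k E K L
  let b := basis k E (Module.finBasis K L)
  have : Module.Free (E ⊗[k] K) (E ⊗[k] L) := Module.Free.of_basis b
  have : Module.Finite (E ⊗[k] K) (E ⊗[k] L) := Module.Finite.of_basis b
  have h1 : IsUnit (LinearMap.det (Algebra.lmul (E ⊗[k] K) (E ⊗[k] L) x)) := hx
  rw [← LinearMap.isUnit_iff_isUnit_det, Module.End.isUnit_iff] at h1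
  obtain ⟨y, hy⟩ := h1.2 1
  exact IsUnit.of_mul_eq_one y hy

end Unit

section Main

variable {k K L : Type*} [Field k] [NumberField k] [Field K] [NumberField K] [Field L]
  [NumberField L] [Algebra k K] [Algebra K L] [Algebra k L] [IsScalarTower k K L]

open Classical in
/-- units at the places above `v` are norms if there are unramified places above them -/
theorem exists_tnorm_eq (v : HeightOneSpectrum (𝓞 k))
    (hunr : ∀ W : HeightOneSpectrum (𝓞 K), W.asIdeal.LiesOver v.asIdeal →
      ∃ Q : Ideal (𝓞 L), Q.IsPrime ∧ Q.LiesOver W.asIdeal ∧ Q.ramificationIdx (𝓞 K) = 1)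
    (u : K) (hu0 : u ≠ 0)
    (hu : ∀ W : HeightOneSpectrum (𝓞 K), W.asIdeal.LiesOver v.asIdeal → W.valuation K u = 1) :
    ∃ x : v.adicCompletion k ⊗[k] L, IsUnit x ∧
      tnorm k (v.adicCompletion k) K L x = (1 : v.adicCompletion k) ⊗ₜ[k] u := by
  let E := v.adicCompletion k
  let c := Module.finBasis k L
  let e := Module.finBasis k K
  let bE := Algebra.TensorProduct.basis E e
  obtain ⟨P, hP⟩ := exists_poly (K := K) e (fun j => c j)
  obtain ⟨C, hC⟩ := exists_bound v c
  let G : (Fin (Module.finrank k L) → E) → (Fin (Module.finrank k K) → E) :=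
    fun x i => MvPolynomial.aeval x (P i)
  have hG : Continuous G := continuous_pi fun i => PolyVal.continuous_aeval (P i)
  let S : Set (Fin (Module.finrank k L) → E) :=
    Set.univ.pi fun _ => {x : E | Valued.v x ≤ WithZero.exp (C : ℤ)}
  have hS : IsCompact S := isCompact_univ_pi fun _ => isCompact_closedBall v C
  have hGS : IsClosed (G '' S) := (hS.image hG).isClosed
  let t : Fin (Module.finrank k K) → E := fun i => algebraMap k E (e.repr u i)
  have ht : t ∈ G '' S := by
    rw [← hGS.closure_eq, mem_closure_iff]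
    intro U hU htU
    obtain ⟨U', hU', hUU'⟩ := isOpen_pi_iff'.1 hU t htU
    have h1 : ∀ i, ∃ n : ℕ, ∀ x : E, Valued.v (x - t i) ≤ WithZero.exp (-(n : ℤ)) → x ∈ U' i :=
      fun i => exists_ball_subset v (hU' i).1 (hU' i).2
    choose n hn using h1
    obtain ⟨m, hm⟩ := coord_small v e (Finset.univ.sup n)
    obtain ⟨y, hy⟩ := exists_norm_close (K := K) (L := L) (finite_over v).toFinset
      (fun W hW => hunr W (by simpa using hW)) u (fun W hW => hu W (by simpa using hW)) m
    let x : Fin (Module.finrank k L) → E := fun j => algebraMap k E (c.repr (y : L) j)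
    have hxG : ∀ i, G x i = algebraMap k E (e.repr (Algebra.norm K (y : L)) i) := by
      have h2 := hP x
      have h3 : ∑ j, x j ⊗ₜ[k] c j = (1 : E) ⊗ₜ[k] (y : L) := by
        conv_rhs => rw [← c.sum_repr (y : L), TensorProduct.tmul_sum]
        refine Finset.sum_congr rfl fun j _ => ?_
        rw [← TensorProduct.smul_tmul, Algebra.smul_def, mul_one]
      have h4 : (1 : E) ⊗ₜ[k] Algebra.norm K (y : L) =
          ∑ i, algebraMap k E (e.repr (Algebra.norm K (y : L)) i) ⊗ₜ[k] e i := by
        conv_lhs => rw [← e.sum_repr (Algebra.norm K (y : L)), TensorProduct.tmul_sum]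
        refine Finset.sum_congr rfl fun j _ => ?_
        rw [← TensorProduct.smul_tmul, Algebra.smul_def, mul_one]
      rw [h3, tnorm_one_tmul, h4] at h2
      intro i
      have h5 : ∀ f : Fin (Module.finrank k K) → E, bE.repr (∑ i, f i ⊗ₜ[k] e i) i = f i := by
        intro f
        have : ∑ i, f i ⊗ₜ[k] e i = ∑ i, f i • bE i := by
          refine Finset.sum_congr rfl fun j _ => ?_
          rw [Algebra.TensorProduct.basis_apply, TensorProduct.smul_tmul', smul_eq_mul, mul_one]
        rw [this, bE.repr_sum_self]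
      have h6 := congrArg (fun z => bE.repr z i) h2
      simp only [h5] at h6
      exact h6.symm
    refine ⟨G x, ?_, ⟨x, ?_, rfl⟩⟩
    · apply hUU'
      intro i _
      apply hn
      rw [hxG, ← map_sub, valued_algebraMap, ← Finsupp.sub_apply, ← map_sub]
      refine (hm _ (fun W hW => hy W (by simpa using hW)) i).trans ?_
      rw [WithZero.exp_le_exp]
      have : n i ≤ Finset.univ.sup n := Finset.le_sup (Finset.mem_univ i)
      omega
    · intro j _
      change Valued.v (algebraMap k E (c.repr (y : L) j)) ≤ _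
      rw [valued_algebraMap]
      exact hC y j
  obtain ⟨x, _, hx⟩ := ht
  have hfin : tnorm k (v.adicCompletion k) K L (∑ j, x j ⊗ₜ[k] c j) = (1 : E) ⊗ₜ[k] u := by
    rw [hP x]
    have h4 : (1 : E) ⊗ₜ[k] u = ∑ i, algebraMap k E (e.repr u i) ⊗ₜ[k] e i := by
      conv_lhs => rw [← e.sum_repr u, TensorProduct.tmul_sum]
      refine Finset.sum_congr rfl fun j _ => ?_
      rw [← TensorProduct.smul_tmul, Algebra.smul_def, mul_one]
    rw [h4]
    refine Finset.sum_congr rfl fun i _ => ?_
    have := congrFun hx i
    change MvPolynomial.aeval x (P i) = algebraMap k E (e.repr u i) at this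
    rw [this]
  refine ⟨_, ?_, hfin⟩
  apply isUnit_of_tnorm k E K L
  rw [hfin]
  exact (IsUnit.mk0 u hu0).map (Algebra.TensorProduct.includeRight (R := k) (A := E) (B := K))

end Main

end K986.UnitNorm
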